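import Groth.Agent.SBBundle.TwType
import Mathlib.CategoryTheory.Linear.LinearFunctor

/-!
# Linearity of the tensor product of modules
-/

set_option autoImplicit false
set_option backward.isDefEq.respectTransparency false
set_option backward.isDefEq.respectTransparency.types false

universe u
open CategoryTheory CategoryTheory.Limits AlgebraicGeometry TopologicalSpace Opposite MonoidalCategory

noncomputable section
namespace Groth.Agent.SBBundle

variable {X : Scheme.{u}}

theorem shP_map_smul (P : CohB1.PMod X) (h : P ⟶ P) (r : Coh.Γtop X)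
    (hh : ∀ (U : X.Opens) (z : P.obj (op U)),
      h.app (op U) z = KFlatLib.sm (X.presheaf.map (homOfLE (le_top : U ≤ ⊤)).op r) z) :
    DCoh.shP.map h = Formal.smulModΓ (DCoh.shP.obj P) r := by
  refine ((PresheafOfModules.sheafificationAdjunction (𝟙 X.ringCatSheaf.obj)).homEquiv _ _).injective ?_
  rw [Adjunction.homEquiv_unit, Adjunction.homEquiv_unit]
  refine (Adjunction.unit_naturality _ h).trans ?_
  ext U z
  obtain ⟨U⟩ := U
  show (KFlatLib.unitShP P).app (op U) (h.app (op U) z) =
    (Formal.smulModΓ (DCoh.shP.obj P) r).app U ((KFlatLib.unitShP P).app (op U) z)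
  rw [hh, KLin.smulModΓ_app_apply]
  exact ((KFlatLib.unitShP P).app (op U)).hom.map_smul _ z

theorem tensorBi_map_smulModΓ (M N : X.Modules) (r : Coh.Γtop X) :
    (DCoh.tensorBi.obj M).map (Formal.smulModΓ N r) =
      Formal.smulModΓ ((DCoh.tensorBi.obj M).obj N) r := by
  refine shP_map_smul _ _ r fun U z => ?_
  induction z using TensorProduct.induction_on with
  | zero => exact (map_zero _).trans (smul_zero _).symm
  | add z z' hz hz' => exact (map_add _ z z').trans ((congrArg₂ (· + ·) hz hz').trans (smul_add _ _ _).symm)
  | tmul s t => exact ((KFlatLib.tm_smul _ s t).symm).trans (KFlatLib.tm_smul_left _ s t)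

theorem tensorBi_flip_map_smulModΓ (M N : X.Modules) (r : Coh.Γtop X) :
    (DCoh.tensorBi.map (Formal.smulModΓ M r)).app N =
      Formal.smulModΓ ((DCoh.tensorBi.obj M).obj N) r := by
  refine shP_map_smul _ _ r fun U z => ?_
  induction z using TensorProduct.induction_on with
  | zero => exact (map_zero _).trans (smul_zero _).symm
  | add z z' hz hz' => exact (map_add _ z z').trans ((congrArg₂ (· + ·) hz hz').trans (smul_add _ _ _).symm)
  | tmul s t => exact KFlatLib.tm_smul_left _ s t

variable (k : Type u) [CommRing k] [X.Over (Spec (CommRingCat.of k))]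

instance linear_tensorBi_obj (M : X.Modules) : ((DCoh.tensorBi (X := X)).obj M).Linear k :=
  (Functor.linear_iff k _).mpr fun N a => by
    rw [KLin.smul_id, KLin.smul_id]
    exact tensorBi_map_smulModΓ M N _

instance linear_tensorBi_flip_obj (N : X.Modules) : ((DCoh.tensorBi (X := X)).flip.obj N).Linear k :=
  (Functor.linear_iff k _).mpr fun M a => by
    rw [KLin.smul_id, KLin.smul_id]
    exact tensorBi_flip_map_smulModΓ M N _

end Groth.Agent.SBBundle
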