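import Groth.Agent.PnCoh.Finite.TwistInv
import Groth.Agent.KFlatLib.Scheme.PullTensor
import Groth.Agent.ASBunK.Isotypic
import Groth.Agent.Lib.CurveTensor
import Groth.Agent.Lib.PnDualSymbol
import Groth.Agent.CurveBC.Coh
import Groth.Prelude.Def_BrSev

/-!
# Twisting types of modules that split over a field extension
-/

set_option autoImplicit false
set_option backward.isDefEq.respectTransparency false
set_option backward.isDefEq.respectTransparency.types false
set_option linter.unusedSectionVars false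

universe u

open CategoryTheory CategoryTheory.Limits AlgebraicGeometry TopologicalSpace

noncomputable section

namespace Groth.Agent.SBBundle

/-- `O(a) ⊗ O(b) ≅ O(a + b)` on projective space. -/
theorem twistProjSpace_add (n : ℕ) (R : Type u) [CommRing R] (a b : ℤ) :
    Nonempty (CohB1.tensorMod (Twist.twistProjSpace n R a) (Twist.twistProjSpace n R b) ≅
      Twist.twistProjSpace n R (a + b)) := by
  letI := MvPolynomial.gradedAlgebra (σ := Fin (n + 1)) (R := R)
  exact PnCoh.Finite.twist_tensor_iso (fun j : ULift.{u} (Fin (n + 1)) => (MvPolynomial.X j.down : MvPolynomial _ R))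
    (fun j => MvPolynomial.isHomogeneous_X _ _) PnDual.iSup_D_X a b

/-- `O(d)` on projective space is invertible. -/
theorem isInvertible_twistProjSpace (n : ℕ) (R : Type u) [CommRing R] (d : ℤ) :
    PicF.IsInvertible (Twist.twistProjSpace n R d) := by
  letI := MvPolynomial.gradedAlgebra (σ := Fin (n + 1)) (R := R)
  exact PnCoh.Finite.isInvertible_twist (fun j : ULift.{u} (Fin (n + 1)) => (MvPolynomial.X j.down : MvPolynomial _ R))
    (fun j => MvPolynomial.isHomogeneous_X _ _) PnDual.iSup_D_X d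

/-- `O(0) ≅ O` on projective space. -/
theorem twistProjSpace_zero (n : ℕ) (R : Type u) [CommRing R] :
    Nonempty (Twist.twistProjSpace n R 0 ≅ Coh.structureModule (CohB1.ProjSpace n R)) := by
  letI := MvPolynomial.gradedAlgebra (σ := Fin (n + 1)) (R := R)
  exact ⟨(@asIso _ _ _ _ _ (PnCoh.Finite.isIso_oneHom
    (fun j : ULift.{u} (Fin (n + 1)) => (MvPolynomial.X j.down : MvPolynomial _ R))
    (fun j => MvPolynomial.isHomogeneous_X _ _) PnDual.iSup_D_X)).symm⟩

variable {X Y : Scheme.{u}}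

/-- Pullback commutes with tensor products. -/
def pullTensorIso (g : Y ⟶ X) (M N : X.Modules) :
    (Scheme.Modules.pullback g).obj (CohB1.tensorMod M N) ≅
      CohB1.tensorMod ((Scheme.Modules.pullback g).obj M) ((Scheme.Modules.pullback g).obj N) :=
  haveI := KFlatLib.isIso_pullTensorHom g M N
  asIso (KFlatLib.pullTensorHom g M N)

/-- Tensor product of isomorphisms. -/
def tensorIsoMap {M M' N N' : X.Modules} (a : M ≅ M') (b : N ≅ N') :
    CohB1.tensorMod M N ≅ CohB1.tensorMod M' N' :=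
  (DCoh.tensorBi.mapIso a).app N ≪≫ (DCoh.tensorBi.obj M').mapIso b

instance additive_tensorBi_flip' (N : X.Modules) :
    ((DCoh.tensorBi (X := X)).flip.obj N).Additive where
  map_add {M M' f g} := by
    show (DCoh.tensorBi.map (f + g)).app N = (DCoh.tensorBi.map f).app N + (DCoh.tensorBi.map g).app N
    rw [Functor.map_add, NatTrans.app_add]

/-- A decomposition of a tensor product. -/
def decTensor {ι κ : Type*} [Fintype ι] [DecidableEq ι] [Fintype κ] [DecidableEq κ] {M N : X.Modules}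
    {Ms : ι → X.Modules} {Ns : κ → X.Modules} (d : ASBunK.Dec M Ms) (d' : ASBunK.Dec N Ns) :
    ASBunK.Dec (CohB1.tensorMod M N) (fun q : Σ _ : ι, κ => CohB1.tensorMod (Ms q.1) (Ns q.2)) :=
  (d.map (DCoh.tensorBi.flip.obj N)).bind fun i => d'.map (DCoh.tensorBi.obj (Ms i))

section Splitting

variable {k : Type u} [Field k] {p : X ⟶ Spec (CommRingCat.of k)} {K : Type u} [Field K] [Algebra k K] {n : ℕ}
  (e : BrSev.Splitting p K n)

theorem twist_add (a b : ℤ) :
    Nonempty (CohB1.tensorMod (e.twist a) (e.twist b) ≅ e.twist (a + b)) := by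
  obtain ⟨i⟩ := twistProjSpace_add n K a b
  exact ⟨(pullTensorIso e.iso.hom _ _).symm ≪≫ (Scheme.Modules.pullback e.iso.hom).mapIso i⟩

theorem isInvertible_twist (a : ℤ) : PicF.IsInvertible (e.twist a) :=
  PicLoc.isInvertible_pullback _ (isInvertible_twistProjSpace n K a)

theorem twist_zero : Nonempty (e.twist 0 ≅ Coh.structureModule (BrSev.bc p K)) := by
  obtain ⟨i⟩ := twistProjSpace_zero n K
  exact ⟨(Scheme.Modules.pullback e.iso.hom).mapIso i ≪≫ CurveBC.unitIso e.iso.hom⟩

theorem isTwPow_of_dec {M : X.Modules} {j : ℤ} {ι : Type*} [Fintype ι] [DecidableEq ι]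
    (d : ASBunK.Dec (BrSev.bcMod p K M) (fun _ : ι => e.twist j)) :
    BrSev.IsTwPow e j (Fintype.card ι) M :=
  ⟨(d.reindex (Fintype.equivFin ι).symm).iso⟩

theorem isTwPow_iff_dec {M : X.Modules} {j : ℤ} {r : ℕ} :
    BrSev.IsTwPow e j r M ↔ Nonempty (ASBunK.Dec (BrSev.bcMod p K M) (fun _ : Fin r => e.twist j)) :=
  ⟨fun ⟨i⟩ => ⟨ASBunK.decOfIso i⟩, fun ⟨d⟩ => ⟨d.iso⟩⟩

theorem isTwPow_tensor {M N : X.Modules} {j l : ℤ} {r s : ℕ} (hM : BrSev.IsTwPow e j r M)
    (hN : BrSev.IsTwPow e l s N) : BrSev.IsTwPow e (j + l) (r * s) (CohB1.tensorMod M N) := by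
  obtain ⟨iM⟩ := hM
  obtain ⟨iN⟩ := hN
  obtain ⟨i⟩ := twist_add e j l
  have d := ((decTensor (ASBunK.decOfIso iM) (ASBunK.decOfIso iN)).mapIso fun _ => i).ofIso
    (pullTensorIso (BrSev.proj p K) M N).symm
  have h := isTwPow_of_dec e d
  rwa [Fintype.card_sigma, Finset.sum_const, Finset.card_univ, Fintype.card_fin, Fintype.card_fin,
    smul_eq_mul] at h

theorem isTwPow_congr {M N : X.Modules} {j : ℤ} {r : ℕ} (hM : BrSev.IsTwPow e j r M) (i : M ≅ N) :
    BrSev.IsTwPow e j r N := by
  obtain ⟨iM⟩ := hM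
  exact ⟨((Scheme.Modules.pullback (BrSev.proj p K)).mapIso i).symm ≪≫ iM⟩

theorem isTwPow_structure : BrSev.IsTwPow e 0 1 (Coh.structureModule X) := by
  obtain ⟨i⟩ := twist_zero e
  exact ⟨CurveBC.unitIso _ ≪≫ i.symm ≪≫ (coproductUniqueIso fun _ : Fin 1 => e.twist 0).symm⟩

end Splitting

end Groth.Agent.SBBundle
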