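import Groth.Agent.SBBundle.Pull
import Groth.Agent.SBBundle.TwType
import Groth.Agent.H23.InvStalk
import Groth.Agent.Lib.CurveDualPrep

/-!
# Locally free modules of twisting type with multiplicity one are invertible
-/

set_option autoImplicit false
set_option backward.isDefEq.respectTransparency false
set_option backward.isDefEq.respectTransparency.types false
set_option linter.unusedSectionVars false

universe u

open CategoryTheory CategoryTheory.Limits AlgebraicGeometry TopologicalSpace

noncomputable section

namespace Groth.Agent.SBBundle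

/-- A free module isomorphic to an invertible one has rank one. -/
theorem eq_one_of_dec_iso {Y : Scheme.{u}} [Nonempty Y] {G L : Y.Modules} {N : ℕ}
    (d : ASBunK.Dec G (fun _ : Fin N => Coh.structureModule Y)) (hL : PicF.IsInvertible L) (i : G ≅ L) :
    N = 1 := by
  obtain ⟨y⟩ := ‹Nonempty Y›
  obtain ⟨e⟩ := H23.InvStalk.exists_stalk_equiv hL y
  have E : (Fin N → Y.presheaf.stalk y) ≃ₗ[Y.presheaf.stalk y] Y.presheaf.stalk y :=
    (LinearEquiv.ofBijective _ (stkVec_bijective d y)).trans
      ((((DerSch.stalkFunctor Y y).mapIso i).toLinearEquiv).trans e)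
  have h := E.finrank_eq
  rwa [Module.finrank_fin_fun, Module.finrank_self] at h

/-- A locally free module with invertible pullback along a surjective morphism is invertible. -/
theorem isInvertible_of_pullback_iso {X Y : Scheme.{u}} (g : Y ⟶ X) [Surjective g] {M : X.Modules}
    (hM : FlatMod.IsFinLocFree M) {L : Y.Modules} (hL : PicF.IsInvertible L)
    (i : (Scheme.Modules.pullback g).obj M ≅ L) : PicF.IsInvertible M := by
  refine CurveDuality.isInvertible_of_rank_one fun x => ?_
  obtain ⟨U, n, hx, ⟨e⟩⟩ := hM x
  suffices n = 1 by subst this; exact ⟨U, hx, ⟨e⟩⟩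
  obtain ⟨y, hy⟩ := g.surjective x
  let V := g ⁻¹ᵁ U
  haveI : Nonempty V := ⟨⟨y, show g y ∈ U from hy ▸ hx⟩⟩
  let d := ((pullFree (g ∣_ U) (ASBunK.Dec.coprod (Fs := fun _ : Fin n => Coh.structureModule (U : Scheme.{u})))))
  refine eq_one_of_dec_iso (Y := (V : Scheme.{u})) d (PicLoc.isInvertible_pullback V.ι hL) ?_
  exact (Scheme.Modules.pullback (g ∣_ U)).mapIso
      (e.symm ≪≫ (Scheme.Modules.restrictFunctorIsoPullback U.ι).app M) ≪≫
    (Scheme.Modules.pullbackComp (g ∣_ U) U.ι).app M ≪≫
    (Scheme.Modules.pullbackCongr (morphismRestrict_ι g U)).app M ≪≫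
    ((Scheme.Modules.pullbackComp V.ι g).app M).symm ≪≫ (Scheme.Modules.pullback V.ι).mapIso i

variable {k : Type u} [Field k] {X : Scheme.{u}} {p : X ⟶ Spec (CommRingCat.of k)} {K : Type u} [Field K]
  [Algebra k K] {n : ℕ} (e : BrSev.Splitting p K n)

/-- The base change projection is surjective. -/
theorem surjective_proj : Surjective (BrSev.proj p K) := by
  haveI : Surjective (Spec.map (CommRingCat.ofHom (algebraMap k K))) :=
    ⟨fun z => ⟨IsLocalRing.closedPoint K, Subsingleton.elim _ _⟩⟩
  infer_instance

include e in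
/-- A locally free module of twisting type with multiplicity one is invertible. -/
theorem isInvertible_of_isTwPow_one {M : X.Modules} (hM : FlatMod.IsFinLocFree M) {j : ℤ}
    (h : BrSev.IsTwPow e j 1 M) : PicF.IsInvertible M := by
  haveI := surjective_proj (p := p) (K := K)
  exact isInvertible_of_pullback_iso (BrSev.proj p K) hM (isInvertible_twist e j)
    (h.some ≪≫ coproductUniqueIso (fun _ : Fin 1 => e.twist j))

end Groth.Agent.SBBundle
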