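import Groth.Agent.SBBundle.Split
import Groth.Agent.SBBundle.RankOne
import Groth.Agent.KFlatLib.Perfect.Tensor
import Groth.Agent.H23.PicInv
import Groth.Agent.H23.PicMul
import Groth.Agent.CSALib.Index
import Groth.Agent.CSALib.PiTensor

/-!
# The indecomposable modules of every twisting type on a Severi–Brauer scheme
-/

set_option autoImplicit false
set_option backward.isDefEq.respectTransparency false
set_option backward.isDefEq.respectTransparency.types false
set_option linter.style.haveILetI false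
set_option linter.unusedSectionVars false

universe u

open CategoryTheory CategoryTheory.Limits AlgebraicGeometry TopologicalSpace
open scoped TensorProduct

noncomputable section

namespace Groth.Agent.SBBundle

section MapEnd

variable (k : Type u) [Field k] {C D : Type*} [Category C] [Category D] [Preadditive C] [Preadditive D]
  [Linear k C] [Linear k D]

/-- A linear functor on endomorphisms. -/
def mapEndAlg (Φ : C ⥤ D) [Φ.Additive] [Φ.Linear k] (M : C) : End M →ₐ[k] End (Φ.obj M) where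
  toFun f := Φ.map f
  map_one' := Φ.map_id M
  map_mul' f g := Φ.map_comp g f
  map_zero' := Φ.map_zero M M
  map_add' f g := Φ.map_add
  commutes' c := by
    rw [Algebra.algebraMap_eq_smul_one, Algebra.algebraMap_eq_smul_one]
    exact (Φ.map_smul c (𝟙 M)).trans (congrArg (c • ·) (Φ.map_id M))

end MapEnd

variable {k : Type u} [Field k] {X : Scheme.{u}} [X.Over (Spec (CommRingCat.of k))]

/-- Actions of algebras on two modules give an action of the tensor product on the tensor product. -/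
def tensorAct {A B : Type u} [Ring A] [Algebra k A] [Ring B] [Algebra k B] {M N : X.Modules}
    (φ : A →ₐ[k] End M) (ψ : B →ₐ[k] End N) : A ⊗[k] B →ₐ[k] End (CohB1.tensorMod M N) :=
  haveI : ((DCoh.tensorBi (X := X)).flip.obj N).Additive := additive_tensorBi_flip' N
  Algebra.TensorProduct.lift ((mapEndAlg k ((DCoh.tensorBi (X := X)).flip.obj N) M).comp φ)
    ((mapEndAlg k ((DCoh.tensorBi (X := X)).obj M) N).comp ψ) fun a b => by
      show (DCoh.tensorBi.obj M).map (ψ b) ≫ (DCoh.tensorBi.map (φ a)).app N =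
        (DCoh.tensorBi.map (φ a)).app N ≫ (DCoh.tensorBi.obj M).map (ψ b)
      exact (DCoh.tensorBi.map (φ a)).naturality (ψ b)

theorem exists_algClosed_splitting {A : Type u} [Ring A] [Algebra k A] [Algebra.IsCentral k A] [IsSimpleRing A]
    (K : Type u) [Field K] [Algebra k K] [IsAlgClosed K] {n : ℕ} (hn : 0 < n)
    (hA : Module.finrank k A = n * n) : Nonempty (K ⊗[k] A ≃ₐ[K] Matrix (Fin n) (Fin n) K) := by
  haveI : Module.Finite k A := Module.finite_of_finrank_pos (by rw [hA]; positivity)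
  haveI := CSALib.isSimpleRing_baseChange (k := k) (A := A) K
  haveI := CSALib.isCentral_baseChange (k := k) (A := A) K
  obtain ⟨m, hm, ⟨e⟩⟩ := CSALib.exists_algEquiv_matrix_of_isSepClosed K (K ⊗[k] A)
  have h := e.toLinearEquiv.finrank_eq
  rw [Module.finrank_baseChange, hA, Module.finrank_matrix, Module.finrank_self, mul_one, Fintype.card_fin] at h
  obtain rfl : n = m := by nlinarith
  exact ⟨e⟩

theorem isFinLocFree_of_isInvertible {M : X.Modules} (hM : PicF.IsInvertible M) : FlatMod.IsFinLocFree M :=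
  fun y => let ⟨U, hy, he⟩ := InvEnd.isFinLocFreeOfRank_one hM y; ⟨U, 1, hy, he⟩

theorem isFinLocFree_tensorMod {M N : X.Modules} (hM : FlatMod.IsFinLocFree M) (hN : FlatMod.IsFinLocFree N) :
    FlatMod.IsFinLocFree (CohB1.tensorMod M N) :=
  KFlatLib.isFinLocFree_tensor hM hN

variable [IsProper (X ↘ Spec (CommRingCat.of k))] {K : Type u} [Field K] [Algebra k K] [IsAlgClosed K]
  {m : ℕ} (e : BrSev.Splitting (X ↘ Spec (CommRingCat.of k)) K m)

theorem twist_congr {M : X.Modules} {j l : ℤ} {r : ℕ} (h : j = l) (hM : BrSev.IsTwPow e j r M) :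
    BrSev.IsTwPow e l r M := h ▸ hM

/-- The multiplicity is determined by the module. -/
theorem mult_unique {M : X.Modules} (hM : Coh.IsCoh M) {j : ℤ} {r s : ℕ}
    (h : BrSev.IsTwPow e j r M) (h' : BrSev.IsTwPow e j s M) : r = s :=
  Nat.mul_self_inj.1 ((finrank_hom e hM hM h h).symm.trans (finrank_hom e hM hM h' h'))

/-- The multiplicity of the indecomposable module divides that of every module of the same type. -/
theorem dvd_of_type {M W : X.Modules} (hM : Coh.IsCoh M) (hW : Coh.IsCoh W) (hWi : ASBunK.Indec W) {j : ℤ}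
    {r s : ℕ} (hr : 0 < r) (hMt : BrSev.IsTwPow e j r M) (hWt : BrSev.IsTwPow e j s W) : s ∣ r := by
  obtain ⟨W₀, c, s₀, -, -, hW₀, hR, ⟨iM⟩, hW₀t⟩ := exists_pow_indec e hM hr hMt
  obtain ⟨i⟩ := indec_unique e (ASBunK.isCoh_of_isRetr hR hM) hW hW₀ hWi hW₀t hWt
  have d : ASBunK.Dec M (fun _ : Fin c => W) := (ASBunK.decOfIso iM).mapIso fun _ => i
  have h := isTwPow_of_dec e
    ((d.map (Scheme.Modules.pullback (BrSev.proj (X ↘ Spec (CommRingCat.of k)) K))).bind
      fun _ => ASBunK.decOfIso hWt.some)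
  rw [mult_unique e hM hMt h]
  exact ⟨c, by simp [mul_comm]⟩

theorem mult_eq {W W' : X.Modules} (hW : Coh.IsCoh W) (hW' : Coh.IsCoh W') (hi : ASBunK.Indec W)
    (hi' : ASBunK.Indec W') {j : ℤ} {r r' : ℕ} (hr : 0 < r) (hr' : 0 < r')
    (ht : BrSev.IsTwPow e j r W) (ht' : BrSev.IsTwPow e j r' W') : r = r' :=
  Nat.dvd_antisymm (dvd_of_type e hW' hW hi hr' ht' ht) (dvd_of_type e hW hW' hi' hr ht ht')

variable {A : Type u} [Ring A] [Algebra k A] [Algebra.IsCentral k A] [IsSimpleRing A]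
  (s : BrSev.SBStr k A ((m + 1) * (m + 1) - (m + 1)) (X ↘ Spec (CommRingCat.of k)))
  (hA : Module.finrank k A = (m + 1) * (m + 1))

include s hA in
/-- Modules of the types `-i` with actions of the tensor powers. -/
theorem exists_tower (i : ℕ) :
    ∃ M : X.Modules, FlatMod.IsFinLocFree M ∧ BrSev.IsTwPow e (-(i : ℤ)) ((m + 1) ^ i) M ∧
      Nonempty (CSAGal.tpow k A i →ₐ[k] End M) := by
  haveI : Module.Finite k A := Module.finite_of_finrank_pos (by rw [hA]; positivity)
  induction i with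
  | zero =>
    refine ⟨Coh.structureModule X, isFinLocFree_of_isInvertible (PicLoc.isInvertible_structureModule X),
      by simpa using isTwPow_structure e, ⟨(Algebra.ofId k _).comp (CSALib.powZero k A).toAlgHom⟩⟩
  | succ i ih =>
    obtain ⟨M, hMf, hMt, ⟨φ⟩⟩ := ih
    obtain ⟨T, hTf, hTt, ⟨ψ⟩⟩ : ∃ T : X.Modules, FlatMod.IsFinLocFree T ∧
        BrSev.IsTwPow e (-1) (m + 1) T ∧ Nonempty (A →ₐ[k] End T) := by
      obtain ⟨Φ⟩ := exists_algClosed_splitting K (Nat.succ_pos m) hA
      let b := Module.finBasis k A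
      exact ⟨taut b s, isFinLocFree_taut b s, isTwPow_taut e s Φ hA b, ⟨actTaut b s⟩⟩
    refine ⟨CohB1.tensorMod T M, isFinLocFree_tensorMod hTf hMf, ?_,
      ⟨(tensorAct ψ φ).comp (CSALib.powSucc k A i).toAlgHom⟩⟩
    rw [pow_succ']
    exact twist_congr e (by push_cast; ring) (isTwPow_tensor e hTt hMt)

include s hA in
/-- The indecomposable module of type `-i`. -/
theorem exists_indec_neg (i : ℕ) :
    ∃ (W : X.Modules) (r : ℕ), 0 < r ∧ FlatMod.IsFinLocFree W ∧ ASBunK.Indec W ∧
      BrSev.IsTwPow e (-(i : ℤ)) r W ∧ CSAGal.IsIndex k (CSAGal.tpow k A i) r := by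
  haveI := ASBunK.isLocallyNoetherian_of_proper k (X ↘ Spec (CommRingCat.of k))
  haveI : Module.Finite k A := Module.finite_of_finrank_pos (by rw [hA]; positivity)
  obtain ⟨M, hMf, hMt, ⟨φ⟩⟩ := exists_tower e s hA i
  have hMc := CurveDeg.isCoh_of_isFinLocFree hMf
  obtain ⟨W, c, r, -, hr, hW, hR, -, hWt⟩ := exists_pow_indec e hMc (pow_pos (Nat.succ_pos m) i) hMt
  obtain ⟨-, hsimple, -, hdim⟩ := CSALib.centralSimple_pi_fin (k := k) i (fun _ => A) fun _ => ⟨‹_›, ‹_›, ‹_›⟩
  haveI := hsimple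
  refine ⟨W, r, hr, ASBunK.isFinLocFree_of_isRetr hR hMf, hW, hWt,
    isIndex_of_algHom e hMc (ASBunK.isCoh_of_isRetr hR hMc) (pow_pos (Nat.succ_pos m) i) hr hMt hWt hW ?_ φ⟩
  rw [hdim, Finset.prod_const, Finset.card_univ, Fintype.card_fin, hA, mul_pow]

include hA in
/-- The class of an algebra of degree `n` is killed by `n`. -/
theorem similar_pow_deg : CSALib.Similar k (CSAGal.tpow k A (m + 1)) k := by
  haveI : Module.Finite k A := Module.finite_of_finrank_pos (by rw [hA]; positivity)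
  obtain ⟨d, hd⟩ := CSALib.exists_isIndex k A
  have hkill := CSALib.similar_pow_index hd
  obtain ⟨-, c, D', hD', hD'a, -, hdim', ⟨i⟩⟩ := hd
  have h := i.toLinearEquiv.finrank_eq
  rw [hA, Module.finrank_matrix, hdim', Fintype.card_fin] at h
  have hdm : d * c = m + 1 := Nat.mul_self_inj.1 (by rw [h]; ring)
  rw [← hdm]
  exact CSALib.pow_mul_split hkill c

include s hA in
/-- An invertible module of type `-p` when the `p`-th power is split. -/
theorem exists_invertible_neg {p : ℕ} (hp : CSALib.Similar k (CSAGal.tpow k A p) k) :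
    ∃ L : X.Modules, PicF.IsInvertible L ∧ BrSev.IsTwPow e (-(p : ℤ)) 1 L := by
  haveI : Module.Finite k A := Module.finite_of_finrank_pos (by rw [hA]; positivity)
  obtain ⟨W, r, -, hWf, -, hWt, hidx⟩ := exists_indec_neg e s hA p
  obtain ⟨hc, -, -⟩ := CSALib.centralSimple_pow k A p
  haveI := hc
  obtain rfl : r = 1 := CSALib.index_eq_of_similar hidx (by rw [Module.finrank_self, one_pow]) hp
  exact ⟨W, isInvertible_of_isTwPow_one e hWf hWt, hWt⟩

theorem exists_inverse_type {L : X.Modules} (hL : PicF.IsInvertible L) {j : ℤ}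
    (hLt : BrSev.IsTwPow e j 1 L) :
    ∃ D : X.Modules, PicF.IsInvertible D ∧ BrSev.IsTwPow e (-j) 1 D := by
  obtain ⟨D, hD, ⟨i⟩⟩ := H23.PicInv.exists_inverse hL
  refine ⟨D, hD, ?_⟩
  let p := X ↘ Spec (CommRingCat.of k)
  obtain ⟨t0⟩ := twist_add e (-j) j
  obtain ⟨z⟩ := twist_zero e
  open H23.PicMul in
  have h1 : PicF.cl (e.twist (-j)) * PicF.cl (e.twist j) = 1 :=
    cl_eq_iff.2 ⟨t0 ≪≫ eqToIso (congrArg e.twist (neg_add_cancel j)) ≪≫ z⟩
  open H23.PicMul in
  have h2 : PicF.cl (e.twist j) * PicF.cl (BrSev.bcMod p K D) = 1 :=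
    cl_eq_iff.2 ⟨tensorIsoMap (hLt.some ≪≫ coproductUniqueIso (fun _ : Fin 1 => e.twist j)).symm (Iso.refl _) ≪≫
      (pullTensorIso _ L D).symm ≪≫
      (Scheme.Modules.pullback (BrSev.proj p K)).mapIso i ≪≫ CurveBC.unitIso _⟩
  open H23.PicMul in
  obtain ⟨iD⟩ := cl_eq_iff.1 (left_inv_eq_right_inv h1 h2)
  exact ⟨iD.symm ≪≫ (coproductUniqueIso fun _ : Fin 1 => e.twist (-j)).symm⟩

include s hA in
/-- An invertible module of every type divisible by an exponent killing the class. -/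
theorem exists_invertible_mul {p : ℕ} (hp : CSALib.Similar k (CSAGal.tpow k A p) k) (a : ℤ) :
    ∃ L : X.Modules, PicF.IsInvertible L ∧ BrSev.IsTwPow e (a * (p : ℤ)) 1 L := by
  have hneg : ∀ b : ℕ, ∃ L : X.Modules, PicF.IsInvertible L ∧ BrSev.IsTwPow e (-((b : ℤ) * p)) 1 L := fun b => by
    obtain ⟨L, hL, hLt⟩ := exists_invertible_neg e s hA (CSALib.pow_mul_split hp b)
    exact ⟨L, hL, twist_congr e (by push_cast; ring) hLt⟩
  obtain ⟨b, rfl | rfl⟩ := Int.eq_nat_or_neg a
  · obtain ⟨L, hL, hLt⟩ := hneg b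
    obtain ⟨D, hD, hDt⟩ := exists_inverse_type e hL hLt
    exact ⟨D, hD, twist_congr e (by ring) hDt⟩
  · obtain ⟨L, hL, hLt⟩ := hneg b
    exact ⟨L, hL, twist_congr e (by ring) hLt⟩

include s hA in
/-- The indecomposable module of every type, with the index of the corresponding power. -/
theorem exists_indec (j : ℤ) :
    ∃ (W : X.Modules) (r : ℕ), 0 < r ∧ FlatMod.IsFinLocFree W ∧ ASBunK.Indec W ∧
      BrSev.IsTwPow e j r W ∧ CSAGal.IsIndex k (CSAGal.tpow k A j.natAbs) r := by
  haveI := ASBunK.isLocallyNoetherian_of_proper k (X ↘ Spec (CommRingCat.of k))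
  obtain ⟨b, hb | hb⟩ := Int.eq_nat_or_neg j
  · subst hb
    rw [Int.natAbs_natCast]
    obtain ⟨W', r', hr', hW'f, hW'i, hW't, hidx⟩ := exists_indec_neg e s hA b
    obtain ⟨W₀, s₀, hs₀, hW₀f, -, hW₀t, -⟩ := exists_indec_neg e s hA (b * m)
    obtain ⟨L, hL, hLt⟩ := exists_invertible_mul e s hA (similar_pow_deg hA) (b : ℤ)
    have hMt := twist_congr e (show -((b * m : ℕ) : ℤ) + (b : ℤ) * ((m + 1 : ℕ) : ℤ) = (b : ℤ) by push_cast; ring)
      (isTwPow_tensor e hW₀t hLt)
    have hMf := isFinLocFree_tensorMod hW₀f (isFinLocFree_of_isInvertible hL)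
    have hMc := CurveDeg.isCoh_of_isFinLocFree hMf
    obtain ⟨W, c, r, -, hr, hWi, hR, -, hWt⟩ := exists_pow_indec e hMc (by simpa using hs₀) hMt
    have hWf := ASBunK.isFinLocFree_of_isRetr hR hMf
    obtain rfl : r = r' := Nat.dvd_antisymm
      (dvd_of_neg e hWf (CurveDeg.isCoh_of_isFinLocFree hW'f) hWi hr hWt hW't)
      (dvd_of_neg e hW'f (CurveDeg.isCoh_of_isFinLocFree hWf) hW'i hr' hW't (twist_congr e (neg_neg _).symm hWt))
    exact ⟨W, r, hr, hWf, hWi, hWt, hidx⟩
  · subst hb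
    rw [Int.natAbs_neg, Int.natAbs_natCast]
    exact exists_indec_neg e s hA b

include s hA in
/-- The multiplicity of an indecomposable module is the index of the power of the algebra. -/
theorem isIndex_mult {W : X.Modules} (hW : Coh.IsCoh W) (hWi : ASBunK.Indec W) {j : ℤ} {r : ℕ} (hr : 0 < r)
    (hWt : BrSev.IsTwPow e j r W) : CSAGal.IsIndex k (CSAGal.tpow k A j.natAbs) r := by
  haveI := ASBunK.isLocallyNoetherian_of_proper k (X ↘ Spec (CommRingCat.of k))
  obtain ⟨W', r', hr', hW'f, hW'i, hW't, hidx⟩ := exists_indec e s hA j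
  rwa [mult_eq e hW (CurveDeg.isCoh_of_isFinLocFree hW'f) hWi hW'i hr hr' hWt hW't]

end Groth.Agent.SBBundle
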