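import Groth.Agent.SBBundle.TensorLinear
import Groth.Agent.ASBunK.Simple
import Groth.Agent.H23.PnChart
import Groth.Agent.H23.MaxAbelian
import Groth.Agent.QCoh.DevissageP
import Groth.Prelude.Def_GSzCSA

/-!
# Calculus of twisting types: endomorphisms, multiplicities, indices
-/

set_option autoImplicit false
set_option backward.isDefEq.respectTransparency false
set_option backward.isDefEq.respectTransparency.types false
set_option linter.style.haveILetI false
set_option linter.unusedSectionVars false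

universe u

open CategoryTheory CategoryTheory.Limits AlgebraicGeometry TopologicalSpace
open scoped TensorProduct

noncomputable section

namespace Groth.Agent.ASBunK.Dec

variable {R : Type*} [CommRing R] {C : Type*} [Category C] [Abelian C] [Linear R C]
  {n m : Type*} [Fintype n] [DecidableEq n] [Fintype m] [DecidableEq m]

/-- Morphisms between decomposed objects are matrices of morphisms between the summands. -/
def homEquiv {F G : C} {Fs : n → C} {Gs : m → C} (d : Dec F Fs) (d' : Dec G Gs) :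
    (F ⟶ G) ≃ₗ[R] ((q : n × m) → (Fs q.1 ⟶ Gs q.2)) where
  toFun φ q := d.ι q.1 ≫ φ ≫ d'.π q.2
  map_add' φ ψ := by funext q; simp [Preadditive.add_comp, Preadditive.comp_add]
  map_smul' a φ := by funext q; simp [Linear.smul_comp, Linear.comp_smul]
  invFun h := ∑ q : n × m, d.π q.1 ≫ h q ≫ d'.ι q.2
  left_inv φ := by
    calc ∑ q : n × m, d.π q.1 ≫ (d.ι q.1 ≫ φ ≫ d'.π q.2) ≫ d'.ι q.2
        = ∑ a, ∑ b, (d.π a ≫ d.ι a) ≫ φ ≫ (d'.π b ≫ d'.ι b) := by
          rw [Fintype.sum_prod_type]; simp
      _ = (∑ a, d.π a ≫ d.ι a) ≫ φ ≫ ∑ b, d'.π b ≫ d'.ι b := by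
          simp only [Preadditive.sum_comp, Preadditive.comp_sum]
          rw [Finset.sum_comm]
      _ = φ := by rw [d.total, d'.total, Category.id_comp, Category.comp_id]
  right_inv h := by
    funext q
    simp only [Preadditive.sum_comp, Preadditive.comp_sum, Category.assoc]
    rw [Finset.sum_eq_single q]
    · simp [reassoc_of% (d.ι_π q.1), d'.ι_π q.2]
    · rintro ⟨a, b⟩ - hne
      by_cases ha : a = q.1
      · subst ha
        have hb : b ≠ q.2 := fun hb => hne (Prod.ext rfl hb)
        simp [reassoc_of% (d.ι_π q.1), d'.ι_π_ne b q.2 hb]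
      · simp [reassoc_of% (d.ι_π_ne q.1 a fun h => ha h.symm)]
    · simp

/-- Endomorphisms of a power are matrices of endomorphisms. -/
def endMatrix {F W : C} (d : Dec F (fun _ : n => W)) : End F ≃ₐ[R] Matrix n n (End W) :=
  AlgEquiv.ofLinearEquiv
    { toFun := fun f => Matrix.of fun a b => d.ι b ≫ f ≫ d.π a
      map_add' := fun f g => by
        ext a b
        simp only [Matrix.of_apply, Matrix.add_apply]
        exact congrFun ((homEquiv (R := R) d d).map_add f g) (b, a)
      map_smul' := fun c f => by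
        ext a b
        exact congrFun ((homEquiv (R := R) d d).map_smul c f) (b, a)
      invFun := fun M => (homEquiv (R := R) d d).symm fun q => M q.2 q.1
      left_inv := fun f => (homEquiv (R := R) d d).symm_apply_apply f
      right_inv := fun M => by
        ext a b
        exact congrFun ((homEquiv (R := R) d d).apply_symm_apply fun q => M q.2 q.1) (b, a) }
    (by
      ext a b
      show d.ι b ≫ 𝟙 F ≫ d.π a = (1 : Matrix n n (End W)) a b
      rw [Category.id_comp]
      by_cases h : a = b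
      · subst h; rw [d.ι_π, Matrix.one_apply_eq]; rfl
      · rw [d.ι_π_ne b a (Ne.symm h), Matrix.one_apply_ne h])
    fun f g => by
      ext a c
      let X1 : n → End W := fun b => d.ι b ≫ f ≫ d.π a
      let X2 : n → End W := fun b => d.ι c ≫ g ≫ d.π b
      show d.ι c ≫ (f * g : End F) ≫ d.π a = ∑ b, X1 b * X2 b
      calc d.ι c ≫ (g ≫ f) ≫ d.π a = d.ι c ≫ g ≫ (∑ b, d.π b ≫ d.ι b) ≫ f ≫ d.π a := by
            rw [d.total, Category.id_comp, Category.assoc]
        _ = ∑ b, (d.ι c ≫ g ≫ d.π b) ≫ (d.ι b ≫ f ≫ d.π a) := by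
            simp only [Preadditive.sum_comp, Preadditive.comp_sum, Category.assoc]
        _ = _ := rfl

end Groth.Agent.ASBunK.Dec

namespace Groth.Agent.SBBundle

variable {k : Type u} [Field k] {X : Scheme.{u}} [X.Over (Spec (CommRingCat.of k))]
  [IsProper (X ↘ Spec (CommRingCat.of k))] {K : Type u} [Field K] [Algebra k K] [IsAlgClosed K] {n : ℕ}
  (e : BrSev.Splitting (X ↘ Spec (CommRingCat.of k)) K n)

/-- The base change as a scheme over the extension field. -/
abbrev bcOver : (BrSev.bc (X ↘ Spec (CommRingCat.of k)) K).Over (Spec (CommRingCat.of K)) :=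
  ⟨BrSev.bcTo (X ↘ Spec (CommRingCat.of k)) K⟩

attribute [local instance] bcOver

instance : IsProper (BrSev.bc (X ↘ Spec (CommRingCat.of k)) K ↘ Spec (CommRingCat.of K)) :=
  ASBunK.isProper_baseChangeTo k (X ↘ Spec (CommRingCat.of k)) K

include e

theorem isIntegral_bc : IsIntegral (BrSev.bc (X ↘ Spec (CommRingCat.of k)) K) := by
  haveI := H23.PnChart.isIntegral_projSpace n K
  exact H23.MaxAbelian.isIntegral_of_iso e.iso

theorem twist_id_ne_zero (j : ℤ) : (𝟙 (e.twist j)) ≠ 0 := fun h => by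
  haveI := isIntegral_bc e
  exact CurveEnd.not_isZero _ 1 Nat.one_pos (InvEnd.isFinLocFreeOfRank_one (isInvertible_twist e j))
    ((IsZero.iff_id_eq_zero _).2 h)

/-- Endomorphisms of a twisting sheaf are the scalars. -/
theorem finrank_twist_end (j : ℤ) : Module.finrank K (e.twist j ⟶ e.twist j) = 1 := by
  haveI := isIntegral_bc e
  refine finrank_eq_one (𝟙 (e.twist j)) (twist_id_ne_zero e j) fun φ => ?_
  obtain ⟨c, hc⟩ := ASBunK.exists_smul_id_of_invertible K (isInvertible_twist e j) φ
  exact ⟨c, hc.symm⟩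

theorem indec_twist (j : ℤ) : ASBunK.Indec (e.twist j) := by
  haveI := isIntegral_bc e
  refine ⟨fun h => twist_id_ne_zero e j ((IsZero.iff_id_eq_zero _).1 h), fun A B ⟨i⟩ => ?_⟩
  obtain ⟨c, hc⟩ := ASBunK.exists_smul_id_of_invertible K (isInvertible_twist e j)
    (i.hom ≫ biprod.fst ≫ biprod.inl ≫ i.inv)
  by_cases h0 : c = 0
  · refine Or.inl ((IsZero.iff_id_eq_zero A).2 ?_)
    have := congrArg (fun φ => biprod.inl ≫ i.inv ≫ φ ≫ i.hom ≫ biprod.fst) hc
    simpa [h0] using this
  · refine Or.inr ((IsZero.iff_id_eq_zero B).2 ?_)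
    have := congrArg (fun φ => biprod.inr ≫ i.inv ≫ φ ≫ i.hom ≫ biprod.snd) hc
    simp only [Category.assoc, Iso.inv_hom_id_assoc, biprod.inr_fst_assoc, zero_comp, comp_zero,
      Linear.smul_comp, Linear.comp_smul, Category.id_comp, biprod.inr_snd] at this
    exact (smul_eq_zero.1 this.symm).resolve_left h0

/-- The dimension of the homomorphisms between modules of the same twisting type. -/
theorem finrank_hom {M N : X.Modules} (hM : Coh.IsCoh M) (hN : Coh.IsCoh N) {j : ℤ} {r s : ℕ}
    (hMt : BrSev.IsTwPow e j r M) (hNt : BrSev.IsTwPow e j s N) : Module.finrank k (M ⟶ N) = r * s := by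
  haveI : CompactSpace X := QuasiCompact.compactSpace_of_compactSpace (X ↘ Spec (CommRingCat.of k))
  obtain ⟨iM⟩ := hMt
  obtain ⟨iN⟩ := hNt
  have hpb := IsPullback.of_hasPullback (X ↘ Spec (CommRingCat.of k))
    (Spec.map (CommRingCat.ofHom (algebraMap k K)))
  let E := LinearEquiv.ofBijective (ASBunK.θ k K (BrSev.proj (X ↘ Spec (CommRingCat.of k)) K) hpb M N)
    ⟨ASBunK.θ_injective k K _ hpb hN.1, ASBunK.θ_surjective k K _ hpb hM hN.1⟩
  rw [← Module.finrank_baseChange (R := K) (S := k) (M' := (M ⟶ N)),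
    (E.trans ((ASBunK.decOfIso iM).homEquiv (R := K) (ASBunK.decOfIso iN))).finrank_eq]
  haveI : Module.Finite K (e.twist j ⟶ e.twist j) :=
    Module.finite_of_finrank_pos (by rw [finrank_twist_end e j]; exact Nat.one_pos)
  rw [Module.finrank_pi_fintype, Finset.sum_congr rfl fun q _ => finrank_twist_end e j]
  simp [Fintype.card_prod]

/-- A module of twisting type is a power of an indecomposable one of the same type. -/
theorem exists_pow_indec {M : X.Modules} (hM : Coh.IsCoh M) {j : ℤ} {r : ℕ} (hr : 0 < r)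
    (hMt : BrSev.IsTwPow e j r M) : ∃ (W : X.Modules) (m s : ℕ), 0 < m ∧ 0 < s ∧ ASBunK.Indec W ∧
      ASBunK.IsRetr W M ∧ Nonempty (M ≅ BrSev.pow W m) ∧ BrSev.IsTwPow e j s W := by
  obtain ⟨iM⟩ := hMt
  have hM0 : ¬ IsZero M := fun h => by
    have d := ASBunK.decOfIso iM
    have hz : IsZero (BrSev.bcMod (X ↘ Spec (CommRingCat.of k)) K M) :=
      (Scheme.Modules.pullback _).map_isZero h
    refine twist_id_ne_zero e j ?_
    rw [← d.ι_π ⟨0, hr⟩, hz.eq_of_tgt (d.ι ⟨0, hr⟩) 0, zero_comp]
  obtain ⟨W, m, s, hm, hW, hR, hMW, ⟨hs⟩⟩ :=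
    ASBunK.exists_pow_indec k (X ↘ Spec (CommRingCat.of k)) K (indec_twist e j) hM hM0 iM
  refine ⟨W, m, s, hm, Nat.pos_of_ne_zero fun h => hW.1 ?_, hW, hR, hMW, ⟨hs⟩⟩
  subst h
  exact ASBunK.isZero_of_bcMod k (X ↘ Spec (CommRingCat.of k)) K (ASBunK.isCoh_of_isRetr hR hM)
    (ASBunK.decOfIso hs).isZero

/-- Indecomposable modules of the same twisting type are isomorphic. -/
theorem indec_unique {W W' : X.Modules} (hW : Coh.IsCoh W) (hW' : Coh.IsCoh W') (hi : ASBunK.Indec W)
    (hi' : ASBunK.Indec W') {j : ℤ} {r s : ℕ} (ht : BrSev.IsTwPow e j r W)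
    (ht' : BrSev.IsTwPow e j s W') : Nonempty (W ≅ W') :=
  ASBunK.indec_isotypic_unique k (X ↘ Spec (CommRingCat.of k)) K hW hW' hi hi' ht.some ht'.some

/-- An indecomposable module of twisting type has no nonzero non-invertible endomorphism. -/
theorem isUnit_or_eq_zero {W : X.Modules} (hW : Coh.IsCoh W) (hi : ASBunK.Indec W) {j : ℤ} {r : ℕ}
    (ht : BrSev.IsTwPow e j r W) (f : End W) : IsUnit f ∨ f = 0 := by
  haveI := isIntegral_bc e
  haveI : CompactSpace X := QuasiCompact.compactSpace_of_compactSpace (X ↘ Spec (CommRingCat.of k))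
  have hpb := IsPullback.of_hasPullback (X ↘ Spec (CommRingCat.of k))
    (Spec.map (CommRingCat.ofHom (algebraMap k K)))
  haveI := ASBunK.finite_hom k hW hW
  haveI : IsSimpleRing (End W) := ASBunK.isSimpleRing_end_of_schur k K _ hpb hW hi.1
    (ASBunK.decOfIso ht.some) (ASBunK.exists_smul_id_of_invertible K (isInvertible_twist e j))
  refine or_iff_not_imp_right.2 fun hf => (isUnit_iff_isIso f).2 ?_
  exact ASBunK.isIso_of_simple k hi f hf

/-- Multiplicities of opposite types divide each other. -/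
theorem dvd_of_neg {W W' : X.Modules} (hW : FlatMod.IsFinLocFree W) (hW' : Coh.IsCoh W')
    (hi : ASBunK.Indec W) {j : ℤ} {r r' : ℕ} (hr : 0 < r)
    (ht : BrSev.IsTwPow e j r W) (ht' : BrSev.IsTwPow e (-j) r' W') : r ∣ r' := by
  haveI := ASBunK.isLocallyNoetherian_of_proper k (X ↘ Spec (CommRingCat.of k))
  have hWc := CurveDeg.isCoh_of_isFinLocFree hW
  haveI : Nontrivial (End W) := ⟨⟨𝟙 W, 0, hi.id_ne_zero⟩⟩
  letI : DivisionRing (End W) := DivisionRing.ofIsUnitOrEqZero (isUnit_or_eq_zero e hWc hi ht)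
  have hT : BrSev.IsTwPow e 0 (r * r') (CohB1.tensorMod W W') := by
    simpa using isTwPow_tensor e ht ht'
  have hd : Module.finrank k (Coh.structureModule X ⟶ CohB1.tensorMod W W') = r * r' :=
    (finrank_hom e QCoh.isCoh_structureModule' (CurveTensor.isCoh_tensor hW hW')
      (isTwPow_structure e) hT).trans (one_mul _)
  let Φ : X.Modules ⥤ X.Modules := DCoh.tensorBi.flip.obj W'
  haveI : Φ.Additive := additive_tensorBi_flip' W'
  haveI : Φ.Linear k := linear_tensorBi_flip_obj k W'
  letI : Module (End W) (Coh.structureModule X ⟶ Φ.obj W) :=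
    { smul := fun d h => h ≫ Φ.map d
      one_smul := fun h => (congrArg (h ≫ ·) (Φ.map_id W)).trans (Category.comp_id h)
      mul_smul := fun d d' h =>
        (congrArg (h ≫ ·) (Φ.map_comp d' d)).trans (Category.assoc _ _ _).symm
      smul_zero := fun d => zero_comp
      smul_add := fun d h h' => Preadditive.add_comp _ _ _ _ _ _
      add_smul := fun d d' h => (congrArg (h ≫ ·) (Φ.map_add (f := d) (g := d'))).trans
        (Preadditive.comp_add _ _ _ _ _ _)
      zero_smul := fun h => (congrArg (h ≫ ·) (Φ.map_zero W W)).trans comp_zero }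
  haveI : IsScalarTower k (End W) (Coh.structureModule X ⟶ Φ.obj W) :=
    ⟨fun c d h => by
      show h ≫ Φ.map (c • d) = c • (h ≫ Φ.map d)
      rw [Φ.map_smul, Linear.comp_smul]⟩
  have hkey := Module.finrank_mul_finrank k (End W) (Coh.structureModule X ⟶ Φ.obj W)
  have hD : Module.finrank k (End W) = r * r := finrank_hom e hWc hWc ht ht
  rw [hD, show Module.finrank k (Coh.structureModule X ⟶ Φ.obj W) = r * r' from hd, mul_assoc] at hkey
  exact ⟨_, (Nat.eq_of_mul_eq_mul_left hr hkey).symm⟩

/-- If a simple algebra of the right dimension acts on a module of twisting type, the multiplicity of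
the indecomposable module of that type is the index of the algebra. -/
theorem isIndex_of_algHom {M W : X.Modules} (hM : Coh.IsCoh M) (hW : Coh.IsCoh W) {j : ℤ} {r s : ℕ}
    (hr : 0 < r) (hs : 0 < s) (hMt : BrSev.IsTwPow e j r M) (hWt : BrSev.IsTwPow e j s W)
    (hWi : ASBunK.Indec W) {B : Type u} [Ring B] [Algebra k B] [IsSimpleRing B]
    (hB : Module.finrank k B = r * r) (φ : B →ₐ[k] End M) : CSAGal.IsIndex k B s := by
  haveI := ASBunK.finite_hom k hM hM
  obtain ⟨W₀, m, s₀, hm, hs₀, hW₀, hR, ⟨iM⟩, hW₀t⟩ := exists_pow_indec e hM hr hMt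
  obtain ⟨i⟩ := indec_unique e (ASBunK.isCoh_of_isRetr hR hM) hW hW₀ hWi hW₀t hWt
  let d := (ASBunK.decOfIso iM).mapIso fun _ => i
  have hME : Module.finrank k (End M) = r * r := finrank_hom e hM hM hMt hMt
  haveI : Nontrivial (End M) := Module.nontrivial_of_finrank_pos (R := k) (by rw [hME]; exact Nat.mul_pos hr hr)
  haveI : Module.Finite k B := Module.finite_of_finrank_pos (by rw [hB]; exact Nat.mul_pos hr hr)
  haveI : Module.Finite k (End M) := ‹Module.Finite k (M ⟶ M)›
  have hinj : Function.Injective φ := φ.toRingHom.injective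
  have hbij : Function.Bijective φ :=
    ⟨hinj, (LinearMap.injective_iff_surjective_of_finrank_eq_finrank (f := φ.toLinearMap)
      (hB.trans hME.symm)).1 hinj⟩
  have hfr : Module.finrank k (End W) = s ^ 2 := (finrank_hom e hW hW hWt hWt).trans (sq s).symm
  haveI : Nontrivial (End W) := ⟨⟨𝟙 W, 0, hWi.id_ne_zero⟩⟩
  letI : DivisionRing (End W) := DivisionRing.ofIsUnitOrEqZero (isUnit_or_eq_zero e hW hWi hWt)
  exact ⟨hs, m, End W, ‹DivisionRing (End W)›, inferInstance, hm,
    hfr, ⟨(AlgEquiv.ofBijective φ hbij).trans d.endMatrix⟩⟩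

end Groth.Agent.SBBundle
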