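import Groth.Agent.SBBundle.StalkSub
import Groth.Agent.SBBundle.Calculus
import Groth.Agent.SBAut.Main
import Mathlib.LinearAlgebra.Matrix.Basis
import Mathlib.RingTheory.Finiteness.Projective
import Mathlib.LinearAlgebra.TensorProduct.Basis

/-!
# The tautological bundle on the Severi–Brauer scheme of an algebra
-/

set_option autoImplicit false
set_option backward.isDefEq.respectTransparency false
set_option backward.isDefEq.respectTransparency.types false
set_option linter.style.haveILetI false
set_option linter.unusedSectionVars false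

universe u

open CategoryTheory CategoryTheory.Limits AlgebraicGeometry TopologicalSpace Opposite
open scoped TensorProduct

noncomputable section

namespace Groth.Agent.SBBundle

variable {k : Type u} [Field k] {A : Type u} [Ring A] [Algebra k A] {N : ℕ} (b : Module.Basis (Fin N) k A)

/-- Coordinates of `R ⊗ A`. -/
def vecOf (R : Type u) [CommRing R] [Algebra k R] : (Fin N → R) ≃ₗ[R] R ⊗[k] A :=
  (Algebra.TensorProduct.basis R b).equivFun.symm

theorem vecOf_apply (R : Type u) [CommRing R] [Algebra k R] (c : Fin N → R) :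
    vecOf b R c = ∑ i, c i ⊗ₜ[k] b i := by
  rw [vecOf, Module.Basis.equivFun_symm_apply]
  refine Finset.sum_congr rfl fun i _ => ?_
  rw [Algebra.TensorProduct.basis_apply, TensorProduct.smul_tmul', smul_eq_mul, mul_one]

theorem bc_vecOf {R S : Type u} [CommRing R] [Algebra k R] [CommRing S] [Algebra k S] (φ : R →ₐ[k] S)
    (c : Fin N → R) : SBAut.bc φ (vecOf b R c) = vecOf b S (φ ∘ c) := by
  simp [vecOf_apply, map_sum]

/-- Left multiplication in coordinates. -/
theorem tmul_mul_vecOf (R : Type u) [CommRing R] [Algebra k R] (a : A) (c : Fin N → R) :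
    ((1 : R) ⊗ₜ[k] a) * vecOf b R c =
      vecOf b R (((Algebra.leftMulMatrix b a).map (algebraMap k R)).mulVec c) := by
  classical
  rw [vecOf_apply, vecOf_apply, Finset.mul_sum]
  have hb : ∀ j, a * b j = ∑ i, Algebra.leftMulMatrix b a i j • b i := fun j => by
    simp only [Algebra.leftMulMatrix_eq_repr_mul]
    exact (b.sum_repr (a * b j)).symm
  calc ∑ j, ((1 : R) ⊗ₜ[k] a) * (c j ⊗ₜ[k] b j)
      = ∑ j, ∑ i, (algebraMap k R (Algebra.leftMulMatrix b a i j) * c j) ⊗ₜ[k] b i := by
        refine Finset.sum_congr rfl fun j _ => ?_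
        rw [Algebra.TensorProduct.tmul_mul_tmul, one_mul, hb, TensorProduct.tmul_sum]
        refine Finset.sum_congr rfl fun i _ => ?_
        rw [TensorProduct.tmul_smul, TensorProduct.smul_tmul', Algebra.smul_def]
    _ = ∑ i, (((Algebra.leftMulMatrix b a).map (algebraMap k R)).mulVec c) i ⊗ₜ[k] b i := by
        rw [Finset.sum_comm]
        refine Finset.sum_congr rfl fun i _ => ?_
        rw [← TensorProduct.sum_tmul]
        rfl

variable {X : Scheme.{u}} [X.Over (Spec (CommRingCat.of k))] {c : ℕ}
  (s : BrSev.SBStr k A c (X ↘ Spec (CommRingCat.of k)))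

/-- The base field acts on the local rings. -/
abbrev stAlg (x : X) : Algebra k (X.presheaf.stalk x) :=
  SBAut.algOf (X ↘ Spec (CommRingCat.of k)) (X.fromSpecStalk x)

theorem stAlg_algebraMap (x : X) (a : k) :
    letI := stAlg (k := k) x
    algebraMap k (X.presheaf.stalk x) a =
      X.presheaf.germ ⊤ x trivial (Coh.toGlobal (X ↘ Spec (CommRingCat.of k)) a) := by
  letI := stAlg (k := k) x
  have h := congrArg Scheme.Hom.appTop
    (SBAut.algOf_spec (X ↘ Spec (CommRingCat.of k)) (X.fromSpecStalk x))
  rw [Scheme.Hom.comp_appTop] at h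
  have h1 := Scheme.ΓSpecIso_naturality (CommRingCat.ofHom (algebraMap k (X.presheaf.stalk x)))
  rw [Scheme.fromSpecStalk_appTop] at h
  have h3 := (congrArg (· ≫ (Scheme.ΓSpecIso (X.presheaf.stalk x)).hom) h).trans h1
  have h2 := ConcreteCategory.congr_hom h3 ((Scheme.ΓSpecIso (CommRingCat.of k)).inv a)
  simp at h2
  exact h2.symm

/-- The point of the local ring at `x`. -/
def stPt (x : X) : letI := stAlg (k := k) x
    BrSev.Pts (X ↘ Spec (CommRingCat.of k)) (X.presheaf.stalk x) :=
  letI := stAlg (k := k) x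
  ⟨X.fromSpecStalk x, SBAut.algOf_spec _ _⟩

/-- The ideal at `x`, in coordinates. -/
def idealVec (x : X) : Submodule (X.presheaf.stalk x) (Fin N → X.presheaf.stalk x) :=
  letI := stAlg (k := k) x
  (s.bij _ (stPt x)).1.toSubmodule.comap (vecOf b _).toLinearMap

theorem projective_idealVec (x : X) :
    Module.Projective (X.presheaf.stalk x) ((Fin N → X.presheaf.stalk x) ⧸ idealVec b s x) := by
  letI := stAlg (k := k) x
  haveI := (s.bij _ (stPt (k := k) x)).1.projective_quotient
  exact Module.Projective.of_equiv (Submodule.Quotient.equiv _ _ (vecOf b _)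
    (Submodule.map_comap_eq_of_surjective (vecOf b _).surjective _)).symm

/-- The free module containing the bundle. -/
def freeMod (X : Scheme.{u}) (N : ℕ) : X.Modules := ∐ fun _ : Fin N => Coh.structureModule X

/-- Its decomposition. -/
def freeDec (X : Scheme.{u}) (N : ℕ) :
    ASBunK.Dec (freeMod X N) (fun _ : Fin N => Coh.structureModule X) :=
  ASBunK.Dec.coprod

/-- The tautological subsheaf. -/
def tautSub : QCoh.SubMod (freeMod X N) :=
  stalkSub fun x => (idealVec b s x).map (stkVec (freeDec X N) x)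

/-- The tautological bundle. -/
def taut : X.Modules := (tautSub b s).toModules

/-- Its inclusion. -/
def tautι : taut b s ⟶ freeMod X N := (tautSub b s).ι

instance mono_tautι : Mono (tautι b s) := (tautSub b s).mono_ι

theorem mem_tautSub {U : X.Opens} (m : Γ(freeMod X N, U)) :
    m ∈ (tautSub b s).mem U ↔ ∀ x, ∀ hx : x ∈ U,
      (fun i => X.presheaf.germ U x hx (crdOf (freeDec X N) U m i)) ∈ idealVec b s x := by
  refine forall_congr' fun x => forall_congr' fun hx => ?_
  rw [← stkVec_crd (freeDec X N) x U hx m, Submodule.mem_map]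
  exact ⟨fun ⟨v, hv, he⟩ => (stkVec_bijective (freeDec X N) x).1 he ▸ hv, fun h => ⟨_, h, rfl⟩⟩

variable [IsProper (X ↘ Spec (CommRingCat.of k))]

/-- Generators over an affine open. -/
theorem exists_gen {U : X.Opens} (hU : IsAffineOpen U) :
    ∃ T : Set (Fin N → Γ(X, U)), T.Finite ∧
      (∀ t ∈ T, secOf (freeDec X N) U t ∈ (tautSub b s).mem U) ∧
      ∀ x, ∀ hx : x ∈ U, idealVec b s x =
        Submodule.span (X.presheaf.stalk x) ((fun t i => X.presheaf.germ U x hx (t i)) '' T) := by
  classical
  letI := SBAut.algOf (X ↘ Spec (CommRingCat.of k)) (R := Γ(X, U)) hU.fromSpec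
  let g : BrSev.Pts (X ↘ Spec (CommRingCat.of k)) Γ(X, U) := ⟨hU.fromSpec, SBAut.algOf_spec _ _⟩
  let J := (s.bij Γ(X, U) g).1.toSubmodule.comap (vecOf b Γ(X, U)).toLinearMap
  haveI := (s.bij Γ(X, U) g).1.projective_quotient
  haveI : Module.Projective Γ(X, U) ((Fin N → Γ(X, U)) ⧸ J) :=
    Module.Projective.of_equiv (Submodule.Quotient.equiv _ _ (vecOf b _)
      (Submodule.map_comap_eq_of_surjective (vecOf b _).surjective _)).symm
  obtain ⟨r, hr⟩ := J.mkQ.exists_rightInverse_of_surjective (Submodule.range_mkQ J)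
  have hJ : J.FG := by
    rw [show J = LinearMap.range (LinearMap.id - r.comp J.mkQ) from ?_]
    · exact Module.Finite.iff_fg.1 inferInstance
    refine le_antisymm ?_ ?_
    · intro v hv
      exact ⟨v, by simp [(Submodule.Quotient.mk_eq_zero J).2 hv]⟩
    · rintro _ ⟨v, rfl⟩
      have h := LinearMap.congr_fun hr (J.mkQ v)
      rw [← Submodule.Quotient.mk_eq_zero, ← Submodule.mkQ_apply]
      simpa [sub_eq_zero] using h.symm
  obtain ⟨T, hT⟩ := hJ
  have key : ∀ x, ∀ hx : x ∈ U, idealVec b s x =
      Submodule.span (X.presheaf.stalk x)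
        ((fun (t : Fin N → Γ(X, U)) i => X.presheaf.germ U x hx (t i)) '' (T : Set (Fin N → Γ(X, U)))) := by
    intro x hx
    letI := stAlg (k := k) x
    obtain ⟨φ, hφ, hφ'⟩ := SBAut.factor_through (X ↘ Spec (CommRingCat.of k)) hU.fromSpec
      (stPt (k := k) x) (Spec.map (X.presheaf.germ U x hx)) (by
        show _ = X.fromSpecStalk x
        rw [← hU.fromSpecStalk_eq_fromSpecStalk hx]
        rfl)
    have hgerm : (φ : Γ(X, U) →+* X.presheaf.stalk x) = (X.presheaf.germ U x hx).hom :=
      congrArg CommRingCat.Hom.hom (Spec.map_injective hφ')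
    have hN : (s.bij _ (stPt (k := k) x)).1.toSubmodule =
        Submodule.span _ (SBAut.bc φ '' ((s.bij Γ(X, U) g).1.toSubmodule : Set _)) := by
      rw [← SBAut.map_toSubmodule_span, ← s.natural _ _ φ g, hφ]
    have himg : ((s.bij Γ(X, U) g).1.toSubmodule : Set _) = vecOf b Γ(X, U) '' (J : Set _) :=
      (Set.image_preimage_eq _ (vecOf b Γ(X, U)).surjective).symm
    refine le_antisymm (fun v hv => ?_) (Submodule.span_le.2 ?_)
    · have hv' : vecOf b _ v ∈ Submodule.span (X.presheaf.stalk x)
          (vecOf b _ '' ((fun (t : Fin N → Γ(X, U)) i => X.presheaf.germ U x hx (t i)) '' (J : Set (Fin N → Γ(X, U))))) := by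
        have : vecOf b _ v ∈ (s.bij _ (stPt (k := k) x)).1.toSubmodule := hv
        rw [hN, himg] at this
        convert this using 2
        rw [Set.image_image, Set.image_image]
        refine Set.image_congr fun t _ => ?_
        rw [bc_vecOf]
        exact congrArg _ (funext fun i => (RingHom.congr_fun hgerm (t i)).symm)
      rw [show Submodule.span (X.presheaf.stalk x) (vecOf b (X.presheaf.stalk x) ''
          ((fun (t : Fin N → Γ(X, U)) i => X.presheaf.germ U x hx (t i)) '' (J : Set (Fin N → Γ(X, U))))) =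
          Submodule.map (vecOf b (X.presheaf.stalk x)).toLinearMap (Submodule.span (X.presheaf.stalk x)
            ((fun (t : Fin N → Γ(X, U)) i => X.presheaf.germ U x hx (t i)) '' (J : Set (Fin N → Γ(X, U))))) from
          (Submodule.map_span (vecOf b (X.presheaf.stalk x)).toLinearMap _).symm] at hv'
      obtain ⟨w, hw, he⟩ := hv'
      obtain rfl : w = v := (vecOf b _).injective he
      refine Submodule.span_le.2 ?_ hw
      rintro _ ⟨t, ht, rfl⟩
      rw [← hT] at ht
      induction ht using Submodule.span_induction with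
      | mem t ht => exact Submodule.subset_span ⟨t, ht, rfl⟩
      | zero => simp only [Pi.zero_apply, map_zero]; exact zero_mem _
      | add t t' _ _ h h' =>
        simp only [Pi.add_apply, map_add]
        exact add_mem h h'
      | smul a t _ h =>
        simp only [Pi.smul_apply, smul_eq_mul, map_mul]
        exact Submodule.smul_mem _ _ h
    · rintro _ ⟨t, ht, rfl⟩
      show vecOf b _ _ ∈ (s.bij _ (stPt (k := k) x)).1.toSubmodule
      rw [hN]
      refine Submodule.subset_span ⟨vecOf b _ t, ?_, ?_⟩
      · show t ∈ J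
        rw [← hT]
        exact Submodule.subset_span ht
      · rw [bc_vecOf]
        exact congrArg _ (funext fun i => RingHom.congr_fun hgerm (t i))
  refine ⟨T, T.finite_toSet, fun t ht => ?_, key⟩
  rw [mem_tautSub]
  intro x hx
  rw [key x hx, crdOf_secOf]
  exact Submodule.subset_span ⟨t, ht, rfl⟩

theorem exists_genBy {U : X.Opens} (hU : IsAffineOpen U) :
    ∃ T : Set Γ(freeMod X N, U), QCoh.GenBy (tautSub b s) U T ∧
      ∀ x, ∀ hx : x ∈ U, (idealVec b s x).map (stkVec (freeDec X N) x) =
        Submodule.span (X.presheaf.stalk x) ((freeMod X N).presheaf.germ U x hx '' T) := by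
  obtain ⟨T, hTf, hTm, hT⟩ := exists_gen b s hU
  have key : ∀ x, ∀ hx : x ∈ U, (idealVec b s x).map (stkVec (freeDec X N) x) =
      Submodule.span (X.presheaf.stalk x)
        ((freeMod X N).presheaf.germ U x hx '' (secOf (freeDec X N) U '' T)) := fun x hx => by
    rw [hT x hx, Submodule.map_span, Set.image_image, Set.image_image]
    exact congrArg _ (Set.image_congr fun t _ => stkVec_germ _ x U hx t)
  refine ⟨secOf (freeDec X N) U '' T, ⟨hTf.image _, ?_, fun O hO m hm x hx => ?_⟩, key⟩
  · rintro _ ⟨t, ht, rfl⟩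
    exact hTm t ht
  · exact exists_mem_span_of_germ (hTf.image _) hO m x hx (key x (hO hx) ▸ hm x hx)

theorem ftOn_tautSub : QCoh.FTOn (tautSub b s) ⊤ := fun x _ => by
  obtain ⟨U, hU, hx, -⟩ := exists_isAffineOpen_mem_and_subset (x := x) (U := ⊤) trivial
  obtain ⟨T, hT, -⟩ := exists_genBy b s hU
  exact ⟨U, hU, hx, le_top, T, hT⟩

/-- The image of the stalk of the bundle. -/
theorem range_tautι (x : X) :
    LinearMap.range (stk (tautι b s) x) = (idealVec b s x).map (stkVec (freeDec X N) x) := by
  refine le_antisymm ?_ ?_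
  · rintro _ ⟨v, rfl⟩
    obtain ⟨U, hx, m, rfl⟩ := TopCat.Presheaf.exists_germ_eq (taut b s).presheaf v
    rw [stk_germ]
    exact (tautSub b s).ι_app_mem U m x hx
  · obtain ⟨U, hU, hx, -⟩ := exists_isAffineOpen_mem_and_subset (x := x) (U := ⊤) trivial
    obtain ⟨T, hT, h⟩ := exists_genBy b s hU
    rw [h x hx, Submodule.span_le]
    rintro _ ⟨t, ht, rfl⟩
    obtain ⟨m, hm⟩ := (tautSub b s).exists_app_eq (hT.mem t ht)
    exact ⟨(taut b s).presheaf.germ U x hx m, by rw [stk_germ]; exact congrArg _ hm⟩

theorem isCoh_freeMod [IsLocallyNoetherian X] : Coh.IsCoh (freeMod X N) :=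
  ASBunK.isCoh_of_dec (freeDec X N) fun _ => QCoh.isCoh_structureModule'

/-- The stalk of the inclusion splits. -/
theorem exists_retraction (x : X) :
    ∃ r : (freeMod X N).presheaf.stalk x →ₗ[X.presheaf.stalk x] (taut b s).presheaf.stalk x,
      r.comp (stk (tautι b s) x) = LinearMap.id := by
  haveI := projective_idealVec b s x
  obtain ⟨σ, hσ⟩ := (idealVec b s x).mkQ.exists_rightInverse_of_surjective (Submodule.range_mkQ _)
  let e := LinearEquiv.ofBijective _ (stkVec_bijective (freeDec X N) x)
  let q0 : (Fin N → X.presheaf.stalk x) →ₗ[X.presheaf.stalk x] (Fin N → X.presheaf.stalk x) :=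
    LinearMap.id - σ.comp (idealVec b s x).mkQ
  let p : (freeMod X N).presheaf.stalk x →ₗ[X.presheaf.stalk x] (freeMod X N).presheaf.stalk x :=
    e.toLinearMap.comp (q0.comp e.symm.toLinearMap)
  let f := stk (tautι b s) x
  have hinj : Function.Injective f := stk_injective (tautι b s) x
  have hp : ∀ v, p v ∈ LinearMap.range f := fun v => by
    rw [show LinearMap.range f = _ from range_tautι b s x]
    refine ⟨q0 (e.symm v), ?_, rfl⟩
    have h := LinearMap.congr_fun hσ ((idealVec b s x).mkQ (e.symm v))
    rw [SetLike.mem_coe, ← Submodule.Quotient.mk_eq_zero, ← Submodule.mkQ_apply]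
    simpa [q0, sub_eq_zero] using h.symm
  refine ⟨(LinearEquiv.ofInjective f hinj).symm.toLinearMap.comp (p.codRestrict _ hp), LinearMap.ext fun v => ?_⟩
  show (LinearEquiv.ofInjective f hinj).symm (⟨p (f v), hp _⟩ : LinearMap.range f) = v
  rw [LinearEquiv.symm_apply_eq]
  refine Subtype.ext ?_
  show p (f v) = f v
  have hv : f v ∈ (idealVec b s x).map (stkVec (freeDec X N) x) := range_tautι b s x ▸ ⟨v, rfl⟩
  obtain ⟨w, hw, he⟩ := hv
  rw [← he]
  show e (q0 (e.symm (e w))) = e w
  simp [q0, (Submodule.Quotient.mk_eq_zero _).2 hw]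

theorem isQCoh_taut : Coh.IsQCoh (taut b s) :=
  haveI := ASBunK.isLocallyNoetherian_of_proper k (X ↘ Spec (CommRingCat.of k))
  QCoh.isQCoh_of_ftOn (isCoh_freeMod (X := X) (N := N)).1 (ftOn_tautSub b s)

theorem isCoh_taut : Coh.IsCoh (taut b s) :=
  haveI := ASBunK.isLocallyNoetherian_of_proper k (X ↘ Spec (CommRingCat.of k))
  ⟨isQCoh_taut b s, QCoh.isFT_of_ftOn (isCoh_freeMod (X := X) (N := N)).1 (ftOn_tautSub b s)⟩

/-- The tautological bundle is locally free. -/
theorem isFinLocFree_taut : FlatMod.IsFinLocFree (taut b s) := by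
  haveI := ASBunK.isLocallyNoetherian_of_proper k (X ↘ Spec (CommRingCat.of k))
  refine QCoh.isFinLocFree_iff.2 ⟨QCoh.isCoh_iff_isFP.1 (isCoh_taut b s), fun x => ?_⟩
  obtain ⟨r, hr⟩ := exists_retraction b s x
  let e := LinearEquiv.ofBijective _ (stkVec_bijective (freeDec X N) x)
  haveI : Module.Free (X.presheaf.stalk x) ((freeMod X N).presheaf.stalk x) := Module.Free.of_equiv e
  haveI : Module.Finite (X.presheaf.stalk x) ((freeMod X N).presheaf.stalk x) := Module.Finite.equiv e
  haveI : Module.Finite (X.presheaf.stalk x) ((taut b s).presheaf.stalk x) :=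
    Module.Finite.of_surjective r fun v => ⟨_, LinearMap.congr_fun hr v⟩
  haveI : Module.Projective (X.presheaf.stalk x) ((taut b s).presheaf.stalk x) :=
    Module.Projective.of_split (stk (tautι b s) x) r hr
  exact Module.free_of_flat_of_isLocalRing

/-- The action of the algebra on the free module. -/
def actFree : A →ₐ[k] End (freeMod X N) :=
  ((freeDec X N).endMatrix (R := k)).symm.toAlgHom.comp
    ((AlgHom.mapMatrix (Algebra.ofId k (End (Coh.structureModule X)))).comp (Algebra.leftMulMatrix b))

theorem crdOf_actFree (a : A) (U : X.Opens) (m : Γ(freeMod X N, U)) (i : Fin N) :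
    crdOf (freeDec X N) U ((actFree b (X := X) a : freeMod X N ⟶ freeMod X N).app U m) i =
      ∑ j, X.presheaf.map (homOfLE (le_top : U ≤ ⊤)).op
        (Coh.toGlobal (X ↘ Spec (CommRingCat.of k)) (Algebra.leftMulMatrix b a i j)) *
          crdOf (freeDec X N) U m j := by
  have h : (actFree b (X := X) a : freeMod X N ⟶ freeMod X N) ≫ (freeDec X N).π i =
      ∑ j, Algebra.leftMulMatrix b a i j • (freeDec X N).π j := by
    have hM := AlgEquiv.apply_symm_apply ((freeDec X N).endMatrix (R := k))
      ((AlgHom.mapMatrix (Algebra.ofId k (End (Coh.structureModule X)))) (Algebra.leftMulMatrix b a))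
    calc (actFree b (X := X) a : freeMod X N ⟶ freeMod X N) ≫ (freeDec X N).π i
        = (∑ j, (freeDec X N).π j ≫ (freeDec X N).ι j) ≫
            (actFree b (X := X) a : freeMod X N ⟶ freeMod X N) ≫ (freeDec X N).π i := by
          rw [(freeDec X N).total, Category.id_comp]
      _ = _ := by
          rw [Preadditive.sum_comp]
          refine Finset.sum_congr rfl fun j _ => ?_
          have := congrFun (congrFun hM i) j
          rw [Category.assoc]
          refine (congrArg ((freeDec X N).π j ≫ ·) this).trans ?_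
          show (freeDec X N).π j ≫ (algebraMap k (End (Coh.structureModule X)) _ :
            Coh.structureModule X ⟶ Coh.structureModule X) = _
          rw [Algebra.algebraMap_eq_smul_one]
          show (freeDec X N).π j ≫ (_ • 𝟙 (Coh.structureModule X)) = _
          rw [Linear.comp_smul, Category.comp_id]
  show ((actFree b (X := X) a : freeMod X N ⟶ freeMod X N) ≫ (freeDec X N).π i).app U m = _
  rw [h, QCoh.app_sum]
  refine Finset.sum_congr rfl fun j _ => ?_
  rw [KLin.smul_app_apply]
  rfl

theorem actFree_mem (a : A) (U : X.Opens) (m : Γ(freeMod X N, U)) (hm : m ∈ (tautSub b s).mem U) :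
    (actFree b (X := X) a : freeMod X N ⟶ freeMod X N).app U m ∈ (tautSub b s).mem U := by
  rw [mem_tautSub] at hm ⊢
  intro x hx
  letI := stAlg (k := k) x
  show vecOf b _ _ ∈ (s.bij _ (stPt (k := k) x)).1.toSubmodule
  have h : (fun i => X.presheaf.germ U x hx
      (crdOf (freeDec X N) U ((actFree b (X := X) a : freeMod X N ⟶ freeMod X N).app U m) i)) =
      ((Algebra.leftMulMatrix b a).map (algebraMap k (X.presheaf.stalk x))).mulVec
        (fun i => X.presheaf.germ U x hx (crdOf (freeDec X N) U m i)) := by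
    funext i
    rw [crdOf_actFree, map_sum]
    refine Finset.sum_congr rfl fun j _ => ?_
    simp only [map_mul, TopCat.Presheaf.germ_res_apply, Matrix.map_apply, stAlg_algebraMap]
  rw [h, ← tmul_mul_vecOf]
  exact (s.bij _ (stPt (k := k) x)).2 _ _ (hm x hx)

/-- Restriction of an endomorphism preserving the bundle. -/
def liftSub (φ : freeMod X N ⟶ freeMod X N) (h : ∀ U, ∀ m ∈ (tautSub b s).mem U, φ.app U m ∈ (tautSub b s).mem U) :
    taut b s ⟶ taut b s :=
  ⟨{ app := fun U => ModuleCat.ofHom
      (((φ.val.app U).hom.comp ((tautSub b s).mem U.unop).subtype).codRestrict ((tautSub b s).mem U.unop)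
        fun m => h U.unop m.1 m.2)
     naturality := fun {U V} f => by
      ext m
      exact Subtype.ext (PresheafOfModules.naturality_apply φ.val f m.1) }⟩

theorem liftSub_ι (φ : freeMod X N ⟶ freeMod X N)
    (h : ∀ U, ∀ m ∈ (tautSub b s).mem U, φ.app U m ∈ (tautSub b s).mem U) :
    liftSub b s φ h ≫ tautι b s = tautι b s ≫ φ := rfl

/-- The action of the algebra on the tautological bundle. -/
def actTaut : A →ₐ[k] End (taut b s) where
  toFun a := liftSub b s (actFree b a) (actFree_mem b s a)
  map_one' := (cancel_mono (tautι b s)).1 (by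
    rw [liftSub_ι, map_one]
    exact (Category.comp_id _).trans (Category.id_comp _).symm)
  map_mul' a a' := (cancel_mono (tautι b s)).1 (by
    show _ = (liftSub b s _ (actFree_mem b s a') ≫ liftSub b s _ (actFree_mem b s a)) ≫ tautι b s
    rw [Category.assoc, liftSub_ι, liftSub_ι, ← Category.assoc, liftSub_ι, Category.assoc, map_mul]
    rfl)
  map_zero' := (cancel_mono (tautι b s)).1 (by
    rw [liftSub_ι, map_zero]
    exact comp_zero.trans zero_comp.symm)
  map_add' a a' := (cancel_mono (tautι b s)).1 (by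
    show _ = (liftSub b s _ (actFree_mem b s a) + liftSub b s _ (actFree_mem b s a')) ≫ tautι b s
    rw [Preadditive.add_comp, liftSub_ι, liftSub_ι, liftSub_ι, map_add]
    exact Preadditive.comp_add _ _ _ _ _ _)
  commutes' t := (cancel_mono (tautι b s)).1 (by
    rw [liftSub_ι, AlgHom.commutes, Algebra.algebraMap_eq_smul_one, Algebra.algebraMap_eq_smul_one]
    show tautι b s ≫ (t • 𝟙 (freeMod X N)) = (t • 𝟙 (taut b s)) ≫ tautι b s
    rw [Linear.comp_smul, Linear.smul_comp, Category.comp_id, Category.id_comp])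

end Groth.Agent.SBBundle
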