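import Groth.Agent.ZetaLib.ProjPoints
import Groth.Agent.SBAut.Vectors

/-!
# Points of projective space with values in local rings are unimodular vectors up to proportionality
-/

set_option autoImplicit false

universe u

open CategoryTheory AlgebraicGeometry
open HomogeneousLocalization (Away)

noncomputable section

namespace Groth.Agent.SBBundle.PV

open Groth.Agent.ZetaLib Groth.Agent.SBAut

variable {n : ℕ} {K : Type u} [Field K]

local notation "𝒜" => CohB1.polyGrading n K
local notation "T" => (MvPolynomial.X : Fin (n + 1) → MvPolynomial (Fin (n + 1)) K)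

variable {R : Type u} [CommRing R] [Algebra K R]

/-- Evaluation at `v` of degree zero fractions with denominator a power of `x`. -/
def evalFrac (x : MvPolynomial (Fin (n + 1)) K) (v : Fin (n + 1) → R)
    (h : IsUnit (MvPolynomial.aeval v x)) : Away 𝒜 x →+* R :=
  (IsLocalization.Away.lift x (S := Localization.Away x) (g := (MvPolynomial.aeval v).toRingHom) h).comp
    (algebraMap (Away 𝒜 x) (Localization.Away x))

variable (K) in
/-- Evaluation on the chart `i`. -/
def evalU (i : Fin (n + 1)) (v : Fin (n + 1) → R) (h : IsUnit (v i)) : Away 𝒜 (T i) →+* R :=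
  evalFrac (T i) v (by rwa [MvPolynomial.aeval_X])

theorem evalU_base (i : Fin (n + 1)) (v : Fin (n + 1) → R) (h : IsUnit (v i)) :
    (evalU K i v h).comp (base n K i) = algebraMap K R := by
  refine RingHom.ext fun c => ?_
  simp only [evalU, evalFrac, RingHom.comp_apply, HomogeneousLocalization.algebraMap_apply, val_base,
    IsLocalization.Away.lift_eq]
  exact MvPolynomial.aeval_C v c

theorem evalU_coord (i : Fin (n + 1)) (v : Fin (n + 1) → R) (h : IsUnit (v i)) (j : Fin (n + 1)) :
    evalU K i v h (coord n K i j) * v i = v j := by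
  have h' : IsUnit ((MvPolynomial.aeval v).toRingHom (T i)) := by
    show IsUnit (MvPolynomial.aeval v (T i))
    rwa [MvPolynomial.aeval_X]
  have e := congrArg (IsLocalization.Away.lift (T i) (S := Localization.Away (T i))
      (g := (MvPolynomial.aeval v).toRingHom) h') (val_coord n K i j)
  simp only [map_mul, IsLocalization.Away.lift_eq] at e
  rw [show (MvPolynomial.aeval v).toRingHom (T i) = v i from MvPolynomial.aeval_X v i,
    show (MvPolynomial.aeval v).toRingHom (T j) = v j from MvPolynomial.aeval_X v j] at e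
  exact e

omit [Algebra K R] in
/-- Homomorphisms out of a chart are determined by constants and coordinates. -/
theorem hom_ext (i : Fin (n + 1)) {φ ψ : Away 𝒜 (T i) →+* R}
    (hb : φ.comp (base n K i) = ψ.comp (base n K i))
    (hc : ∀ j, φ (coord n K i j) = ψ (coord n K i j)) : φ = ψ := by
  refine RingHom.ext fun z => ?_
  obtain ⟨x, rfl⟩ := surjective_dehom n K i z
  have : φ.comp (dehom n K i) = ψ.comp (dehom n K i) := MvPolynomial.ringHom_ext
    (fun c => by simpa [dehom] using RingHom.congr_fun hb c) fun j => by simpa [dehom] using hc j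
  exact RingHom.congr_fun this x

variable (K) in
/-- The point with homogeneous coordinates `v`, in the chart `i`. -/
def ptVec (i : Fin (n + 1)) (v : Fin (n + 1) → R) (h : IsUnit (v i)) :
    Spec (CommRingCat.of R) ⟶ CohB1.ProjSpace n K :=
  Spec.map (CommRingCat.ofHom (evalU K i v h)) ≫ chart n K i

theorem ptVec_toSpec (i : Fin (n + 1)) (v : Fin (n + 1) → R) (h : IsUnit (v i)) :
    ptVec K i v h ≫ CohB1.ProjSpace.toSpec n K = Spec.map (CommRingCat.ofHom (algebraMap K R)) := by
  rw [ptVec, Category.assoc, chart_toSpec, ← Spec.map_comp, ← CommRingCat.ofHom_comp, evalU_base]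

/-- Composing with a ring map evaluates at the image vector. -/
theorem ptVec_map {S : Type u} [CommRing S] [Algebra K S] (φ : R →ₐ[K] S) (i : Fin (n + 1))
    (v : Fin (n + 1) → R) (h : IsUnit (v i)) :
    Spec.map (CommRingCat.ofHom (φ : R →+* S)) ≫ ptVec K i v h =
      ptVec K i (φ ∘ v) (h.map φ) := by
  rw [ptVec, ← Category.assoc, ← Spec.map_comp, ← CommRingCat.ofHom_comp]
  refine congrArg (fun z => Spec.map (CommRingCat.ofHom z) ≫ chart n K i) (hom_ext i ?_ fun j => ?_)
  · rw [RingHom.comp_assoc, evalU_base, evalU_base, φ.comp_algebraMap]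
  · refine (h.map φ).mul_left_injective ?_
    show φ (evalU K i v h (coord n K i j)) * φ (v i) = evalU K i (φ ∘ v) _ (coord n K i j) * φ (v i)
    rw [← map_mul, evalU_coord]
    exact (evalU_coord i (φ ∘ v) (h.map φ) j).symm

/-- Proportional vectors give the same point in a chart. -/
theorem ptVec_congr (i : Fin (n + 1)) {v w : Fin (n + 1) → R} (h : IsUnit (v i)) (h' : IsUnit (w i))
    (hr : Rel v w) : ptVec K i v h = ptVec K i w h' := by
  refine congrArg (fun z => Spec.map (CommRingCat.ofHom z) ≫ chart n K i) (hom_ext i ?_ fun j => ?_)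
  · rw [evalU_base, evalU_base]
  · refine (h.mul h').mul_left_injective ?_
    show evalU K i v h (coord n K i j) * (v i * w i) = evalU K i w h' (coord n K i j) * (v i * w i)
    rw [← mul_assoc, evalU_coord, mul_comm (v i) (w i), ← mul_assoc, evalU_coord, hr j i, mul_comm]

/-- The point does not depend on the chart. -/
theorem ptVec_chart (i l : Fin (n + 1)) (v : Fin (n + 1) → R) (hi : IsUnit (v i)) (hl : IsUnit (v l)) :
    ptVec K i v hi = ptVec K l v hl := by
  have hil : IsUnit (MvPolynomial.aeval v (T i * T l)) := by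
    rw [map_mul, MvPolynomial.aeval_X, MvPolynomial.aeval_X]
    exact hi.mul hl
  have key : ∀ (a b : Fin (n + 1)) (ha : IsUnit (v a)) (hx : T i * T l = T a * T b),
      (evalFrac (T i * T l) v hil).comp (HomogeneousLocalization.awayMap 𝒜 (X_mem_one n K b) hx) =
        evalU K a v ha := by
    intro a b ha hx
    refine RingHom.ext fun z => ?_
    simp only [evalFrac, evalU, RingHom.comp_apply, HomogeneousLocalization.algebraMap_apply,
      HomogeneousLocalization.val_awayMap]
    refine RingHom.congr_fun (IsLocalization.ringHom_ext (Submonoid.powers (T a)) (RingHom.ext fun p => ?_)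
      (j := (IsLocalization.Away.lift (T i * T l) (S := Localization.Away (T i * T l))
        (g := (MvPolynomial.aeval v).toRingHom) hil).comp (Localization.awayLift _ _ _))) z.val
    simp only [RingHom.comp_apply, IsLocalization.Away.lift_eq]
  have h1 := Proj.SpecMap_awayMap_awayι 𝒜 (X_mem_one n K i) Nat.one_pos (X_mem_one n K l)
    (rfl : T i * T l = _)
  have h2 := Proj.SpecMap_awayMap_awayι 𝒜 (X_mem_one n K l) Nat.one_pos (X_mem_one n K i)
    (mul_comm (T i) (T l))
  have e1 : ptVec K i v hi = Spec.map (CommRingCat.ofHom (evalFrac (T i * T l) v hil)) ≫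
      Spec.map (CommRingCat.ofHom (HomogeneousLocalization.awayMap 𝒜 (X_mem_one n K l) rfl)) ≫
        chart n K i := by
    rw [ptVec, ← Category.assoc, ← Spec.map_comp, ← CommRingCat.ofHom_comp, key i l hi rfl]
  have e2 : ptVec K l v hl = Spec.map (CommRingCat.ofHom (evalFrac (T i * T l) v hil)) ≫
      Spec.map (CommRingCat.ofHom (HomogeneousLocalization.awayMap 𝒜 (X_mem_one n K i) (mul_comm _ _))) ≫
        chart n K l := by
    rw [ptVec, ← Category.assoc, ← Spec.map_comp, ← CommRingCat.ofHom_comp, key l i hl (mul_comm _ _)]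
  rw [e1, e2]
  exact congrArg (Spec.map _ ≫ ·) (h1.trans h2.symm)

variable [IsLocalRing R]

/-- Where the closed point of a point lands. -/
theorem mem_range_chart_iff (i : Fin (n + 1)) (v : Fin (n + 1) → R) (h : IsUnit (v i)) (j : Fin (n + 1)) :
    ptVec K i v h (IsLocalRing.closedPoint R) ∈ Set.range (chart n K j) ↔ IsUnit (v j) := by
  rw [mem_range_chart]
  show Spec.map (CommRingCat.ofHom (evalU K i v h)) (IsLocalRing.closedPoint R) ∈
    Proj.awayι 𝒜 (T i) (X_mem_one n K i) Nat.one_pos ⁻¹ᵁ Proj.basicOpen 𝒜 (T j) ↔ _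
  rw [Proj.awayι_preimage_basicOpen 𝒜 (X_mem_one n K i) Nat.one_pos (X_mem_one n K j) Nat.one_pos]
  show evalU K i v h (HomogeneousLocalization.Away.isLocalizationElem (X_mem_one n K i)
    (X_mem_one n K j)) ∉ IsLocalRing.maximalIdeal R ↔ _
  have : HomogeneousLocalization.Away.isLocalizationElem (X_mem_one n K i) (X_mem_one n K j) =
      coord n K i j := HomogeneousLocalization.val_injective _ (by simp [coord])
  rw [this, IsLocalRing.mem_maximalIdeal, mem_nonunits_iff, not_not]
  refine ⟨fun hu => ?_, fun hu => ?_⟩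
  · rw [← evalU_coord (K := K) i v h j]; exact hu.mul h
  · rw [← evalU_coord (K := K) i v h j] at hu; exact isUnit_of_mul_isUnit_left hu

/-- Two vectors giving the same point are proportional. -/
theorem rel_of_ptVec_eq {i l : Fin (n + 1)} {v w : Fin (n + 1) → R} {h : IsUnit (v i)} {h' : IsUnit (w l)}
    (he : ptVec K i v h = ptVec K l w h') : Rel v w := by
  have hwi : IsUnit (w i) := by
    rw [← mem_range_chart_iff (K := K) l w h' i, ← he, mem_range_chart_iff]
    exact h
  rw [ptVec_chart l i w h' hwi] at he
  have h2 : evalU K i v h = evalU K i w hwi :=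
    congrArg CommRingCat.Hom.hom (Spec.map_injective ((cancel_mono (chart n K i)).1 he))
  intro a b
  rw [← evalU_coord (K := K) i v h a, ← evalU_coord (K := K) i w hwi b, ← evalU_coord (K := K) i v h b,
    ← evalU_coord (K := K) i w hwi a, h2]
  ring

/-- Every point is given by a vector. -/
theorem exists_ptVec (g : Spec (CommRingCat.of R) ⟶ CohB1.ProjSpace n K)
    (hg : g ≫ CohB1.ProjSpace.toSpec n K = Spec.map (CommRingCat.ofHom (algebraMap K R)))
    {i : Fin (n + 1)} (hi : g (IsLocalRing.closedPoint R) ∈ Set.range (chart n K i)) :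
    ∃ (v : Fin (n + 1) → R) (h : IsUnit (v i)), v i = 1 ∧ ptVec K i v h = g := by
  have hsub : Set.range g ⊆ Set.range (chart n K i) := by
    rintro _ ⟨y, rfl⟩
    have hy : y ⤳ IsLocalRing.closedPoint R :=
      (PrimeSpectrum.le_iff_specializes _ _).1 (IsLocalRing.le_maximalIdeal y.isPrime.ne_top)
    exact (hy.map g.continuous).mem_open (chart n K i).isOpenEmbedding.isOpen_range hi
  obtain ⟨φ, hφ⟩ : ∃ φ : Away 𝒜 (T i) →+* R, Spec.map (CommRingCat.ofHom φ) ≫ chart n K i = g :=
    ⟨(Spec.preimage (IsOpenImmersion.lift (chart n K i) g hsub)).hom, by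
      rw [CommRingCat.ofHom_hom, Spec.map_preimage, IsOpenImmersion.lift_fac]⟩
  have hb : φ.comp (base n K i) = algebraMap K R := by
    have := hg
    rw [← hφ, Category.assoc, chart_toSpec, ← Spec.map_comp, Spec.map_inj, ← CommRingCat.ofHom_comp] at this
    exact congrArg CommRingCat.Hom.hom this
  have hii : φ (coord n K i i) = 1 := by
    rw [← map_one φ]
    congr 1
    refine HomogeneousLocalization.val_injective _ ?_
    rw [coord, HomogeneousLocalization.Away.val_mk, HomogeneousLocalization.val_one,
      ← Localization.mk_self (⟨T i ^ 1, 1, rfl⟩ : Submonoid.powers (T i))]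
    simp only [pow_one]
  have hu : IsUnit ((fun l => φ (coord n K i l)) i) := by
    show IsUnit (φ (coord n K i i))
    rw [hii]; exact isUnit_one
  refine ⟨fun l => φ (coord n K i l), hu, hii, ?_⟩
  rw [← hφ]
  refine congrArg (fun z => Spec.map (CommRingCat.ofHom z) ≫ chart n K i) (hom_ext i ?_ fun j => ?_)
  · rw [evalU_base, hb]
  · have := evalU_coord (K := K) i (fun l => φ (coord n K i l)) hu j
    rwa [hii, mul_one] at this

/-- Every point is given by some unimodular vector. -/
theorem exists_ptVec' (g : Spec (CommRingCat.of R) ⟶ CohB1.ProjSpace n K)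
    (hg : g ≫ CohB1.ProjSpace.toSpec n K = Spec.map (CommRingCat.ofHom (algebraMap K R))) :
    ∃ (v : Fin (n + 1) → R) (i : Fin (n + 1)) (h : IsUnit (v i)), ptVec K i v h = g := by
  obtain ⟨i, hi⟩ := exists_mem_chart (g (IsLocalRing.closedPoint R))
  obtain ⟨v, h, -, e⟩ := exists_ptVec g hg hi
  exact ⟨v, i, h, e⟩

end Groth.Agent.SBBundle.PV
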