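import Groth.Agent.InvUfdLib.Trivial
import Groth.Agent.InvUfdLib.Extend
import Groth.Agent.InvX.Tensor
import Groth.Agent.H23.PnChart
import Groth.Agent.PnCoh.TwistSections
import Groth.Agent.CurveBC.Coh
import Groth.Agent.SBBundle.TwType
import Groth.Agent.PnCoh.Finite.HomTwist
import Groth.Agent.Lib.PnDualSymbol
import Mathlib.Algebra.Group.UniqueProds.Basic
import Mathlib.Algebra.MonoidAlgebra.NoZeroDivisors
import Mathlib.RingTheory.Polynomial.UniqueFactorization

/-!
# Invertible modules on projective space over a field are twisting sheaves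
-/

set_option autoImplicit false
set_option backward.isDefEq.respectTransparency false
set_option backward.isDefEq.respectTransparency.types false
set_option linter.style.haveILetI false
set_option linter.unusedSectionVars false

universe u

open CategoryTheory CategoryTheory.Limits AlgebraicGeometry TopologicalSpace Opposite
open HomogeneousLocalization (Away)

noncomputable section

namespace Groth.Agent.SBBundle.PicPn

open Groth.Agent.AModX Groth.Agent.InvX

section General

variable {X : Scheme.{u}} {M N : X.Modules}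

/-- Modules with frames having the same transition functions are isomorphic. -/
theorem nonempty_iso_of_frames {ι : Type u} (U : ι → X.Opens) (hcov : ∀ x, ∃ a, x ∈ U a)
    (e : ∀ a, Γ(M, U a)) (he : ∀ a, IsFrame (e a)) (n : ∀ a, Γ(N, U a)) (hn : ∀ a, IsFrame (n a))
    (h : ∀ a b, ∃ g : Γ(X, U a ⊓ U b),
      res M (inf_le_left : U a ⊓ U b ≤ U a) (e a) = g • res M inf_le_right (e b) ∧
      res N (inf_le_left : U a ⊓ U b ≤ U a) (n a) = g • res N inf_le_right (n b)) :
    Nonempty (M ≅ N) := by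
  have key : ∀ {P Q : X.Modules} (p : ∀ a, Γ(P, U a)) (q : ∀ a, Γ(Q, U a)), (∀ a, IsFrame (p a)) →
      (∀ a b, ∃ g : Γ(X, U a ⊓ U b),
        res P (inf_le_left : U a ⊓ U b ≤ U a) (p a) = g • res P inf_le_right (p b) ∧
        res Q (inf_le_left : U a ⊓ U b ≤ U a) (q a) = g • res Q inf_le_right (q b)) →
      ∀ (a b : ι) (W : X.Opens) (ha : W ≤ U a) (hb : W ≤ U b) (g : Γ(X, W)),
        res P hb (p b) = g • res P ha (p a) → res Q hb (q b) = g • res Q ha (q a) := by
    intro P Q p q hp hpq a b W ha hb g hg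
    obtain ⟨g₀, h1, h2⟩ := hpq b a
    have h1' := congrArg (res P (le_inf hb ha)) h1
    have h2' := congrArg (res Q (le_inf hb ha)) h2
    rw [res_smul, res_res, res_res] at h1' h2'
    rw [h2', (hp a).coord_unique ha (hg.symm.trans h1')]
  let φ : M ⟶ N := @ofFrames X M N ι U e n hcov he (key e n he h)
  let ψ : N ⟶ M := @ofFrames X N M ι U n e hcov hn
    (key n e hn fun a b => let ⟨g, h1, h2⟩ := h a b; ⟨g, h2, h1⟩)
  refine ⟨⟨φ, ψ, hom_ext_of_frames U hcov e he fun a => ?_, hom_ext_of_frames U hcov n hn fun a => ?_⟩⟩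
  · show ψ.app (U a) (φ.app (U a) (e a)) = e a
    rw [ofFrames_app, ofFrames_app]
  · show φ.app (U a) (ψ.app (U a) (n a)) = n a
    rw [ofFrames_app, ofFrames_app]

/-- A module trivial on the image of an open immersion has a frame there. -/
theorem exists_frame_of_iso {Y : Scheme.{u}} (j : Y ⟶ X) [IsOpenImmersion j]
    (φ : M.restrict j ≅ Coh.structureModule Y) : ∃ e : Γ(M, j ''ᵁ ⊤), IsFrame e := by
  refine ⟨φ.inv.app ⊤ (1 : Γ(Y, ⊤)), InvUfdLib.isFrame_of_restrict j ?_⟩
  refine InvUfdLib.isFrame_of_app φ.hom (fun W _ =>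
    (ConcreteCategory.isIso_iff_bijective _).1 (Scheme.Modules.Hom.isIso_iff_isIso_app.1 inferInstance W)) ?_
  have h : φ.hom.app ⊤ (φ.inv.app ⊤ (1 : Γ(Y, ⊤))) = (1 : Γ(Y, ⊤)) :=
    congrArg (fun t : Coh.structureModule Y ⟶ Coh.structureModule Y => t.app ⊤ (1 : Γ(Y, ⊤))) φ.inv_hom_id
  exact h.symm ▸ InvUfdLib.isFrame_one

/-- An invertible module on the spectrum of a factorial domain is trivial. -/
theorem trivial_spec {R : CommRingCat.{u}} [IsDomain R] [UniqueFactorizationMonoid R] (L : (Spec R).Modules)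
    (hL : PicF.IsInvertible L) : Nonempty (L ≅ Coh.structureModule (Spec R)) := by
  let w : ((⊤ : (Spec R).Opens) : Scheme.{u}) ≅ Spec R := (Spec R).topIso
  obtain ⟨φ⟩ := InvUfdLib.nonempty_iso (⊤ : (Spec R).Opens) ((Scheme.Modules.pullback w.hom).obj L)
    (PicLoc.isInvertible_pullback _ hL)
  exact ⟨((Scheme.Modules.pullbackId (X := Spec R)).app L).symm ≪≫
    ((Scheme.Modules.pullbackCongr w.inv_hom_id.symm).app L) ≪≫
    ((Scheme.Modules.pullbackComp w.inv w.hom).app L).symm ≪≫
    (Scheme.Modules.pullback w.inv).mapIso φ ≪≫ CurveBC.unitIso w.inv⟩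

end General

section Laurent

/-- Units of Laurent polynomials over a field are monomials. -/
theorem exists_single_of_mul_eq_one {ι : Type} {K : Type u} [Field K] {a b : PnCoh.Laur ι K} (h : a * b = 1) :
    ∃ (x : PnCoh.Expo ι) (c : K), c ≠ 0 ∧ a = AddMonoidAlgebra.single x c ∧
      b = AddMonoidAlgebra.single (-x) c⁻¹ := by
  classical
  have ha : a.coeff.support.Nonempty := Finsupp.support_nonempty_iff.2 fun h0 => one_ne_zero (α := PnCoh.Laur ι K)
    (h.symm.trans (by rw [show a = 0 from AddMonoidAlgebra.coeff_injective h0, zero_mul]))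
  have hb : b.coeff.support.Nonempty := Finsupp.support_nonempty_iff.2 fun h0 => one_ne_zero (α := PnCoh.Laur ι K)
    (h.symm.trans (by rw [show b = 0 from AddMonoidAlgebra.coeff_injective h0, mul_zero]))
  have hzero : ∀ p ∈ a.coeff.support, ∀ q ∈ b.coeff.support,
      UniqueAdd a.coeff.support b.coeff.support p q → p + q = 0 := by
    intro p hp q hq hu
    by_contra hne
    have h1 := AddMonoidAlgebra.coeff_mul_add_of_uniqueAdd hu
    rw [h, AddMonoidAlgebra.one_def, AddMonoidAlgebra.coeff_single, Finsupp.single_eq_of_ne hne] at h1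
    exact mul_ne_zero (Finsupp.mem_support_iff.1 hp) (Finsupp.mem_support_iff.1 hq) h1.symm
  have hle : a.coeff.support.card * b.coeff.support.card ≤ 1 := by
    by_contra hlt
    obtain ⟨p, hp, q, hq, hne, hu, hu'⟩ := TwoUniqueSums.uniqueAdd_of_one_lt_card (not_le.1 hlt)
    rw [Finset.mem_product] at hp hq
    have h1 := hzero _ hp.1 _ hp.2 hu
    have h2 := hzero _ hq.1 _ hq.2 hu'
    exact hne (Prod.ext_iff.2 (hu' hp.1 hp.2 (h1.trans h2.symm)))
  have hA : a.coeff.support.card = 1 := by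
    have := Finset.card_pos.2 ha; have := Finset.card_pos.2 hb; nlinarith
  have hB : b.coeff.support.card = 1 := by
    have := Finset.card_pos.2 ha; have := Finset.card_pos.2 hb; nlinarith
  obtain ⟨x, c, hc, hax⟩ := Finsupp.card_support_eq_one'.1 hA
  obtain ⟨y, d, hd, hby⟩ := Finsupp.card_support_eq_one'.1 hB
  have hax' : a = AddMonoidAlgebra.single x c := AddMonoidAlgebra.coeff_injective (by rw [hax, AddMonoidAlgebra.coeff_single])
  have hby' : b = AddMonoidAlgebra.single y d := AddMonoidAlgebra.coeff_injective (by rw [hby, AddMonoidAlgebra.coeff_single])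
  rw [hax', hby', AddMonoidAlgebra.single_mul_single, AddMonoidAlgebra.one_def] at h
  have h' := congrArg AddMonoidAlgebra.coeff h
  rw [AddMonoidAlgebra.coeff_single, AddMonoidAlgebra.coeff_single, Finsupp.single_eq_single_iff] at h'
  rcases h' with ⟨hxy, hcd⟩ | ⟨hcd, -⟩
  · refine ⟨x, c, hc, hax', ?_⟩
    rw [hby', eq_neg_of_add_eq_zero_right hxy, eq_inv_of_mul_eq_one_right hcd]
  · exact absurd hcd (mul_ne_zero hc hd)

end Laurent

variable {m : ℕ} {K : Type u} [Field K]

attribute [local instance] MvPolynomial.gradedAlgebra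

local notation "𝒜" => MvPolynomial.homogeneousSubmodule (Fin (m + 1)) K
/-- The exponent of a variable. -/
abbrev ex (i : Fin (m + 1)) : Fin (m + 1) →₀ ℕ := Finsupp.single i 1

local notation "δ" => ex

/-- The chart. -/
abbrev U (i : Fin (m + 1)) : (Proj 𝒜).Opens := PnCoh.mOpen K (δ i)

theorem U_inf (i j : Fin (m + 1)) : U (K := K) i ⊓ U j = PnCoh.mOpen K (δ i + δ j) :=
  (PnCoh.mOpen_add _ _).symm

theorem hcovU (x : Proj 𝒜) : ∃ i, x ∈ U (K := K) i :=
  Opens.mem_iSup.1 ((PnCoh.iSup_mOpen_single (ι := Fin (m + 1)) (R := K)).ge (Set.mem_univ x))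

theorem sum_ne_zero (i j : Fin (m + 1)) : δ i + δ j ≠ 0 := fun h => by
  have := DFunLike.congr_fun h i
  simp [Finsupp.single_apply] at this

/-- Invertible modules are trivial on the charts. -/
theorem exists_frame_U (L : (Proj 𝒜).Modules) (hL : PicF.IsInvertible L) (i : Fin (m + 1)) :
    ∃ e : Γ(L, U i), IsFrame e := by
  let T : MvPolynomial (Fin (m + 1)) K := MvPolynomial.X i
  let E : MvPolynomial (H23.PnChart.Idx.{u} m i) K ≃+* Away 𝒜 T :=
    RingEquiv.ofBijective (H23.PnChart.fromChart m K i)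
      ⟨H23.PnChart.fromChart_injective m K i, H23.PnChart.fromChart_surjective m K i⟩
  haveI : IsDomain (Away 𝒜 T) := E.toMulEquiv.symm.isDomain _
  haveI : UniqueFactorizationMonoid (Away 𝒜 T) := E.toMulEquiv.uniqueFactorizationMonoid inferInstance
  let R : CommRingCat.{u} := CommRingCat.of (Away 𝒜 T)
  haveI : IsDomain R := ‹IsDomain (Away 𝒜 T)›
  haveI : UniqueFactorizationMonoid R := ‹UniqueFactorizationMonoid (Away 𝒜 T)›
  let j : Spec R ⟶ Proj 𝒜 := Proj.awayι 𝒜 T (ZetaLib.X_mem_one m K i) Nat.one_pos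
  obtain ⟨φ⟩ := trivial_spec ((Scheme.Modules.pullback j).obj L) (PicLoc.isInvertible_pullback _ hL)
  obtain ⟨e, he⟩ := exists_frame_of_iso j ((Scheme.Modules.restrictFunctorIsoPullback j).app L ≪≫ φ)
  have hU : U (K := K) i = j ''ᵁ ⊤ := by
    rw [Scheme.Hom.image_top_eq_opensRange, Proj.opensRange_awayι]
    rfl
  exact hU ▸ ⟨e, he⟩

/-- Functions on the intersection of two charts as Laurent polynomials. -/
def toL (i j : Fin (m + 1)) : Γ(Proj 𝒜, U i ⊓ U j) →+* PnCoh.Laur (Fin (m + 1)) K :=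
  (PnCoh.secL (δ i + δ j) (sum_ne_zero i j)).comp (resR (U_inf i j).ge)

theorem toL_injective (i j : Fin (m + 1)) : Function.Injective (toL (K := K) i j) := by
  intro a b h
  have h' : resR (U_inf (K := K) i j).ge a = resR (U_inf (K := K) i j).ge b :=
    PnCoh.secL_injective (δ i + δ j) (sum_ne_zero i j) h
  have h1 := congrArg (resR (U_inf (K := K) i j).le) h'
  simpa only [resR_resR, resR_self] using h1

theorem toL_mem (i j : Fin (m + 1)) (u : Γ(Proj 𝒜, U i ⊓ U j)) :
    toL i j u ∈ AddMonoidAlgebra.supported K K (PnCoh.supp {i, j}) := by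
  have h := PnCoh.secL_mem (δ i + δ j) (sum_ne_zero i j) (resR (U_inf (K := K) i j).ge u)
  have hs : ((δ i + δ j).support : Set (Fin (m + 1))) = {i, j} := by
    ext l
    simp [Finsupp.single_apply, eq_comm]
    tauto
  rwa [hs] at h

theorem exists_toL_eq (i j : Fin (m + 1)) (c : K) : ∃ u, toL i j u = AddMonoidAlgebra.single 0 c := by
  obtain ⟨x, hx⟩ := PnCoh.exists_secL_eq (R := K) (δ i + δ j) (sum_ne_zero i j)
    (p := AddMonoidAlgebra.single 0 c) (by
      refine AddMonoidAlgebra.mem_supported'.2 fun e he => ?_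
      rw [AddMonoidAlgebra.coeff_single, Finsupp.single_apply, if_neg]
      rintro rfl
      exact he ⟨rfl, fun l hl => absurd hl (by simp)⟩)
  refine ⟨resR (U_inf (K := K) i j).le x, ?_⟩
  show PnCoh.secL (δ i + δ j) (sum_ne_zero i j) (resR (U_inf (K := K) i j).ge (resR (U_inf (K := K) i j).le x)) = _
  rw [resR_resR, resR_self]
  exact hx

theorem toL_res {g : Fin (m + 1) →₀ ℕ} (hg : g ≠ 0) (h : Fin (m + 1) →₀ ℕ) (i j : Fin (m + 1))
    (hgh : g = δ i + δ j + h) (hle : PnCoh.mOpen K g ≤ U i ⊓ U j) (u : Γ(Proj 𝒜, U i ⊓ U j)) :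
    PnCoh.secL g hg (resR hle u) = toL i j u := by
  have hle' : PnCoh.mOpen K g ≤ PnCoh.mOpen K (δ i + δ j) := hle.trans (U_inf i j).le
  refine Eq.trans ?_ (PnCoh.secL_res h hgh (sum_ne_zero i j) hg (homOfLE hle') (resR (U_inf i j).ge u))
  exact congrArg _ (resR_resR (U_inf i j).ge hle' u).symm

/-- The function `T_b / T_a` as a Laurent polynomial. -/
theorem toL_rr (i j : Fin (m + 1)) :
    toL i j (PnCoh.Finite.rr (ZetaLib.X_mem_one m K i) (ZetaLib.X_mem_one m K j) inf_le_left) =
      AddMonoidAlgebra.single (PnCoh.castExpo _ (δ j) - PnCoh.castExpo _ (δ i)) 1 := by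
  have hi : δ i ≠ 0 := fun h => by simpa using DFunLike.congr_fun h i
  let Y : Away 𝒜 (MvPolynomial.monomial (δ i) (1 : K)) :=
    HomogeneousLocalization.Away.mk 𝒜 (ZetaLib.X_mem_one m K i) 1 (MvPolynomial.X j)
      (by rw [one_smul]; exact ZetaLib.X_mem_one m K j)
  have hY : (Proj.awayToSection 𝒜 (MvPolynomial.monomial (δ i) (1 : K))).hom Y =
      PnCoh.Finite.ratio (ZetaLib.X_mem_one m K i) (ZetaLib.X_mem_one m K j) := by
    refine Subtype.ext (funext fun x => HomogeneousLocalization.val_injective _ ?_)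
    refine (ProjectiveSpectrum.Proj.awayToSection_apply 𝒜 _ _ x).trans ?_
    rw [HomogeneousLocalization.Away.val_mk, Localization.mk_eq_mk', IsLocalization.map_mk',
      PnCoh.Finite.ratio_val, Localization.mk_eq_mk']
    simp [MvPolynomial.X]
  have hle' : PnCoh.mOpen K (δ i + δ j) ≤ PnCoh.mOpen K (δ i) := (U_inf i j).ge.trans inf_le_left
  refine Eq.trans ?_ ((PnCoh.secL_res (δ j) rfl hi (sum_ne_zero i j) (homOfLE hle')
    ((Proj.awayToSection 𝒜 (MvPolynomial.monomial (δ i) (1 : K))).hom Y)).trans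
      ((PnCoh.secL_awayToSection (δ i) hi Y).trans ?_))
  · rw [hY]
    rfl
  · rw [PnCoh.awayToLaur_apply, HomogeneousLocalization.Away.val_mk]
    refine (PnCoh.locToLaur_mk (δ i) (MvPolynomial.X j) 1).trans ?_
    rw [MvPolynomial.X, PnCoh.toLaur_monomial, AddMonoidAlgebra.single_mul_single, one_smul, one_mul,
      ← sub_eq_add_neg]

/-- The frame `T_i ^ d` of `O(d)`. -/
def twFrame (d : ℤ) (i : Fin (m + 1)) : Γ(Twist.twist 𝒜 d, U i) :=
  PnCoh.twPow (ZetaLib.X_mem_one m K i) d (PnCoh.Finite.nonVan_of_le (V := U (K := K) i) le_rfl)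

theorem isFrame_twFrame (d : ℤ) (i : Fin (m + 1)) : IsFrame (twFrame (K := K) d i) := fun _ hV =>
  PnCoh.trivMap_bijective (ZetaLib.X_mem_one m K i) d (PnCoh.Finite.nonVan_of_le hV)

/-- The transition functions of `O(d)`. -/
theorem exists_twFrame_change (d : ℤ) (i j : Fin (m + 1)) :
    ∃ g : Γ(Proj 𝒜, U (K := K) i ⊓ U j),
      toL (K := K) i j g = AddMonoidAlgebra.single (d • (PnCoh.castExpo _ (δ i) - PnCoh.castExpo _ (δ j))) (1 : K) ∧
      res (Twist.twist 𝒜 d) (inf_le_left : U (K := K) i ⊓ U j ≤ U i) (twFrame d i) = g • res (Twist.twist 𝒜 d) inf_le_right (twFrame (K := K) d j) := by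
  let a := PnCoh.Finite.rr (V := U (K := K) i ⊓ U j) (ZetaLib.X_mem_one m K j) (ZetaLib.X_mem_one m K i) inf_le_right
  let b := PnCoh.Finite.rr (V := U (K := K) i ⊓ U j) (ZetaLib.X_mem_one m K i) (ZetaLib.X_mem_one m K j) inf_le_left
  have hb : toL i j b = AddMonoidAlgebra.single (PnCoh.castExpo _ (δ j) - PnCoh.castExpo _ (δ i)) 1 := toL_rr i j
  have hab : a * b = 1 := by
    have h := PnCoh.Finite.rr_mul_rr (ZetaLib.X_mem_one m K j) (ZetaLib.X_mem_one m K i) (ZetaLib.X_mem_one m K j)
      (inf_le_right : U (K := K) i ⊓ U j ≤ U j) (inf_le_left : U (K := K) i ⊓ U j ≤ U i)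
    refine h.trans ?_
    show resR _ _ = 1
    rw [PnCoh.Finite.ratio_self, map_one]
  have ha : toL i j a = AddMonoidAlgebra.single (PnCoh.castExpo _ (δ i) - PnCoh.castExpo _ (δ j)) 1 := by
    have h := congrArg (toL (K := K) i j) hab
    rw [map_mul, map_one, hb] at h
    refine (left_inv_eq_right_inv (a := AddMonoidAlgebra.single
      (PnCoh.castExpo _ (δ j) - PnCoh.castExpo _ (δ i)) (1 : K)) h ?_)
    rw [AddMonoidAlgebra.single_mul_single, one_mul, sub_add_sub_cancel, sub_self]
    rfl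
  refine ⟨a ^ d.toNat * b ^ (-d).toNat, ?_, ?_⟩
  · rw [map_mul, map_pow, map_pow, ha, hb, AddMonoidAlgebra.single_pow, AddMonoidAlgebra.single_pow,
      AddMonoidAlgebra.single_mul_single, one_pow, one_pow, one_mul]
    congr 1
    conv_rhs => rw [← Int.toNat_sub_toNat_neg d, sub_smul, natCast_zsmul, natCast_zsmul]
    rw [← neg_sub (PnCoh.castExpo _ (δ i)) (PnCoh.castExpo _ (δ j)), smul_neg]
    abel
  · refine Subtype.ext (funext fun x => Subtype.ext ?_)
    refine Eq.trans ?_ (PnCoh.trivMap_apply (ZetaLib.X_mem_one m K j) d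
      (PnCoh.Finite.nonVan_of_le (inf_le_right : U (K := K) i ⊓ U j ≤ U j)) (a ^ d.toNat * b ^ (-d).toNat) x).symm
    refine Eq.trans ?_ (congrArg (· * _) ((HomogeneousLocalization.val_mul _ _).trans
      (congrArg₂ (· * ·) ((HomogeneousLocalization.val_pow _ _).trans (congrArg (· ^ d.toNat) (PnCoh.Finite.rr_val _ _ _ x)))
        ((HomogeneousLocalization.val_pow _ _).trans (congrArg (· ^ (-d).toNat) (PnCoh.Finite.rr_val _ _ _ x)))))).symm
    show Localization.mk _ _ = _
    rw [Localization.mk_pow, Localization.mk_pow, Localization.mk_mul, Localization.mk_mul,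
      Localization.mk_eq_mk_iff, Localization.r_iff_exists]
    exact ⟨1, by simp; ring⟩

/-- Invertible modules on projective space over a field are twisting sheaves. -/
theorem exists_iso_twist (L : (CohB1.ProjSpace m K).Modules) (hL : PicF.IsInvertible L) :
    ∃ d : ℤ, Nonempty (L ≅ Twist.twistProjSpace m K d) := by
  classical
  let L' : (Proj 𝒜).Modules := L
  choose e he using exists_frame_U L' hL
  choose u hu using fun i j => (he j).exists_coord (inf_le_right : U (K := K) i ⊓ U j ≤ U j)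
    (res L' (inf_le_left : U i ⊓ U j ≤ U i) (e i))
  choose u' hu' using fun i j => (he i).exists_coord (inf_le_left : U (K := K) i ⊓ U j ≤ U i)
    (res L' (inf_le_right : U i ⊓ U j ≤ U j) (e j))
  have huu : ∀ i j, u i j * u' i j = 1 := fun i j => (he i).coord_unique inf_le_left (by
    rw [mul_smul, ← hu', ← hu, one_smul])
  have hmono : ∀ i j, ∃ (x : PnCoh.Expo (Fin (m + 1))) (c : K), c ≠ 0 ∧
      toL i j (u i j) = AddMonoidAlgebra.single x c ∧ ∀ l, l ≠ i → l ≠ j → x l = 0 := by
    intro i j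
    have h := congrArg (toL (K := K) i j) (huu i j)
    rw [map_mul, map_one] at h
    obtain ⟨x, c, hc, h1, h2⟩ := exists_single_of_mul_eq_one h
    refine ⟨x, c, hc, h1, fun l hli hlj => ?_⟩
    have m1 := AddMonoidAlgebra.mem_supported'.1 (toL_mem i j (u i j)) x
    have m2 := AddMonoidAlgebra.mem_supported'.1 (toL_mem i j (u' i j)) (-x)
    rw [h1, AddMonoidAlgebra.coeff_single, Finsupp.single_eq_same] at m1
    rw [h2, AddMonoidAlgebra.coeff_single, Finsupp.single_eq_same] at m2
    have n1 : ¬ x l < 0 := fun hlt => by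
      rcases (not_not.1 (mt m1 hc)).2 l hlt with h | h
      · exact hli h
      · exact hlj h
    have n2 : ¬ (-x) l < 0 := fun hlt => by
      rcases (not_not.1 (mt m2 (inv_ne_zero hc))).2 l hlt with h | h
      · exact hli h
      · exact hlj h
    simp only [Finsupp.neg_apply] at n2
    omega
  have hdeg : ∀ i j (x : PnCoh.Expo (Fin (m + 1))) (c : K), c ≠ 0 →
      toL i j (u i j) = AddMonoidAlgebra.single x c → ∑ l, x l = 0 := by
    intro i j x c hc hx
    have m1 := AddMonoidAlgebra.mem_supported'.1 (toL_mem i j (u i j)) x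
    rw [hx, AddMonoidAlgebra.coeff_single, Finsupp.single_eq_same] at m1
    have h := (not_not.1 (mt m1 hc)).1
    rwa [Finsupp.sum_fintype _ _ fun _ => rfl] at h
  choose x c hc hx hsupp using hmono
  have hcoc : ∀ i j l, x i j + x j l = x i l ∧ c i j * c j l = c i l := by
    intro i j l
    let g := δ i + δ j + δ l
    have hg : g ≠ 0 := fun h => by
      have := DFunLike.congr_fun h i
      simp [g, Finsupp.single_apply] at this
    have hle : PnCoh.mOpen K g ≤ U i ⊓ U j ⊓ U l := by
      rw [U_inf, ← PnCoh.mOpen_add]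
    have hij : PnCoh.mOpen K g ≤ U i ⊓ U j := hle.trans inf_le_left
    have hjl : PnCoh.mOpen K g ≤ U j ⊓ U l := hle.trans (le_inf (inf_le_left.trans inf_le_right) inf_le_right)
    have hil : PnCoh.mOpen K g ≤ U i ⊓ U l := hle.trans (le_inf (inf_le_left.trans inf_le_left) inf_le_right)
    have a1 := congrArg (res L' hij) (hu i j)
    have a2 := congrArg (res L' hjl) (hu j l)
    have a3 := congrArg (res L' hil) (hu i l)
    rw [res_smul, res_res, res_res] at a1 a2 a3
    rw [a2, ← mul_smul] at a1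
    have h := congrArg (PnCoh.secL g hg) ((he l).coord_unique (hil.trans inf_le_right) (a1.symm.trans a3))
    rw [map_mul, toL_res hg (δ l) i j rfl hij, toL_res hg (δ i) j l (add_rotate _ _ _) hjl,
      toL_res hg (δ j) i l (add_right_comm _ _ _) hil, hx, hx, hx, AddMonoidAlgebra.single_mul_single] at h
    have h' := congrArg AddMonoidAlgebra.coeff h
    rw [AddMonoidAlgebra.coeff_single, AddMonoidAlgebra.coeff_single, Finsupp.single_eq_single_iff] at h'
    rcases h' with h' | ⟨-, h'⟩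
    · exact h'
    · exact absurd h' (hc i l)
  have hy : ∀ i, x i 0 = x i 0 0 • (PnCoh.castExpo _ (δ 0) - PnCoh.castExpo _ (δ i)) := by
    intro i
    by_cases hi : i = 0
    · subst hi
      have h0 := (hcoc 0 0 0).1
      rw [add_eq_left] at h0
      simp [h0]
    ext l
    have hsum := hdeg i 0 _ _ (hc i 0) (hx i 0)
    rw [Finset.sum_eq_add i 0 hi (fun l _ hl => hsupp i 0 l hl.1 hl.2) (by simp) (by simp)] at hsum
    simp only [Finsupp.smul_apply, Finsupp.sub_apply, PnCoh.castExpo_apply, Finsupp.single_apply, smul_eq_mul]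
    by_cases hl0 : l = 0
    · subst hl0; simp [hi]
    by_cases hli : l = i
    · subst hli; simp [Ne.symm hl0]; omega
    · rw [hsupp i 0 l hli hl0]; simp [Ne.symm hl0, Ne.symm hli]
  have hd : ∀ i j, i ≠ 0 → j ≠ 0 → x i 0 0 = x j 0 0 := by
    intro i j hi hj
    have h := DFunLike.congr_fun (hcoc i j 0).1 0
    rw [Finsupp.add_apply, hsupp i j 0 (Ne.symm hi) (Ne.symm hj), zero_add] at h
    exact h.symm
  obtain ⟨d, hd'⟩ : ∃ d : ℤ, ∀ i, x i 0 = d • (PnCoh.castExpo _ (δ 0) - PnCoh.castExpo _ (δ i)) := by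
    by_cases hex : ∃ i : Fin (m + 1), i ≠ 0
    · obtain ⟨i0, hi0⟩ := hex
      refine ⟨x i0 0 0, fun i => ?_⟩
      by_cases hi : i = 0
      · subst hi; rw [hy 0, sub_self, smul_zero, smul_zero]
      · rw [hy i, hd i i0 hi hi0]
    · push Not at hex
      exact ⟨0, fun i => by rw [hy i, hex i, sub_self, smul_zero, smul_zero]⟩
  have hxij : ∀ i j, x i j = (-d) • (PnCoh.castExpo _ (δ i) - PnCoh.castExpo _ (δ j)) := by
    intro i j
    have h := (hcoc i j 0).1
    rw [hd' i, hd' j, ← eq_sub_iff_add_eq, ← smul_sub] at h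
    rw [h, neg_smul, ← smul_neg]
    congr 1
    abel
  have hconst : ∀ i, ∃ k : Γ(Proj 𝒜, U i), IsUnit k ∧
      ∀ j (h : U i ⊓ U j ≤ U (K := K) i), toL i j (resR h k) = AddMonoidAlgebra.single 0 (c i 0)⁻¹ ∧
        ∀ (h' : U j ⊓ U i ≤ U (K := K) i), toL j i (resR h' k) = AddMonoidAlgebra.single 0 (c i 0)⁻¹ := by
    intro i
    have hi : δ i ≠ 0 := fun h => by simpa using DFunLike.congr_fun h i
    have mk : ∀ t : K, ∃ k : Γ(Proj 𝒜, U i), PnCoh.secL (δ i) hi k = AddMonoidAlgebra.single 0 t := fun t =>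
      PnCoh.exists_secL_eq (R := K) (δ i) hi (p := AddMonoidAlgebra.single 0 t) (by
        refine AddMonoidAlgebra.mem_supported'.2 fun e he => ?_
        rw [AddMonoidAlgebra.coeff_single, Finsupp.single_apply, if_neg]
        rintro rfl
        exact he ⟨rfl, fun l hl => absurd hl (by simp)⟩)
    obtain ⟨k, hk⟩ := mk (c i 0)⁻¹
    obtain ⟨k', hk'⟩ := mk (c i 0)
    refine ⟨k, IsUnit.of_mul_eq_one k' (PnCoh.secL_injective (δ i) hi ?_), fun j h => ⟨?_, fun h' => ?_⟩⟩
    · rw [map_mul, map_one, hk, hk', AddMonoidAlgebra.single_mul_single, add_zero, inv_mul_cancel₀ (hc i 0)]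
      rfl
    · refine Eq.trans ?_ hk
      show PnCoh.secL (δ i + δ j) (sum_ne_zero i j) (resR (U_inf (K := K) i j).ge (resR h k)) = _
      rw [resR_resR]
      exact PnCoh.secL_res (δ j) rfl hi (sum_ne_zero i j) (homOfLE ((U_inf i j).ge.trans inf_le_left)) k
    · refine Eq.trans ?_ hk
      show PnCoh.secL (δ j + δ i) (sum_ne_zero j i) (resR (U_inf (K := K) j i).ge (resR h' k)) = _
      rw [resR_resR]
      exact PnCoh.secL_res (δ j) (add_comm _ _) hi (sum_ne_zero j i) (homOfLE ((U_inf j i).ge.trans inf_le_right)) k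
  choose k hku hk using hconst
  refine ⟨-d, nonempty_iso_of_frames (fun a : ULift.{u} (Fin (m + 1)) => U (K := K) a.down)
    (fun z => let ⟨a, ha⟩ := hcovU z; ⟨⟨a⟩, ha⟩) (fun a => k a.down • e a.down)
    (fun a => (he a.down).isUnit_smul (hku a.down)) (fun a => twFrame (-d) a.down)
    (fun a => isFrame_twFrame (-d) a.down) ?_⟩
  rintro ⟨i⟩ ⟨j⟩
  obtain ⟨g, hg, hgt⟩ := exists_twFrame_change (K := K) (-d) i j
  refine ⟨g, ?_, hgt⟩
  rw [res_smul, res_smul, hu i j, ← mul_smul, ← mul_smul]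
  congr 1
  apply toL_injective i j
  dsimp only
  rw [map_mul, map_mul]
  erw [(hk i j inf_le_left).1, (hk j i inf_le_left).2 inf_le_right]
  rw [hg, hx i j, hxij i j, AddMonoidAlgebra.single_mul_single, AddMonoidAlgebra.single_mul_single, zero_add, add_zero, one_mul]
  congr 1
  rw [← (hcoc i j 0).2]
  field_simp [hc i j, hc j 0]

end Groth.Agent.SBBundle.PicPn
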