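import Groth.Agent.SBBundle.InsepType

/-!
# Existence of indecomposable modules of every twisting type
-/

set_option autoImplicit false
set_option backward.isDefEq.respectTransparency false
set_option backward.isDefEq.respectTransparency.types false
set_option linter.style.haveILetI false

universe u

open CategoryTheory CategoryTheory.Limits AlgebraicGeometry
open W4c1astiltbs12

noncomputable section

namespace Groth.Agent.SBBundle.TwExist

open Groth.Agent.H23

/-- A coherent module becoming a power of a twisting sheaf is finite locally free. -/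
theorem isFinLocFree_of_isTwPow {k : Type u} [Field k] {X : Scheme.{u}} (p : X ⟶ Spec (CommRingCat.of k))
    [IsProper p] {K : Type u} [Field K] [Algebra k K] {n : ℕ} (e : BrSev.Splitting p K n) {j : ℤ} {r : ℕ}
    {M : X.Modules} (hM : Coh.IsCoh M) (h : BrSev.IsTwPow e j r M) : FlatMod.IsFinLocFree M := by
  haveI := ASBunK.isLocallyNoetherian_of_proper k p
  haveI : Flat (proj p K) := MorphismProperty.pullback_fst _ _ (ASBunK.flat_specMap k K _)
  haveI : Surjective (proj p K) := MorphismProperty.pullback_fst _ _ (ASBunK.surjective_specMap k K _)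
  haveI : QuasiCompact (proj p K) := MorphismProperty.pullback_fst _ _ inferInstance
  refine FTDescent.isFinLocFree_of_pullback (proj p K) hM.1 ?_
  exact PullPush.isFinLocFree_of_iso h.some.symm (KFlatLib.isFinLocFree_sigma _ Finset.univ
    (fun i hi => absurd (Finset.mem_univ i) hi) fun _ => SBBundle.isFinLocFree_of_isInvertible (isInvertible_twist e j))

variable (k : Type u) [Field k] {X : Scheme.{u}} (p : X ⟶ Spec (CommRingCat.of k)) [IsProper p]
  {n : ℕ} (K : Type u) [Field K] [Algebra k K] [IsAlgClosure k K] (e : BrSev.Splitting p K n)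

/-- Every twisting sheaf is the type of an indecomposable module. -/
theorem exists_indec_type (j : ℤ) : ∃ (W : X.Modules) (r : ℕ), FlatMod.IsFinLocFree W ∧
    ASBunK.Indec W ∧ 0 < r ∧ BrSev.IsTwPow e j r W := by
  classical
  haveI : IsAlgClosed K := IsAlgClosure.isAlgClosed k
  haveI : Algebra.IsAlgebraic k K := IsAlgClosure.isAlgebraic
  haveI : Normal k K := IsAlgClosure.normal k K
  let ks := separableClosure k K
  haveI : IsSepClosure k ks := inferInstance
  haveI : IsSepClosed ks := IsSepClosure.sep_closed k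
  haveI : IsAlgClosure ks K := ⟨inferInstance, Algebra.IsAlgebraic.tower_top (K := k) ks⟩
  let Xs := pullback p (ASBunK.strField k ks)
  let ps : Xs ⟶ Spec (CommRingCat.of ks) := pullback.snd p (ASBunK.strField k ks)
  haveI : IsProper ps := MorphismProperty.pullback_snd _ _ ‹IsProper p›
  haveI := ASBunK.isLocallyNoetherian_of_proper ks ps
  have hout : IsPullback (proj ps K ≫ proj p ks) (W4bk4gw11416.baseChangeTo ps K) p
      (Spec.map (CommRingCat.ofHom (algebraMap k K))) := by
    have h := (IsPullback.of_hasPullback ps (Spec.map (CommRingCat.ofHom (algebraMap ks K)))).paste_horiz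
      (IsPullback.of_hasPullback p (ASBunK.strField k ks))
    rwa [← Spec.map_comp, ← CommRingCat.ofHom_comp, ← IsScalarTower.algebraMap_eq k ks K] at h
  let I := hout.isoPullback
  let es : BrSev.Splitting ps K n :=
    ⟨I ≪≫ e.iso, by rw [Iso.trans_hom, Category.assoc, e.comm]; exact hout.isoPullback_hom_snd⟩
  let P : W4bk4gw11416.baseChange p K ⟶ Xs := ASBunK.projEmb p ks.val
  have hIP : I.hom ≫ P = proj ps K := by
    refine pullback.hom_ext ?_ ?_
    · rw [Category.assoc, ASBunK.projEmb_fst]
      exact hout.isoPullback_hom_fst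
    · rw [Category.assoc, ASBunK.projEmb_snd, ← Category.assoc]
      exact (congrArg (· ≫ Spec.map (CommRingCat.ofHom ks.val.toRingHom)) hout.isoPullback_hom_snd).trans
        (pullback.condition (f := ps)).symm
  have hIP' : I.inv ≫ proj ps K = P := (Iso.inv_comp_eq I).2 hIP.symm
  let toP : ∀ M : Xs.Modules, (Scheme.Modules.pullback P).obj M ≅
      (Scheme.Modules.pullback I.inv).obj (bcMod ps K M) := fun M =>
    (Scheme.Modules.pullbackCongr hIP'.symm).app M ≪≫ ((Scheme.Modules.pullbackComp I.inv (proj ps K)).app M).symm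
  let fromP : ∀ M : Xs.Modules, bcMod ps K M ≅
      (Scheme.Modules.pullback I.hom).obj ((Scheme.Modules.pullback P).obj M) := fun M =>
    (Scheme.Modules.pullbackCongr hIP.symm).app M ≪≫ ((Scheme.Modules.pullbackComp I.hom P).app M).symm
  let tw : es.twist j ≅ (Scheme.Modules.pullback I.hom).obj (e.twist j) :=
    ((Scheme.Modules.pullbackComp I.hom e.iso.hom).app _).symm
  let tw' : (Scheme.Modules.pullback I.inv).obj (es.twist j) ≅ e.twist j :=
    (Scheme.Modules.pullback I.inv).mapIso tw ≪≫ (Scheme.Modules.pullbackComp I.inv I.hom).app _ ≪≫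
      (Scheme.Modules.pullbackCongr I.inv_hom_id).app _ ≪≫ (Scheme.Modules.pullbackId _).app _
  -- an indecomposable module over the separable closure
  obtain ⟨M, d, hM, hd, hMt⟩ := InsepType.exists_type_sepClosed es j
  letI : Xs.Over (Spec (CommRingCat.of ks)) := ⟨ps⟩
  haveI : IsProper (Xs ↘ Spec (CommRingCat.of ks)) := ‹IsProper ps›
  have hN : ASBunK.Indec (es.twist j) := indec_twist (X := Xs) es j
  obtain ⟨G, c, r, hG, hR, -, hr, -, ⟨hGt⟩⟩ := ASBunK.exists_indec_of_type ks ps K hN hM hd hMt.some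
  have hGc := ASBunK.isCoh_of_isRetr hR hM
  have hGf : FlatMod.IsFinLocFree G := isFinLocFree_of_isTwPow ps es hGc ⟨hGt⟩
  let dP : ASBunK.Dec ((Scheme.Modules.pullback P).obj G) (fun _ : Fin r => e.twist j) :=
    (((ASBunK.decOfIso hGt).map (Scheme.Modules.pullback I.inv)).mapIso fun _ => tw').ofIso (toP G).symm
  have hinv : ∀ σ : ks ≃ₐ[k] ks, Nonempty ((Scheme.Modules.pullback (galAct p ks σ)).obj G ≅ G) := fun σ => by
    let H := (Scheme.Modules.pullback (galAct p ks σ)).obj G
    have hHc : Coh.IsCoh H := CurveDeg.isCoh_of_isFinLocFree (KFlatLib.isFinLocFree_pullback _ hGf)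
    obtain ⟨τ, hτ⟩ := ASBunK.exists_extend ks (ks.val.comp σ.toAlgHom)
    have hPσ : P ≫ galAct p ks σ = galAct p K τ ≫ P := by
      rw [ASBunK.galAct_projEmb, hτ]
      refine pullback.hom_ext ?_ ?_
      · rw [Category.assoc, ASBunK.galAct_fst, ASBunK.projEmb_fst, ASBunK.projEmb_fst]
      · rw [Category.assoc]
        refine (congrArg (P ≫ ·) (ASBunK.galAct_snd p σ)).trans ?_
        rw [← Category.assoc, ASBunK.projEmb_snd]
        refine Eq.trans ?_ (ASBunK.projEmb_snd p _).symm
        rw [Category.assoc, ← Spec.map_comp]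
        rfl
    have hinvτ : ∀ τ : K ≃ₐ[k] K, galAct p K τ ≫ galAct p K τ.symm = 𝟙 _ := fun τ => by
      refine pullback.hom_ext ?_ ?_
      · rw [Category.assoc, ASBunK.galAct_fst, ASBunK.galAct_fst, Category.id_comp]
      · rw [Category.assoc]
        refine (congrArg (galAct p K τ ≫ ·) (ASBunK.galAct_snd p τ.symm)).trans ?_
        rw [← Category.assoc, ASBunK.galAct_snd, Category.assoc, ← Spec.map_comp, ← CommRingCat.ofHom_comp,
          show (τ : K →+* K).comp (τ.symm : K →+* K) = RingHom.id K from RingHom.ext fun x => τ.apply_symm_apply x,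
          CommRingCat.ofHom_id, Spec.map_id, Category.comp_id, Category.id_comp]
    let φ : BrSev.bc p K ≅ BrSev.bc p K :=
      ⟨galAct p K τ, galAct p K τ.symm, hinvτ τ, hinvτ τ.symm⟩
    obtain ⟨w⟩ := TwistFix.nonempty_pullback_twist e φ j
    let iH : (Scheme.Modules.pullback (galAct p K τ)).obj ((Scheme.Modules.pullback P).obj G) ≅
        (Scheme.Modules.pullback P).obj H :=
      (Scheme.Modules.pullbackComp (galAct p K τ) P).app G ≪≫ (Scheme.Modules.pullbackCongr hPσ.symm).app G ≪≫
        ((Scheme.Modules.pullbackComp P (galAct p ks σ)).app G).symm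
    let dH : ASBunK.Dec (bcMod ps K H) (fun _ : Fin r => es.twist j) :=
      (((((dP.map (Scheme.Modules.pullback (galAct p K τ))).mapIso fun _ => w).ofIso iH).map
        (Scheme.Modules.pullback I.hom)).mapIso fun _ => tw.symm).ofIso (fromP H).symm
    obtain ⟨G', c', s', hG', hR', hcs, hs', ⟨iH'⟩, ⟨hG't⟩⟩ :=
      ASBunK.exists_indec_of_type ks ps K hN hHc hr dH.iso
    have hG'c := ASBunK.isCoh_of_isRetr hR' hHc
    obtain ⟨u⟩ := ASBunK.indec_isotypic_unique ks ps K hG'c hGc hG' hG hG't hGt
    have hsr : s' = r := mult_unique (X := Xs) es hGc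
      (isTwPow_congr es ⟨hG't⟩ u) ⟨hGt⟩
    obtain rfl : c' = 1 := by
      rw [hsr] at hcs
      exact Nat.eq_of_mul_eq_mul_right hr (hcs.trans (one_mul r).symm)
    exact ⟨iH' ≪≫ coproductUniqueIso (fun _ : Fin 1 => G') ≪≫ u⟩
  obtain ⟨W, t, hW, hWi, ht, ⟨hWt⟩⟩ := ASBunK.exists_indec_of_invariant p (K := ks) G hGf hG hinv
  let iW : bcMod p K W ≅ (Scheme.Modules.pullback P).obj (bcMod p ks W) :=
    (Scheme.Modules.pullbackCongr (ASBunK.projEmb_fst p ks.val).symm).app W ≪≫
      ((Scheme.Modules.pullbackComp P (proj p ks)).app W).symm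
  let dW := (((ASBunK.decOfIso hWt).map (Scheme.Modules.pullback P)).bind fun _ => dP).ofIso iW.symm
  exact ⟨W, _, hW, hWi, Fintype.card_pos_iff.2 ⟨⟨⟨0, ht⟩, ⟨0, hr⟩⟩⟩, isTwPow_of_dec e dW⟩

end Groth.Agent.SBBundle.TwExist
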