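import Groth.Agent.CSALib.Index
import Groth.Agent.CSALib.PiTensor
import Groth.Agent.S7747
import Mathlib.Data.Nat.Choose.Lucas
import Mathlib.RingTheory.LittleWedderburn

/-!
# The index of the powers of an algebra with period equal to index
-/

set_option autoImplicit false

universe u v

open scoped TensorProduct

namespace Groth.Agent.SBBundle

open Groth.Agent.CSALib

theorem coprime_choose_pred {q P : ℕ} (hq : q.Prime) (hP : 0 < P) (h : q ∣ P) :
    Nat.Coprime q (Nat.choose (P - 1) (q - 1)) := by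
  haveI := Fact.mk hq
  rw [hq.coprime_iff_not_dvd]
  obtain ⟨c, rfl⟩ := h
  have hc : 0 < c := by
    rcases Nat.eq_zero_or_pos c with rfl | hc
    · simp at hP
    · exact hc
  obtain ⟨d, rfl⟩ : ∃ d, c = d + 1 := ⟨c - 1, by omega⟩
  have hmod : (q * (d + 1) - 1) % q = q - 1 := by
    rw [show q * (d + 1) - 1 = (q - 1) + q * d by have := hq.pos; rw [Nat.mul_succ]; omega,
      Nat.add_mul_mod_self_left, Nat.mod_eq_of_lt (by have := hq.pos; omega)]
  have hL := Choose.choose_modEq_choose_mod_mul_choose_div_nat (p := q) (n := q * (d + 1) - 1) (k := q - 1)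
  rw [hmod, Nat.mod_eq_of_lt (show q - 1 < q by have := hq.pos; omega),
    Nat.div_eq_of_lt (show q - 1 < q by have := hq.pos; omega), Nat.choose_self, Nat.choose_zero_right, one_mul] at hL
  intro hdvd
  have h0 : Nat.choose (q * (d + 1) - 1) (q - 1) % q = 0 := Nat.mod_eq_zero_of_dvd hdvd
  rw [hL, Nat.mod_eq_of_lt hq.one_lt] at h0
  exact one_ne_zero h0

variable {k : Type u} [Field k] {A : Type v} [Ring A] [Algebra k A] [Algebra.IsCentral k A] [IsSimpleRing A]
  [FiniteDimensional k A]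

omit [Algebra.IsCentral k A] [IsSimpleRing A] [FiniteDimensional k A] in
theorem finite_of_isIndex [Finite k] {d : ℕ} [Algebra.IsCentral k A] (h : CSAGal.IsIndex k A d) : d = 1 := by
  obtain ⟨D, _, _, _, _, hdim, -⟩ := exists_index_data h
  haveI : Finite D := Module.finite_of_finite k
  letI : Field D := littleWedderburn D
  have hb : Subalgebra.center k D = ⊤ := top_unique fun x _ => Subalgebra.mem_center_iff.2 fun y => mul_comm y x
  rw [Algebra.IsCentral.center_eq_bot] at hb
  have := Subalgebra.bot_eq_top_iff_finrank_eq_one.1 hb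
  rw [hdim] at this
  exact (Nat.pow_eq_one.1 this).resolve_right two_ne_zero

/-- The index of a power along a multiple exponent. -/
theorem index_mul_dvd {a b d d' : ℕ} (h : CSAGal.IsIndex k (CSAGal.tpow k A a) d)
    (h' : CSAGal.IsIndex k (CSAGal.tpow k A (a * b)) d') : d' ∣ d := by
  obtain ⟨_, _, _⟩ := centralSimple_pow k A a
  obtain ⟨_, _, _⟩ := centralSimple_pow k (⨂[k] _i : Fin a, A) b
  obtain ⟨_, _, _⟩ := centralSimple_pow k A (a * b)
  exact index_pow_dvd h b (isIndex_congr h' (similar_pow_mul a b).symm)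

variable [Infinite k]

/-- The index of a `q`-th power divides the binomial coefficient. -/
theorem index_pow_dvd_choose {B : Type v} [Ring B] [Algebra k B] [Algebra.IsCentral k B] [IsSimpleRing B]
    [FiniteDimensional k B] {d r d' : ℕ} (h : CSAGal.IsIndex k B d) (hr : r ≤ d)
    (h' : CSAGal.IsIndex k (⨂[k] _i : Fin r, B) d') : d' ∣ Nat.choose d r := by
  obtain ⟨_, _, _⟩ := centralSimple_pow k B r
  obtain ⟨hd, m, D, _, _, hm, hdim, ⟨iso⟩⟩ := h
  obtain ⟨hd', m', D', _, _, hm', hdim', ⟨iso'⟩⟩ := h'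
  haveI : NeZero m := ⟨hm.ne'⟩
  haveI : NeZero m' := ⟨hm'.ne'⟩
  haveI := Algebra.IsCentral.of_algEquiv k B _ iso
  haveI := Algebra.IsCentral.of_algEquiv k _ _ iso'
  haveI := isCentral_of_matrix k (D := D) (n := m)
  haveI := isCentral_of_matrix k (D := D') (n := m')
  haveI : FiniteDimensional k D := Module.finite_of_finrank_pos (by rw [hdim]; positivity)
  haveI : FiniteDimensional k D' := Module.finite_of_finrank_pos (by rw [hdim']; positivity)
  exact S7747.result k B D m iso d hdim r hr D' m' iso' d' hdim'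

/-- For period equal to index `p`, the index of the `g`-th power is `p / g` for `g ∣ p`. -/
theorem isIndex_tpow_dvd {p : ℕ} (hp : CSAGal.IsPeriod k A p) (hi : CSAGal.IsIndex k A p) :
    ∀ g : ℕ, g ∣ p → CSAGal.IsIndex k (CSAGal.tpow k A g) (p / g) := by
  intro g
  induction g using Nat.strong_induction_on with
  | _ g ih =>
  intro hgp
  obtain ⟨_, _, _⟩ := centralSimple_pow k A g
  have hg0 : 0 < g := Nat.pos_of_ne_zero fun h => hp.1.ne' (Nat.eq_zero_of_zero_dvd (h ▸ hgp))
  rcases Nat.lt_or_ge 1 g with hg | hg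
  swap
  · obtain rfl : g = 1 := by omega
    rw [Nat.div_one]
    exact isIndex_congr hi (similar_pow_one k A)
  obtain ⟨d, hd⟩ := exists_isIndex k (⨂[k] _i : Fin g, A)
  suffices d = p / g by rwa [this] at hd
  have hlow : p / g ∣ d := by
    have h1 : p ∣ g * d := (isPeriod_iff hp _).1 ((similar_pow_mul g d).trans (similar_pow_index hd))
    exact (Nat.div_dvd_iff_dvd_mul hgp hg0).2 h1
  refine Nat.dvd_antisymm ?_ hlow
  obtain ⟨q, hq, hqg⟩ := Nat.exists_prime_and_dvd (show g ≠ 1 by omega)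
  obtain ⟨c, rfl⟩ : ∃ c, g = c * q := ⟨g / q, (Nat.div_mul_cancel hqg).symm⟩
  have hc0 : 0 < c := Nat.pos_of_mul_pos_right hg0
  have hcp : c ∣ p := (Dvd.intro q rfl).trans hgp
  have hcI := ih c (lt_mul_of_one_lt_right hc0 hq.one_lt) hcp
  obtain ⟨_, _, _⟩ := centralSimple_pow k A c
  obtain ⟨_, _, _⟩ := centralSimple_pow k (⨂[k] _i : Fin c, A) q
  obtain ⟨P, rfl⟩ := hgp
  have hPpos : 0 < P := Nat.pos_of_mul_pos_left hp.1
  have hPc : c * q * P / c = q * P := by rw [mul_assoc, Nat.mul_div_cancel_left _ hc0]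
  rw [hPc] at hcI
  rw [Nat.mul_div_cancel_left _ hg0]
  have hd' : CSAGal.IsIndex k (⨂[k] _i : Fin q, (⨂[k] _i : Fin c, A)) d :=
    isIndex_congr hd (similar_pow_mul c q).symm
  have hchoose := index_pow_dvd_choose hcI (Nat.le_mul_of_pos_right q hPpos) hd'
  have hdvd := index_mul_dvd hcI hd
  have hid : Nat.choose (q * P) q = P * Nat.choose (q * P - 1) (q - 1) := by
    refine Nat.eq_of_mul_eq_mul_left hq.pos ?_
    obtain ⟨a, ha⟩ : ∃ a, q * P = a + 1 := ⟨q * P - 1, by have := Nat.mul_pos hq.pos hPpos; omega⟩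
    obtain ⟨b, hb⟩ : ∃ b, q = b + 1 := ⟨q - 1, by have := hq.pos; omega⟩
    have := Nat.add_one_mul_choose_eq a b
    rw [← mul_assoc, ha, hb, Nat.add_sub_cancel, Nat.add_sub_cancel, mul_comm (b + 1), this]
  rw [hid] at hchoose
  have hcop := coprime_choose_pred hq (Nat.mul_pos hPpos hq.pos) (Dvd.intro_left P rfl)
  have h2 := Nat.dvd_gcd hdvd hchoose
  rwa [mul_comm q P, Nat.gcd_mul_left, Nat.Coprime.gcd_eq_one hcop, mul_one] at h2

omit [Infinite k] in
/-- For period equal to index `p`, the index of the `l`-th power is `p / gcd(p, l)`. -/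
theorem index_tpow_eq {p l r : ℕ} (hp : CSAGal.IsPeriod k A p) (hi : CSAGal.IsIndex k A p)
    (hr : CSAGal.IsIndex k (CSAGal.tpow k A l) r) : r = p / Nat.gcd p l := by
  obtain ⟨_, _, _⟩ := centralSimple_pow k A l
  rcases finite_or_infinite k with hf | hf
  · obtain rfl : p = 1 := finite_of_isIndex hi
    rw [Nat.gcd_one_left, Nat.div_one]
    exact index_eq_of_similar hr (by rw [Module.finrank_self, one_pow]) ((isPeriod_iff hp l).2 (one_dvd l))
  have hg := isIndex_tpow_dvd hp hi (Nat.gcd p l) (Nat.gcd_dvd_left p l)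
  obtain ⟨u, hu⟩ := Nat.gcd_dvd_right p l
  refine Nat.dvd_antisymm ?_ ?_
  · refine index_mul_dvd (b := u) hg ?_
    rwa [← hu]
  · have h1 : p ∣ l * r := (isPeriod_iff hp _).1 ((similar_pow_mul l r).trans (similar_pow_index hr))
    refine (Nat.div_dvd_iff_dvd_mul (Nat.gcd_dvd_left p l) (Nat.gcd_pos_of_pos_left l hp.1)).2 ?_
    have h2 := Nat.dvd_gcd (dvd_mul_right p r) h1
    rwa [Nat.gcd_mul_right] at h2

end Groth.Agent.SBBundle
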