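import Groth.Agent.SBBundle.Types
import Groth.Agent.SBBundle.PicPn
import Groth.Agent.SBBundle.IndexPow

/-!
# Absolutely split modules on Severi-Brauer schemes
-/

set_option autoImplicit false
set_option backward.isDefEq.respectTransparency false
set_option backward.isDefEq.respectTransparency.types false
set_option linter.style.haveILetI false
set_option linter.unusedSectionVars false

universe u

open CategoryTheory CategoryTheory.Limits AlgebraicGeometry

noncomputable section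

namespace Groth.Agent.SBBundle

section Invertible

variable {k : Type u} [Field k] {X : Scheme.{u}} {p : X ⟶ Spec (CommRingCat.of k)} {K : Type u} [Field K]
  [Algebra k K] {n : ℕ} (e : BrSev.Splitting p K n)

/-- Over the splitting field the invertible modules are the twisting sheaves. -/
theorem exists_twist_iso {L : (BrSev.bc p K).Modules} (hL : PicF.IsInvertible L) :
    ∃ j : ℤ, Nonempty (L ≅ e.twist j) := by
  obtain ⟨j, ⟨i⟩⟩ := PicPn.exists_iso_twist _ (PicLoc.isInvertible_pullback e.iso.inv hL)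
  refine ⟨j, ⟨?_ ≪≫ (Scheme.Modules.pullback e.iso.hom).mapIso i⟩⟩
  exact (((Scheme.Modules.pullbackComp e.iso.hom e.iso.inv).app L) ≪≫
    (Scheme.Modules.pullbackCongr e.iso.hom_inv_id).app L ≪≫ (Scheme.Modules.pullbackId _).app L).symm

/-- An absolutely split module has a decomposition by twisting sheaves. -/
theorem exists_dec_twist {E : X.Modules} {s : ℕ} {Ls : Fin s → (BrSev.bc p K).Modules}
    (hLs : ∀ i, PicF.IsInvertible (Ls i)) (h : Nonempty (BrSev.bcMod p K E ≅ ∐ Ls)) :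
    ∃ js : Fin s → ℤ, Nonempty (ASBunK.Dec (BrSev.bcMod p K E) (fun i => e.twist (js i))) := by
  choose js hjs using fun i => exists_twist_iso e (hLs i)
  exact ⟨js, ⟨(ASBunK.decOfIso h.some).mapIso fun i => (hjs i).some⟩⟩

end Invertible

variable {k : Type u} [Field k] {X : Scheme.{u}} [X.Over (Spec (CommRingCat.of k))]
  [IsProper (X ↘ Spec (CommRingCat.of k))] {K : Type u} [Field K] [Algebra k K] [IsAlgClosed K] {m : ℕ}
  (e : BrSev.Splitting (X ↘ Spec (CommRingCat.of k)) K m)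

attribute [local instance] bcOver

/-- A summand of an absolutely split module is absolutely split. -/
theorem exists_dec_twist_of_dec {E : X.Modules} (hE : Coh.IsCoh E) {n t : ℕ} {js : Fin n → ℤ}
    (d : ASBunK.Dec (BrSev.bcMod (X ↘ Spec (CommRingCat.of k)) K E) (fun i => e.twist (js i)))
    {Es : Fin t → X.Modules} (dE : ASBunK.Dec E Es) (i : Fin t) :
    ∃ (c : ℕ) (ls : Fin c → ℤ),
      Nonempty (ASBunK.Dec (BrSev.bcMod (X ↘ Spec (CommRingCat.of k)) K (Es i)) (fun a => e.twist (ls a))) := by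
  haveI := ASBunK.isLocallyNoetherian_of_proper k (X ↘ Spec (CommRingCat.of k))
  haveI := ASBunK.isProper_baseChangeTo k (X ↘ Spec (CommRingCat.of k)) K
  have hdec : ∀ l, ∃ (c : ℕ) (Ps : Fin c → (BrSev.bc (X ↘ Spec (CommRingCat.of k)) K).Modules),
      (∀ a, ASBunK.Indec (Ps a)) ∧
      Nonempty (ASBunK.Dec (BrSev.bcMod (X ↘ Spec (CommRingCat.of k)) K (Es l)) Ps) := fun l =>
    ASBunK.exists_dec_of_isCoh K (BrSev.bcTo (X ↘ Spec (CommRingCat.of k)) K)
      (ASBunK.isCoh_bcMod k _ K (ASBunK.isCoh_of_isRetr (dE.isRetr l) hE))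
  choose c Ps hPs hd using hdec
  let db := (dE.map (Scheme.Modules.pullback (BrSev.proj (X ↘ Spec (CommRingCat.of k)) K))).bind
    fun l => (hd l).some
  obtain ⟨σ, hσ⟩ := ASBunK.exists_equiv_of_dec_isCoh K (BrSev.bcTo (X ↘ Spec (CommRingCat.of k)) K)
    (ASBunK.isCoh_bcMod k _ K hE) db d (fun x => hPs x.1 x.2) (fun a => indec_twist e (js a))
  exact ⟨c i, fun a => js (σ ⟨i, a⟩), ⟨(hd i).some.mapIso fun a => (hσ ⟨i, a⟩).some⟩⟩

variable {A : Type u} [Ring A] [Algebra k A] [Algebra.IsCentral k A] [IsSimpleRing A]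
  (s : BrSev.SBStr k A ((m + 1) * (m + 1) - (m + 1)) (X ↘ Spec (CommRingCat.of k)))
  (hA : Module.finrank k A = (m + 1) * (m + 1))

include s hA in
/-- An indecomposable absolutely split module has a single twisting type. -/
theorem isTwPow_of_indec_absSplit {E : X.Modules} (hE : Coh.IsCoh E) (hi : ASBunK.Indec E) {n : ℕ}
    {js : Fin n → ℤ}
    (d : ASBunK.Dec (BrSev.bcMod (X ↘ Spec (CommRingCat.of k)) K E) (fun i => e.twist (js i))) :
    ∃ (j : ℤ) (r : ℕ), 0 < r ∧ BrSev.IsTwPow e j r E := by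
  haveI := ASBunK.isLocallyNoetherian_of_proper k (X ↘ Spec (CommRingCat.of k))
  choose W r hr hWf hWi hWt _hidx using fun i : Fin n => exists_indec e s hA (js i)
  have hn : 0 < n := Nat.pos_of_ne_zero fun h => hi.1
    (ASBunK.isZero_of_bcMod k (X ↘ Spec (CommRingCat.of k)) K hE (by subst h; exact d.isZero))
  let N := ∏ i, r i
  let a : Fin n → ℕ := fun i => N / r i
  have hd : ∀ i, r i ∣ N := fun i => Finset.dvd_prod_of_mem r (Finset.mem_univ i)
  have hN : 0 < N := Finset.prod_pos fun i _ => hr i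
  let EN : X.Modules := ∐ fun _ : Fin N => E
  let M : X.Modules := ∐ fun x : (Σ i, Fin (a i)) => W x.1
  let dEN : ASBunK.Dec EN (fun _ : Fin N => E) := ASBunK.Dec.coprod
  let dM : ASBunK.Dec M (fun x : (Σ i, Fin (a i)) => W x.1) := ASBunK.Dec.coprod
  have hEN : Coh.IsCoh EN := ASBunK.isCoh_of_dec dEN fun _ => hE
  have hM : Coh.IsCoh M := ASBunK.isCoh_of_dec dM fun x => CurveDeg.isCoh_of_isFinLocFree (hWf x.1)
  let d1 := (dEN.map (Scheme.Modules.pullback (BrSev.proj (X ↘ Spec (CommRingCat.of k)) K))).bind fun _ => d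
  let d2 := (dM.map (Scheme.Modules.pullback (BrSev.proj (X ↘ Spec (CommRingCat.of k)) K))).bind
    fun x => ASBunK.decOfIso (hWt x.1).some
  let σ : (Σ x : (Σ i, Fin (a i)), Fin (r x.1)) ≃ (Σ _ : Fin N, Fin n) :=
    ((((Equiv.sigmaAssoc fun i (_ : Fin (a i)) => Fin (r i)).trans
      (Equiv.sigmaCongrRight fun i => (Equiv.sigmaEquivProd (Fin (a i)) (Fin (r i))).trans
        (finProdFinEquiv.trans (finCongr (Nat.div_mul_cancel (hd i)))))).trans
      (Equiv.sigmaEquivProd (Fin n) (Fin N))).trans (Equiv.prodComm _ _)).trans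
      (Equiv.sigmaEquivProd (Fin N) (Fin n)).symm
  obtain ⟨φ⟩ := ASBunK.nonempty_iso_of_dec (d1.reindex σ) d2
  obtain ⟨ψ⟩ := ASBunK.nonempty_iso_of_bcMod_iso k (X ↘ Spec (CommRingCat.of k)) K hEN hM φ
  let i₀ : Fin n := ⟨0, hn⟩
  obtain ⟨i⟩ := ASBunK.iso_of_dec_const k (X ↘ Spec (CommRingCat.of k)) hM dM (dEN.ofIso ψ)
    (fun x => hWi x.1) hi ⟨i₀, ⟨0, Nat.div_pos (Nat.le_of_dvd hN (hd i₀)) (hr i₀)⟩⟩
  exact ⟨js i₀, r i₀, hr i₀, isTwPow_congr e (hWt i₀) i⟩

include s hA in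
/-- Absolutely split modules decompose into indecomposable modules of twisting types. -/
theorem exists_dec_types {E : X.Modules} (hE : FlatMod.IsFinLocFree E) {n : ℕ} {js : Fin n → ℤ}
    (d : ASBunK.Dec (BrSev.bcMod (X ↘ Spec (CommRingCat.of k)) K E) (fun i => e.twist (js i))) :
    ∃ (t : ℕ) (Ms : Fin t → X.Modules) (ls : Fin t → ℤ) (rs : Fin t → ℕ),
      (∀ i, FlatMod.IsFinLocFree (Ms i) ∧ ASBunK.Indec (Ms i) ∧ 0 < rs i ∧
        BrSev.IsTwPow e (ls i) (rs i) (Ms i)) ∧ Nonempty (ASBunK.Dec E Ms) := by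
  haveI := ASBunK.isLocallyNoetherian_of_proper k (X ↘ Spec (CommRingCat.of k))
  have hEc := CurveDeg.isCoh_of_isFinLocFree hE
  obtain ⟨t, Es, hEs, ⟨dE⟩⟩ := ASBunK.exists_dec_of_isCoh k (X ↘ Spec (CommRingCat.of k)) hEc
  have h : ∀ i, ∃ (j : ℤ) (r : ℕ), 0 < r ∧ BrSev.IsTwPow e j r (Es i) := fun i => by
    obtain ⟨c, ms, ⟨di⟩⟩ := exists_dec_twist_of_dec e hEc d dE i
    exact isTwPow_of_indec_absSplit e s hA (ASBunK.isCoh_of_isRetr (dE.isRetr i) hEc) (hEs i) di
  choose ls rs hrs hls using h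
  exact ⟨t, Es, ls, rs,
    fun i => ⟨ASBunK.isFinLocFree_of_isRetr (dE.isRetr i) hE, hEs i, hrs i, hls i⟩, ⟨dE⟩⟩

omit [IsProper (X ↘ Spec (CommRingCat.of k))] in
/-- An algebra of index two has period two. -/
theorem isPeriod_two {B : Type u} [Ring B] [Algebra k B] [Algebra.IsCentral k B] [IsSimpleRing B]
    [FiniteDimensional k B] (h : CSAGal.IsIndex k B 2) : CSAGal.IsPeriod k B 2 := by
  refine ⟨two_pos, (CSALib.splits_pow_iff _).2 (CSALib.similar_pow_index h), fun l hl0 hl hs => ?_⟩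
  obtain rfl : l = 1 := by omega
  have h1 : (2 : ℕ) = 1 := CSALib.index_eq_of_similar h (by rw [Module.finrank_self, one_pow])
    ((CSALib.similar_pow_one k B).symm.trans ((CSALib.splits_pow_iff 1).1 hs))
  omega

end Groth.Agent.SBBundle
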