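import Groth.Agent.CSALib.Index
import Groth.Agent.CSALib.PiTensor

/-!
# Periods in prime degree, indices of powers of algebras generating the same subgroup
-/

set_option autoImplicit false

universe u v

open scoped TensorProduct

namespace Groth.Agent.SBBundle

open Groth.Agent.CSALib

variable {k : Type u} [Field k] {A : Type v} [Ring A] [Algebra k A] [Algebra.IsCentral k A] [IsSimpleRing A]
  [FiniteDimensional k A]

/-- A non-split algebra of prime degree has period and index equal to the degree. -/
theorem period_index_prime {n : ℕ} (hn : n.Prime) (hA : Module.finrank k A = n * n)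
    (hns : ¬ Curves.Splits k A k) : CSAGal.IsPeriod k A n ∧ CSAGal.IsIndex k A n := by
  have hns' : ¬ Similar k A k := fun h => hns (splits_self_iff.2 h)
  obtain ⟨d, hd⟩ := exists_isIndex k A
  obtain ⟨-, c, D, hD, hDa, -, hdim, ⟨i⟩⟩ := id hd
  have h := i.toLinearEquiv.finrank_eq
  rw [hA, Module.finrank_matrix, hdim, Fintype.card_fin] at h
  have hdn : d * c = n := Nat.mul_self_inj.1 (by rw [h]; ring)
  obtain rfl : d = n := (hn.eq_one_or_self_of_dvd d (Dvd.intro c hdn)).resolve_left fun h1 =>
    hns' (similar_of_index_one (h1 ▸ hd))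
  refine ⟨⟨hn.pos, (splits_pow_iff _).2 (similar_pow_index hd), fun e he0 he hs => hns' ?_⟩, hd⟩
  have hg := pow_gcd_split hn.pos (similar_pow_index hd) ((splits_pow_iff e).1 hs)
  have : Nat.gcd d e = 1 := (hn.coprime_iff_not_dvd.2 fun hdvd => absurd (Nat.le_of_dvd he0 hdvd) (by omega))
  rw [this] at hg
  exact (similar_pow_one k A).symm.trans hg

/-- The index of a power of a power. -/
theorem index_dvd_of_similar {B : Type v} [Ring B] [Algebra k B] [Algebra.IsCentral k B] [IsSimpleRing B]
    [FiniteDimensional k B] {i l d d' : ℕ} (h : Similar k (CSAGal.tpow k A i) B)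
    (hA : CSAGal.IsIndex k (CSAGal.tpow k A l) d) (hB : CSAGal.IsIndex k (CSAGal.tpow k B l) d') : d' ∣ d := by
  obtain ⟨_, _, _⟩ := centralSimple_pow k A l
  obtain ⟨_, _, _⟩ := centralSimple_pow k A i
  obtain ⟨_, _, _⟩ := centralSimple_pow k A (l * i)
  obtain ⟨_, _, _⟩ := centralSimple_pow k B l
  obtain ⟨_, _, _⟩ := centralSimple_pow k (⨂[k] _i : Fin l, A) i
  have h1 : Similar k (⨂[k] _i : Fin (l * i), A) (⨂[k] _i : Fin l, B) := by
    rw [mul_comm l i]
    exact (similar_pow_mul i l).trans (h.pow l)
  exact index_pow_dvd hA i (isIndex_congr (isIndex_congr hB h1) (similar_pow_mul l i).symm)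

end Groth.Agent.SBBundle
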