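import Groth.Agent.SBBundle.AbsSplit
import Groth.Agent.QCoh.FlatBC
import Groth.Agent.QCoh.OpenSub
import Groth.Agent.PD70.HorrocksBundle
import Groth.Agent.DixBrauer.SBPeriod

/-!
# Absolute splitting and intermediate cohomology
-/

set_option autoImplicit false
set_option backward.isDefEq.respectTransparency false
set_option backward.isDefEq.respectTransparency.types false
set_option linter.style.haveILetI false
set_option linter.unusedSectionVars false

universe u

open CategoryTheory CategoryTheory.Limits AlgebraicGeometry TopologicalSpace Opposite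
open scoped TensorProduct

noncomputable section

namespace Groth.Agent.SBBundle.Cohom

/-- Cohomology of a decomposed module vanishes with that of every summand. -/
theorem subsingleton_HH_dec_iff {Y : Scheme.{u}} (K : Type u) [Field K] [Y.Over (Spec (CommRingCat.of K))]
    {M T : Y.Modules} {r : ℕ} (hr : 0 < r) (d : ASBunK.Dec M (fun _ : Fin r => T)) (i : ℕ) :
    Subsingleton (Coh.HH Y M i) ↔ Subsingleton (Coh.HH Y T i) := by
  constructor
  · intro h
    refine subsingleton_of_forall_eq 0 fun x => ?_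
    have hx : Canon.HHlin K (d.π ⟨0, hr⟩) i (Canon.HHlin K (d.ι ⟨0, hr⟩) i x) = x := by
      rw [PnDual.HHlin_comp, d.ι_π, PnDual.HHlin_id]
    rw [← hx, h.elim (Canon.HHlin K (d.ι ⟨0, hr⟩) i x) 0, map_zero]
  · intro h
    obtain ⟨φ⟩ := ASBunK.nonempty_iso_of_dec d (ASBunK.Dec.coprod (Fs := fun _ : Fin r => T))
    exact QCoh.subsingleton_HH_of_iso φ.symm i (RegEpi.subsingleton_HH_sigma _ i fun _ => h)

variable {k : Type u} [Field k] {X : Scheme.{u}} [X.Over (Spec (CommRingCat.of k))]
  [IsProper (X ↘ Spec (CommRingCat.of k))] {K : Type u} [Field K] [Algebra k K] [IsAlgClosed K]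
  {m : ℕ} (e : BrSev.Splitting (X ↘ Spec (CommRingCat.of k)) K m)

include e in
/-- Cohomology vanishes iff it does over the splitting field. -/
theorem subsingleton_HH_iff {M : X.Modules} (hM : Coh.IsQCoh M) (i : ℕ) :
    Subsingleton (Coh.HH X M i) ↔
      Subsingleton (Coh.HH (CohB1.ProjSpace m K) ((Scheme.Modules.pullback (gP e)).obj M) i) := by
  haveI : CompactSpace X := QuasiCompact.compactSpace_of_compactSpace (X ↘ Spec (CommRingCat.of k))
  haveI : QuasiSeparatedSpace X := quasiSeparatedSpace_of_quasiSeparated (X ↘ Spec (CommRingCat.of k))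
  letI := QCoh.modHH (Coh.toGlobal (A := k) (X ↘ Spec (CommRingCat.of k))) M i
  letI := QCoh.modHH (Coh.toGlobal (A := K) (CohB1.ProjSpace.toSpec m K))
    ((Scheme.Modules.pullback (gP e)).obj M) i
  obtain ⟨E⟩ := QCoh.HH_flatBaseChange (h := DixBrauer.isPullback_gP e) hM i
  refine Iff.trans ?_ E.toEquiv.subsingleton_congr
  exact (Module.FaithfullyFlat.subsingleton_tensorProduct_iff_right k K).symm

variable {E : X.Modules}

/-- The pullback of a twist of `E` by modules of given types. -/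
theorem subsingleton_tensor_iff {L W : X.Modules} {l₁ l₂ : ℤ} {r : ℕ} (hr : 0 < r)
    (hE : FlatMod.IsFinLocFree E) (hL : PicF.IsInvertible L) (hW : FlatMod.IsFinLocFree W)
    (hLt : BrSev.IsTwPow e l₁ 1 L) (hWt : BrSev.IsTwPow e l₂ r W) (i : ℕ) :
    Subsingleton (Coh.HH X (CohB1.tensorMod (CohB1.tensorMod E L) W) i) ↔
      Subsingleton (Coh.HH (CohB1.ProjSpace m K) (CohB1.tensorMod ((Scheme.Modules.pullback (gP e)).obj E)
        (Twist.twistProjSpace m K (l₁ + l₂))) i) := by
  haveI := ASBunK.isLocallyNoetherian_of_proper k (X ↘ Spec (CommRingCat.of k))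
  have hq : Coh.IsQCoh (CohB1.tensorMod (CohB1.tensorMod E L) W) :=
    (CurveDeg.isCoh_of_isFinLocFree (isFinLocFree_tensorMod (isFinLocFree_tensorMod hE
      (isFinLocFree_of_isInvertible hL)) hW)).1
  rw [subsingleton_HH_iff e hq]
  obtain ⟨ass⟩ := H23.PicMul.assoc E L W
  have ht : BrSev.IsTwPow e (l₁ + l₂) (1 * r) (CohB1.tensorMod L W) := isTwPow_tensor e hLt hWt
  let T := (DCoh.tensorBi (X := CohB1.ProjSpace m K)).obj ((Scheme.Modules.pullback (gP e)).obj E)
  let tw := Twist.twistProjSpace m K (l₁ + l₂)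
  let back : (Scheme.Modules.pullback e.iso.inv).obj (e.twist (l₁ + l₂)) ≅ tw :=
    (Scheme.Modules.pullbackComp e.iso.inv e.iso.hom).app _ ≪≫
      (Scheme.Modules.pullbackCongr e.iso.inv_hom_id).app _ ≪≫ (Scheme.Modules.pullbackId _).app _
  let dLW : ASBunK.Dec ((Scheme.Modules.pullback (gP e)).obj (CohB1.tensorMod L W)) (fun _ : Fin (1 * r) => tw) :=
    (((ASBunK.decOfIso ht.some).map (Scheme.Modules.pullback e.iso.inv)).mapIso fun _ => back).ofIso
      ((Scheme.Modules.pullbackComp e.iso.inv (BrSev.proj (X ↘ Spec (CommRingCat.of k)) K)).app _)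
  let d := (dLW.map T).ofIso ((pullTensorIso (gP e) E (CohB1.tensorMod L W)).symm ≪≫
    ((Scheme.Modules.pullback (gP e)).mapIso ass).symm)
  exact subsingleton_HH_dec_iff K (by rw [one_mul]; exact hr) d i

include e in
theorem isFinLocFree_pullback_gP (hE : FlatMod.IsFinLocFree E) :
    FlatMod.IsFinLocFree ((Scheme.Modules.pullback (gP e)).obj E) :=
  KFlatLib.isFinLocFree_pullback (gP e) hE

/-- The criterion on projective space, with no restriction on the dimension or the field. -/
theorem split_iff_projSpace {G : (CohB1.ProjSpace m K).Modules} (hG : FlatMod.IsFinLocFree G) :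
    (∃ (r : ℕ) (a : Fin r → ℤ), Nonempty (G ≅ ∐ fun j => Twist.twistProjSpace m K (a j))) ↔
      ∀ (i : ℕ) (d : ℤ), 0 < i → i < m →
        Subsingleton (Coh.HH (CohB1.ProjSpace m K) (CohB1.tensorMod G (Twist.twistProjSpace m K d)) i) := by
  haveI hP : IsNoetherian (Proj (CohB1.polyGrading m K)) := Proj16.isNoetherian_proj _
  haveI : IsLocallyNoetherian (CohB1.ProjSpace m K) := hP.toIsLocallyNoetherian
  rcases Nat.eq_zero_or_pos m with rfl | hm
  · refine iff_of_true ?_ fun i d hi hi' => absurd hi' (Nat.not_lt_zero i)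
    haveI := H23.PnChart.isIntegral_projSpace 0 K
    obtain ⟨r, hr⟩ := KRRLib.exists_rank hG
    exact ⟨r, _, PD70.nonempty_iso_of_dim_zero hr⟩
  · have hc := CurveDeg.isCoh_of_isFinLocFree hG
    refine ⟨fun h i d hi him => ?_, fun h => (PD70.split0_iff hm G hc).1 (PD70.split0_of_bundle hm hG h)⟩
    exact ((PD70.split0_iff hm G hc).2 h).mid d i hi him

include e in
/-- Absolute splitting is splitting on projective space. -/
theorem absSplit_iff :
    (∃ (s : ℕ) (Ls : Fin s → (BrSev.bc (X ↘ Spec (CommRingCat.of k)) K).Modules), (∀ i, PicF.IsInvertible (Ls i)) ∧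
        Nonempty (BrSev.bcMod (X ↘ Spec (CommRingCat.of k)) K E ≅ ∐ Ls)) ↔
      ∃ (r : ℕ) (a : Fin r → ℤ), Nonempty ((Scheme.Modules.pullback (gP e)).obj E ≅
        ∐ fun j => Twist.twistProjSpace m K (a j)) := by
  constructor
  · rintro ⟨s, Ls, hLs, ⟨φ⟩⟩
    obtain ⟨js, ⟨d⟩⟩ := exists_dec_twist e hLs ⟨φ⟩
    let d' := ((d.map (Scheme.Modules.pullback e.iso.inv)).mapIso fun i =>
      (Scheme.Modules.pullbackComp e.iso.inv e.iso.hom).app _ ≪≫
        (Scheme.Modules.pullbackCongr e.iso.inv_hom_id).app _ ≪≫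
        (Scheme.Modules.pullbackId _).app (Twist.twistProjSpace m K (js i))).ofIso
      ((Scheme.Modules.pullbackComp e.iso.inv (BrSev.proj (X ↘ Spec (CommRingCat.of k)) K)).app E)
    exact ⟨s, js, ASBunK.nonempty_iso_of_dec d' ASBunK.Dec.coprod⟩
  · rintro ⟨r, a, ⟨φ⟩⟩
    refine ⟨r, fun i => e.twist (a i), fun i => isInvertible_twist e (a i), ⟨?_⟩⟩
    exact ((Scheme.Modules.pullbackId _).app _).symm ≪≫
      ((Scheme.Modules.pullbackCongr e.iso.hom_inv_id).app _).symm ≪≫
      ((Scheme.Modules.pullbackComp e.iso.hom e.iso.inv).app _).symm ≪≫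
      (Scheme.Modules.pullback e.iso.hom).mapIso
        ((Scheme.Modules.pullbackComp e.iso.inv (BrSev.proj (X ↘ Spec (CommRingCat.of k)) K)).app E ≪≫ φ) ≪≫
      PreservesCoproduct.iso (Scheme.Modules.pullback e.iso.hom) _

end Groth.Agent.SBBundle.Cohom
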