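import Groth.Agent.SBBundle.P1Chart
import Groth.Agent.S10849
import Groth.Agent.H23.Frame
import Groth.Agent.QCoh.LocFree
import Groth.Agent.LocDual54.LocFreeKill
import Groth.Agent.ZClosLib.Basic
import Groth.Agent.ASBunK.KSThm
import Mathlib.LinearAlgebra.FreeModule.PID

/-!
# Vector bundles on the projective line over a field split
-/

set_option autoImplicit false
set_option backward.isDefEq.respectTransparency false
set_option backward.isDefEq.respectTransparency.types false
set_option linter.style.haveILetI false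
set_option linter.unusedSectionVars false

universe u

open CategoryTheory CategoryTheory.Limits AlgebraicGeometry TopologicalSpace Opposite
open LaurentPolynomial (T)
open Polynomial (toLaurent)

noncomputable section

namespace Groth.Agent.SBBundle.P1Split

open Groth.Agent.AModX Groth.Agent.InvX

section General

variable {X : Scheme.{u}} {M N : X.Modules}

/-- Restriction of a linear combination. -/
theorem res_sum_smul {U V : X.Opens} (h : V ≤ U) {n : ℕ} (c : Fin n → Γ(X, U)) (x : Fin n → Γ(M, U)) :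
    res M h (∑ l, c l • x l) = ∑ l, resR h (c l) • res M h (x l) := by
  refine (map_sum (M.presheaf.map (homOfLE h).op).hom _ _).trans (Finset.sum_congr rfl fun l _ => ?_)
  exact res_smul (M := M) h (c l) (x l)

/-- The value of a morphism on a linear combination. -/
theorem app_sum_smul (φ : M ⟶ N) {V : X.Opens} {n : ℕ} (c : Fin n → Γ(X, V)) (x : Fin n → Γ(M, V)) :
    φ.app V (∑ l, c l • x l) = ∑ l, c l • φ.app V (x l) := by
  refine (map_sum (φ.app V).hom _ _).trans (Finset.sum_congr rfl fun l _ => ?_)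
  exact Scheme.Modules.Hom.app_smul φ (c l) (x l)

/-- A change of a frame by an invertible matrix. -/
theorem isFrame_mul {U : X.Opens} {n : ℕ} {s : Fin n → Γ(M, U)} (hs : H23.Frame.IsFrame M s)
    {P P' : Matrix (Fin n) (Fin n) Γ(X, U)} (h : P * P' = 1) (h' : P' * P = 1) :
    H23.Frame.IsFrame M (fun i => ∑ l, P i l • s l) := by
  intro W hW
  have e : H23.Frame.comb M (fun i => ∑ l, P i l • s l) W hW =
      H23.Frame.comb M s W hW ∘ fun c => Matrix.vecMul c (P.map (resR hW)) := funext fun c => by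
    show ∑ i, c i • res M hW (∑ l, P i l • s l) = ∑ l, Matrix.vecMul c (P.map (resR hW)) l • res M hW (s l)
    simp only [res_sum_smul, Finset.smul_sum, ← mul_smul]
    rw [Finset.sum_comm]
    exact Finset.sum_congr rfl fun l _ => by rw [← Finset.sum_smul]; rfl
  rw [e]
  refine (hs W hW).comp (Function.bijective_iff_has_inverse.2
    ⟨fun c => Matrix.vecMul c (P'.map (resR hW)), fun c => ?_, fun c => ?_⟩)
  · show Matrix.vecMul (Matrix.vecMul c _) _ = c
    rw [Matrix.vecMul_vecMul, ← Matrix.map_mul, h, Matrix.map_one _ (map_zero _) (map_one _), Matrix.vecMul_one]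
  · show Matrix.vecMul (Matrix.vecMul c _) _ = c
    rw [Matrix.vecMul_vecMul, ← Matrix.map_mul, h', Matrix.map_one _ (map_zero _) (map_one _), Matrix.vecMul_one]

/-- A frame of a locally free module on an affine open with principal ideal ring of functions. -/
theorem exists_frame_pid (hM : FlatMod.IsFinLocFree M) {V : X.Opens} (hV : IsAffineOpen V)
    [IsDomain Γ(X, V)] [IsPrincipalIdealRing Γ(X, V)] :
    ∃ (n : ℕ) (s : Fin n → Γ(M, V)), H23.Frame.IsFrame M s := by
  haveI := QCoh.finitePresentation_of_isFP (QCoh.isFP_of_isFinLocFree hM) hV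
  haveI := LocDual54.projective_sections hM hV
  haveI : Module.IsTorsionFree Γ(X, V) Γ(M, V) := by
    obtain ⟨s, hs⟩ := (Module.projective_def (R := Γ(X, V)) (P := Γ(M, V))).1 inferInstance
    exact Function.Injective.moduleIsTorsionFree s hs.injective (fun r x => map_smul s r x)
  let ⟨n, b⟩ := Module.basisOfFiniteTypeTorsionFree' (R := Γ(X, V)) (M := Γ(M, V))
  obtain ⟨e⟩ := QCoh.exists_free_restrict (QCoh.isQCoh_of_isFinLocFree hM) hV
    ((b.reindex Equiv.ulift.{u}.symm).repr)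
  exact ⟨n, H23.Frame.exists_frame e⟩

/-- A morphism from a sum of invertible modules sending frames to frames is an isomorphism. -/
theorem isIso_desc_of_frames {ι : Type u} (U : ι → X.Opens) (hcov : ∀ x, ∃ a, x ∈ U a) {r : ℕ}
    (L : Fin r → X.Modules) (tw : ∀ l a, Γ(L l, U a)) (htw : ∀ l a, IsFrame (tw l a))
    (s : ∀ a, Fin r → Γ(M, U a)) (hs : ∀ a, H23.Frame.IsFrame M (s a)) (φ : ∀ l, L l ⟶ M)
    (hφ : ∀ l a, (φ l).app (U a) (tw l a) = s a l) : IsIso (Sigma.desc φ) := by
  classical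
  let D : ASBunK.Dec (∐ L) L := ASBunK.Dec.coprod
  refine ZClosLib.isIso_of_good _ (fun W => ∃ a, W ≤ U a) (fun V x hx => ?_) ?_
  · obtain ⟨a, ha⟩ := hcov x
    exact ⟨V ⊓ U a, inf_le_left, ⟨hx, ha⟩, a, inf_le_right⟩
  rintro W ⟨a, ha⟩
  let p : (Fin r → Γ(X, W)) → Γ(∐ L, W) :=
    fun c => ∑ l, c l • (D.ι l).app W (res (L l) ha (tw l a))
  have hp : (fun x => (Sigma.desc φ).app W x) ∘ p = H23.Frame.comb M (s a) W ha := funext fun c => by
    show (Sigma.desc φ).app W (∑ l, c l • (D.ι l).app W (res (L l) ha (tw l a))) = ∑ l, c l • res M ha (s a l)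
    rw [app_sum_smul]
    refine Finset.sum_congr rfl fun l _ => congrArg (c l • ·) ?_
    show (Sigma.ι L l ≫ Sigma.desc φ).app W (res (L l) ha (tw l a)) = _
    rw [Sigma.ι_desc, app_res, hφ]
  have hsurj : Function.Surjective p := fun x => by
    choose c hc using fun l => (htw l a).exists_coord ha ((D.π l).app W x)
    refine ⟨c, ?_⟩
    show ∑ l, c l • (D.ι l).app W (res (L l) ha (tw l a)) = x
    have hx : (∑ l, D.π l ≫ D.ι l).app W x = x := by rw [D.total]; rfl
    rw [H23.Frame.app_sum] at hx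
    refine Eq.trans (Finset.sum_congr rfl fun l _ => ?_) hx
    show _ = (D.ι l).app W ((D.π l).app W x)
    rw [hc l, Scheme.Modules.Hom.app_smul]
  have hb : Function.Bijective ((fun x => (Sigma.desc φ).app W x) ∘ p) := hp ▸ hs a W ha
  refine ⟨fun x y hxy => ?_, Function.Surjective.of_comp hb.2⟩
  obtain ⟨c, rfl⟩ := hsurj x
  obtain ⟨c', rfl⟩ := hsurj y
  rw [hb.1 hxy]

/-- Two frames with transition function define a morphism. -/
theorem exists_hom_of_two_frames {L : X.Modules} (U : Fin (1 + 1) → X.Opens) (hcov : ∀ p, ∃ i, p ∈ U i)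
    (e : ∀ i, Γ(L, U i)) (he : ∀ i, IsFrame (e i)) (x : ∀ i, Γ(M, U i)) (g₁ : Γ(X, U 0 ⊓ U 1))
    (ht : res L inf_le_left (e 0) = g₁ • res L inf_le_right (e 1))
    (hm : res M inf_le_left (x 0) = g₁ • res M inf_le_right (x 1)) :
    ∃ φ : L ⟶ M, ∀ i, φ.app (U i) (e i) = x i := by
  let U' : ULift.{u} (Fin (1 + 1)) → X.Opens := fun a => U a.down
  have hcov' : ∀ p, ∃ a, p ∈ U' a := fun p => let ⟨i, hi⟩ := hcov p; ⟨⟨i⟩, hi⟩
  have hres : ∀ (W : X.Opens) (h : W ≤ U 0) (h' : W ≤ U 1),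
      res M h (x 0) = resR (le_inf h h') g₁ • res M h' (x 1) ∧
      res L h (e 0) = resR (le_inf h h') g₁ • res L h' (e 1) := by
    intro W h h'
    have h1 := congrArg (res M (le_inf h h')) hm
    have h2 := congrArg (res L (le_inf h h')) ht
    rw [res_res, res_smul, res_res] at h1 h2
    exact ⟨h1, h2⟩
  have key : ∀ (a b : ULift.{u} (Fin (1 + 1))) (W : X.Opens) (ha : W ≤ U' a) (hb : W ≤ U' b) (g : Γ(X, W)),
      res L hb (e b.down) = g • res L ha (e a.down) → res M hb (x b.down) = g • res M ha (x a.down) := by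
    rintro ⟨a⟩ ⟨b⟩ W ha hb g hg
    have hab : a = b ∨ a = 0 ∧ b = 1 ∨ a = 1 ∧ b = 0 := by fin_cases a <;> fin_cases b <;> simp
    rcases hab with rfl | ⟨rfl, rfl⟩ | ⟨rfl, rfl⟩
    · obtain rfl : g = 1 := (he a).coord_unique ha (hg.symm.trans (one_smul _ _).symm)
      exact (one_smul _ _).symm
    · obtain ⟨h1, h2⟩ := hres W ha hb
      have h3 : g * resR (le_inf ha hb) g₁ = 1 := (he 1).coord_unique hb (by
        rw [mul_smul, ← h2, one_smul]
        exact hg.symm)
      rw [h1, ← mul_smul, h3, one_smul]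
    · obtain ⟨h1, h2⟩ := hres W hb ha
      obtain rfl := (he 1).coord_unique ha (hg.symm.trans h2)
      exact h1
  have he' : ∀ a : ULift.{u} (Fin (1 + 1)), IsFrame (X := X) (M := L) (U := U' a) (e a.down) := fun a => he a.down
  exact ⟨ofFrames (M := L) (N := M) (U := U') (e := fun a => e a.down) (n := fun a => x a.down) hcov' he' key,
    fun i => ofFrames_app (M := L) (N := M) (U := U') (e := fun a => e a.down) (n := fun a => x a.down) hcov' he' key ⟨i⟩⟩

/-- Changing two frames by matrices changes the transition matrix. -/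
theorem res_rel_of_matrix {U V W : X.Opens} (hU : W ≤ U) (hV : W ≤ V) {n n' : ℕ} (e : Fin n ≃ Fin n')
    (x : Fin n → Γ(M, U)) (y : Fin n' → Γ(M, V)) (G : Matrix (Fin n) (Fin n') Γ(X, W))
    (hG : ∀ a, res M hU (x a) = ∑ b, G a b • res M hV (y b)) (P : Matrix (Fin n) (Fin n) Γ(X, U))
    (Q : Matrix (Fin n) (Fin n) Γ(X, V)) (g : Fin n → Γ(X, W))
    (h : P.map (resR hU) * G.submatrix id e = Matrix.diagonal g * Q.map (resR hV)) (l : Fin n) :
    res M hU (∑ a, P l a • x a) = g l • res M hV (∑ a, Q l a • (y ∘ e) a) := by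
  have key : ∀ a, ∑ b, G a b • res M hV (y b) = ∑ b, G a (e b) • res M hV ((y ∘ e) b) :=
    fun a => (Equiv.sum_comp e _).symm
  simp only [res_sum_smul, hG, key, Finset.smul_sum, ← mul_smul]
  rw [Finset.sum_comm]
  refine Finset.sum_congr rfl fun b _ => ?_
  rw [← Finset.sum_smul]
  have := congrFun (congrFun h l) b
  rw [Matrix.diagonal_mul] at this
  exact congrArg (· • _) this

end General

open Groth.Agent.SBBundle.PicPn Groth.Agent.SBBundle.P1Chart

attribute [local instance] MvPolynomial.gradedAlgebra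

variable {K : Type u} [Field K]

local notation "𝒜" => MvPolynomial.homogeneousSubmodule (Fin (1 + 1)) K

/-- Frames on the two charts related by diagonal monomial matrices. -/
theorem exists_diag_frames (M : (Proj 𝒜).Modules) (hM : FlatMod.IsFinLocFree M) :
    ∃ (r : ℕ) (d : Fin r → ℤ) (s : ∀ i, Fin r → Γ(M, U (K := K) i)),
      (∀ i, H23.Frame.IsFrame M (s i)) ∧
      ∀ l, ∃ g : Γ(Proj 𝒜, U (K := K) 0 ⊓ U 1),
        ov g = T (d l) ∧ res M inf_le_left (s 0 l) = g • res M inf_le_right (s 1 l) := by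
  classical
  have hfr : ∀ i, ∃ (n : ℕ) (s : Fin n → Γ(M, U (K := K) i)), H23.Frame.IsFrame M s := fun i => by
    haveI := isDomain_sections (K := K) i
    haveI := isPrincipalIdealRing_sections (K := K) i
    exact exists_frame_pid hM (PnCoh.isAffineOpen_mOpen fun h => by simpa using DFunLike.congr_fun h i)
  choose n s hs using hfr
  let W := U (K := K) (0 : Fin (1 + 1)) ⊓ U 1
  have hex : ∀ (i j : Fin (1 + 1)) (hi : W ≤ U i) (hj : W ≤ U j), ∃ G : Matrix (Fin (n i)) (Fin (n j)) Γ(Proj 𝒜, W),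
      ∀ a, res M hi (s i a) = ∑ b, G a b • res M hj (s j b) := fun i j hi hj => by
    choose G hG using fun a => (hs j W hj).2 (res M hi (s i a))
    exact ⟨G, fun a => (hG a).symm⟩
  obtain ⟨G, hG⟩ := hex 0 1 inf_le_left inf_le_right
  obtain ⟨H, hH⟩ := hex 1 0 inf_le_right inf_le_left
  have inv : ∀ {i j : Fin (1 + 1)} (hi : W ≤ U i) (hj : W ≤ U j) (G : Matrix (Fin (n i)) (Fin (n j)) Γ(Proj 𝒜, W))
      (H : Matrix (Fin (n j)) (Fin (n i)) Γ(Proj 𝒜, W)),
      (∀ a, res M hi (s i a) = ∑ b, G a b • res M hj (s j b)) →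
      (∀ b, res M hj (s j b) = ∑ a, H b a • res M hi (s i a)) → G * H = 1 := by
    intro i j hi hj G H hG hH
    refine Matrix.ext fun a => congrFun ((hs i W hi).1 (a₁ := (G * H) a) (a₂ := (1 : Matrix _ _ _) a) ?_)
    show ∑ c, (G * H) a c • res M hi (s i c) = ∑ c, (1 : Matrix _ _ Γ(Proj 𝒜, W)) a c • res M hi (s i c)
    conv_rhs => rw [Finset.sum_eq_single a (fun c _ hc => by rw [Matrix.one_apply_ne (Ne.symm hc), zero_smul])
      (fun h => absurd (Finset.mem_univ a) h), Matrix.one_apply_eq, one_smul, hG a]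
    simp only [Matrix.mul_apply, Finset.sum_smul, hH, Finset.smul_sum, ← mul_smul]
    exact Finset.sum_comm
  have hGH := inv inf_le_left inf_le_right G H hG hH
  have hHG := inv inf_le_right inf_le_left H G hH hG
  have hA : G.map (ov (K := K)) * H.map (ov (K := K)) = 1 := by
    rw [← Matrix.map_mul, hGH, Matrix.map_one _ (map_zero _) (map_one _)]
  have hB : H.map (ov (K := K)) * G.map (ov (K := K)) = 1 := by
    rw [← Matrix.map_mul, hHG, Matrix.map_one _ (map_zero _) (map_one _)]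
  have hn : n 1 = n 0 := by
    have := Horrocks.card_eq_of_inverse _ _ hB hA
    simpa using this
  let e : Fin (n 0) ≃ Fin (n 1) := finCongr hn.symm
  let A : Matrix (Fin (n 0)) (Fin (n 0)) (LaurentPolynomial K) := (G.map (ov (K := K))).submatrix id e
  obtain ⟨P, Q, d, hP, hQ, -, hPQ⟩ := S10849.result K (n 0) A (IsUnit.of_mul_eq_one ((H.map (ov (K := K))).submatrix e id) (by
    show (G.map (ov (K := K))).submatrix id e * (H.map (ov (K := K))).submatrix e id = 1
    rw [Matrix.submatrix_mul_equiv, hA]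
    exact Matrix.submatrix_id_id 1))
  obtain ⟨uP, rfl⟩ := hP
  obtain ⟨uQ, rfl⟩ := hQ
  let E0 := polyEquiv (K := K) (0 : Fin (1 + 1))
  let E1 := polyEquiv (K := K) (1 : Fin (1 + 1))
  let P₀ : Matrix (Fin (n 0)) (Fin (n 0)) Γ(Proj 𝒜, U (0 : Fin (1 + 1))) := uP⁻¹.val.map E0
  let P₀' : Matrix (Fin (n 0)) (Fin (n 0)) Γ(Proj 𝒜, U (0 : Fin (1 + 1))) := uP.val.map E0
  let Q₁ : Matrix (Fin (n 0)) (Fin (n 0)) Γ(Proj 𝒜, U (1 : Fin (1 + 1))) := uQ.val.map E1
  let Q₁' : Matrix (Fin (n 0)) (Fin (n 0)) Γ(Proj 𝒜, U (1 : Fin (1 + 1))) := uQ⁻¹.val.map E1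
  let s₁ : Fin (n 0) → Γ(M, U (K := K) (1 : Fin (1 + 1))) := s 1 ∘ e
  have hs₁ : H23.Frame.IsFrame M s₁ := fun V hV => by
    have hc : H23.Frame.comb M s₁ V hV = H23.Frame.comb M (s 1) V hV ∘ fun c => c ∘ e.symm := funext fun c => by
      show ∑ i, c i • res M hV (s 1 (e i)) = ∑ b, c (e.symm b) • res M hV (s 1 b)
      rw [← Equiv.sum_comp e (fun b => c (e.symm b) • res M hV (s 1 b))]
      simp only [Equiv.symm_apply_apply]
    rw [hc]
    exact (hs 1 V hV).comp ((Equiv.arrowCongr e (Equiv.refl _)).bijective)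
  let t0 : Fin (n 0) → Γ(M, U (K := K) (0 : Fin (1 + 1))) := fun i => ∑ l, P₀ i l • s 0 l
  let t1 : Fin (n 0) → Γ(M, U (K := K) (1 : Fin (1 + 1))) := fun i => ∑ l, Q₁ i l • s₁ l
  have mapinv : ∀ {i : Fin (1 + 1)} (u : (Matrix (Fin (n 0)) (Fin (n 0)) (Polynomial K))ˣ),
      u.val.map (polyEquiv (K := K) i) * u⁻¹.val.map (polyEquiv (K := K) i) = 1 := fun {i} u => by
    rw [← Matrix.map_mul, u.mul_inv, Matrix.map_one _ (map_zero _) (map_one _)]
  have ht0 : H23.Frame.IsFrame M t0 := isFrame_mul (hs 0) (P := P₀) (P' := P₀')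
    (by simpa [P₀, P₀', E0] using mapinv (i := 0) uP⁻¹) (mapinv (i := 0) uP)
  have ht1 : H23.Frame.IsFrame M t1 := isFrame_mul hs₁ (P := Q₁) (P' := Q₁')
    (mapinv (i := 1) uQ) (by simpa [Q₁, Q₁', E1] using mapinv (i := 1) uQ⁻¹)
  choose gd hgd _hgd using fun l : Fin (n 0) => exists_twFrame_ov (K := K) (-d l)
  have hgd' : ∀ l, ov (gd l) = T (d l) := fun l => by rw [hgd l, neg_neg]
  have hP0 : (P₀.map (resR (inf_le_left : W ≤ U 0))).map (ov (K := K)) = uP⁻¹.val.map toLaurent :=
    Matrix.ext fun a b => ov_polyEquiv_zero _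
  have hQ1 : (Q₁.map (resR (inf_le_right : W ≤ U 1))).map (ov (K := K)) =
      (uQ.val.map toLaurent).map LaurentPolynomial.invert :=
    Matrix.ext fun a b => ov_polyEquiv_one _
  have hmat : P₀.map (resR (inf_le_left : W ≤ U 0)) * G.submatrix id e =
      Matrix.diagonal gd * Q₁.map (resR (inf_le_right : W ≤ U 1)) := by
    refine Matrix.map_injective (ov_injective (K := K)) ?_
    show Matrix.map (P₀.map (resR (inf_le_left : W ≤ U 0)) * G.submatrix id e) (ov (K := K)) =
      Matrix.map (Matrix.diagonal gd * Q₁.map (resR (inf_le_right : W ≤ U 1))) (ov (K := K))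
    rw [Matrix.map_mul, Matrix.map_mul, hP0, hQ1, Matrix.diagonal_map (map_zero _),
      show (G.submatrix id e).map (ov (K := K)) = A from rfl, hPQ, ← Matrix.mul_assoc, ← Matrix.mul_assoc,
      ← Matrix.map_mul, Units.inv_mul, Matrix.map_one _ (map_zero _) (map_one _), Matrix.one_mul]
    congr 2
    exact funext fun l => (hgd' l).symm
  refine ⟨n 0, d, Fin.cons t0 (Fin.cons t1 finZeroElim), fun i => ?_, fun l => ⟨gd l, hgd' l, ?_⟩⟩
  · fin_cases i
    · exact ht0
    · exact ht1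
  · exact res_rel_of_matrix _ _ e (s 0) (s 1) G hG P₀ Q₁ gd hmat l

/-- Sections with the transition function of a twisting sheaf define a morphism from it. -/
theorem exists_hom_twist (M : (Proj 𝒜).Modules) (c : ℤ) (x : ∀ i, Γ(M, U (K := K) i))
    (hx : ∃ g : Γ(Proj 𝒜, U (K := K) 0 ⊓ U 1), ov g = T (-c) ∧
      res M inf_le_left (x 0) = g • res M inf_le_right (x 1)) :
    ∃ φ : Twist.twist 𝒜 c ⟶ M, ∀ i, φ.app (U (K := K) i) (twFrame c i) = x i := by
  obtain ⟨g₀, hg₀, hm⟩ := hx
  obtain ⟨g₁, hg₁, ht⟩ := exists_twFrame_ov (K := K) c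
  obtain rfl : g₁ = g₀ := ov_injective (hg₁.trans hg₀.symm)
  exact exists_hom_of_two_frames (fun i : Fin (1 + 1) => U (K := K) i) hcovU (fun i => twFrame c i)
    (fun i => isFrame_twFrame c i) x g₁ ht hm

/-- Vector bundles on the projective line over a field are sums of twisting sheaves. -/
theorem exists_iso_coprod_twist (E : (CohB1.ProjSpace 1 K).Modules) (hE : FlatMod.IsFinLocFree E) :
    ∃ (r : ℕ) (d : Fin r → ℤ), Nonempty (E ≅ ∐ fun l : Fin r => Twist.twistProjSpace 1 K (d l)) := by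
  let M : (Proj 𝒜).Modules := E
  obtain ⟨r, d, s, hs, hsd⟩ := exists_diag_frames M hE
  choose φ hφ using fun l => exists_hom_twist M (-d l) (fun i => s i l)
    (let ⟨g, hg, hm⟩ := hsd l; ⟨g, by rw [hg, neg_neg], hm⟩)
  haveI := isIso_desc_of_frames (fun a : ULift.{u} (Fin (1 + 1)) => U (K := K) a.down)
    (fun p => let ⟨i, hi⟩ := hcovU p; ⟨⟨i⟩, hi⟩) (fun l => Twist.twist 𝒜 (-d l))
    (fun l a => twFrame (-d l) a.down) (fun l a => isFrame_twFrame (-d l) a.down)
    (fun a => s a.down) (fun a => hs a.down) φ (fun l a => hφ l a.down)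
  exact ⟨r, fun l => -d l, ⟨(asIso (Sigma.desc φ)).symm⟩⟩

end Groth.Agent.SBBundle.P1Split
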