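import Groth.Agent.SBBundle.P1Split
import Groth.Agent.SBBundle.Calculus
import Groth.Agent.PnCoh.Chow.Proper
import Groth.Agent.KRRLib.Rank

/-!
# Uniqueness of the splitting of a bundle on the projective line
-/

set_option autoImplicit false
set_option backward.isDefEq.respectTransparency false
set_option backward.isDefEq.respectTransparency.types false
set_option linter.style.haveILetI false
set_option linter.unusedSectionVars false

universe u

open CategoryTheory CategoryTheory.Limits AlgebraicGeometry TopologicalSpace Opposite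
open LaurentPolynomial (T)
open Polynomial (toLaurent)

noncomputable section

namespace Groth.Agent.SBBundle.P1Split

open Groth.Agent.AModX Groth.Agent.InvX

/-- An invertible module on an integral scheme is indecomposable. -/
theorem indec_of_isInvertible {X : Scheme.{u}} [IsIntegral X] {L : X.Modules} (hL : PicF.IsInvertible L) :
    ASBunK.Indec L := by
  obtain ⟨U, hx, e, he⟩ := InvX.exists_frame hL (Classical.arbitrary X)
  haveI : Nonempty U := ⟨⟨_, hx⟩⟩
  haveI : Nontrivial Γ(X, U) := inferInstance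
  have h0 : ¬ IsZero L := fun h => by
    refine zero_ne_one (α := Γ(X, U)) (he.coord_unique le_rfl ?_)
    rw [zero_smul, one_smul, res_self]
    exact (congrArg (fun φ : L ⟶ L => φ.app U e) ((IsZero.iff_id_eq_zero L).1 h)).symm
  refine ⟨h0, fun A B ⟨i⟩ => ?_⟩
  let φ : L ⟶ L := i.hom ≫ biprod.fst ≫ biprod.inl ≫ i.inv
  obtain ⟨s, hs⟩ := H23.EndInv.exists_coeff hL φ
  have hid : resR (le_top : U ≤ ⊤) s * resR (le_top : U ≤ ⊤) s = resR (le_top : U ≤ ⊤) s :=
    he.coord_unique le_rfl (by
      rw [res_self, mul_smul, ← hs, ← hs, show φ.app U (φ.app U e) = (φ ≫ φ).app U e from rfl,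
        show φ ≫ φ = φ by simp [φ]])
  rcases mul_eq_zero.1 (show resR (le_top : U ≤ ⊤) s * (resR (le_top : U ≤ ⊤) s - 1) = 0 by
    rw [mul_sub, mul_one, hid, sub_self]) with h | h
  · have hs0 : s = 0 := map_injective_of_isIntegral X (homOfLE (le_top : U ≤ ⊤)) (h.trans (map_zero _).symm)
    have hφ : φ = 0 := Scheme.Modules.hom_ext _ _ fun W => by
      ext l
      rw [hs, hs0, map_zero, zero_smul]
      rfl
    exact Or.inl ((IsZero.iff_id_eq_zero A).2 (by
      have := congrArg (fun t => biprod.inl ≫ i.inv ≫ t ≫ i.hom ≫ biprod.fst) hφ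
      simpa [φ] using this))
  · have hs1 : s = 1 := map_injective_of_isIntegral X (homOfLE (le_top : U ≤ ⊤))
      ((sub_eq_zero.1 h).trans (map_one _).symm)
    have hφ : φ = 𝟙 L := Scheme.Modules.hom_ext _ _ fun W => by
      ext l
      rw [hs, hs1, map_one, one_smul]
      rfl
    exact Or.inr ((IsZero.iff_id_eq_zero B).2 (by
      have := congrArg (fun t => biprod.inr ≫ i.inv ≫ t ≫ i.hom ≫ biprod.snd) hφ
      simpa [φ] using this.symm))

open Groth.Agent.SBBundle.PicPn Groth.Agent.SBBundle.P1Chart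

attribute [local instance] MvPolynomial.gradedAlgebra

variable {K : Type u} [Field K]

local notation "𝒜" => MvPolynomial.homogeneousSubmodule (Fin (1 + 1)) K

/-- A morphism between twisting sheaves on the frames. -/
theorem exists_chart_coeff {a b : ℤ} (φ : Twist.twist 𝒜 a ⟶ Twist.twist 𝒜 b) (i : Fin (1 + 1)) :
    ∃ c : Polynomial K, φ.app (U (K := K) i) (twFrame a i) = polyEquiv i c • twFrame b i := by
  obtain ⟨r, hr⟩ := (isFrame_twFrame (K := K) b i).exists_coord le_rfl (φ.app (U (K := K) i) (twFrame a i))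
  rw [res_self] at hr
  exact ⟨(polyEquiv i).symm r, by rw [RingEquiv.apply_symm_apply]; exact hr⟩

/-- Isomorphic twisting sheaves have the same degree. -/
theorem eq_of_twist_iso {a b : ℤ} (φ : Twist.twist 𝒜 a ≅ Twist.twist 𝒜 b) : a = b := by
  choose c hc using exists_chart_coeff φ.hom
  choose c' hc' using exists_chart_coeff φ.inv
  have hu : ∀ i, IsUnit (c i) := fun i => by
    refine IsUnit.of_mul_eq_one (c' i) ((polyEquiv (K := K) i).injective ?_)
    rw [map_mul, map_one]
    refine (isFrame_twFrame (K := K) a i).coord_unique le_rfl ?_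
    rw [res_self, mul_smul, ← hc' i, ← Scheme.Modules.Hom.app_smul, ← hc i, one_smul]
    exact congrArg (fun t : Twist.twist 𝒜 a ⟶ Twist.twist 𝒜 a => t.app (U (K := K) i) (twFrame a i)) φ.hom_inv_id
  obtain ⟨ga, hga, hta⟩ := exists_twFrame_ov (K := K) a
  obtain ⟨gb, hgb, htb⟩ := exists_twFrame_ov (K := K) b
  let W := U (K := K) (0 : Fin (1 + 1)) ⊓ U 1
  have h0 := congrArg (φ.hom.app W) hta
  rw [Scheme.Modules.Hom.app_smul, app_res, app_res, hc 0, hc 1, res_smul, res_smul, htb, ← mul_smul,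
    ← mul_smul] at h0
  have h1 := congrArg ov ((isFrame_twFrame (K := K) b 1).coord_unique inf_le_right h0)
  rw [map_mul, map_mul, hga, hgb] at h1
  erw [ov_polyEquiv_zero, ov_polyEquiv_one] at h1
  obtain ⟨u₀, hu₀, hu₀'⟩ := Polynomial.isUnit_iff.1 (hu 0)
  obtain ⟨u₁, hu₁, hu₁'⟩ := Polynomial.isUnit_iff.1 (hu 1)
  rw [← hu₀', ← hu₁', Polynomial.toLaurent_C, Polynomial.toLaurent_C, LaurentPolynomial.invert_C,
    mul_comm (T (-a)), ← LaurentPolynomial.single_eq_C_mul_T, ← LaurentPolynomial.single_eq_C_mul_T] at h1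
  have h2 := congrArg AddMonoidAlgebra.coeff h1
  rw [AddMonoidAlgebra.coeff_single, AddMonoidAlgebra.coeff_single, Finsupp.single_eq_single_iff] at h2
  rcases h2 with ⟨h, -⟩ | ⟨h, -⟩
  · omega
  · exact absurd h hu₀.ne_zero

/-- A sum of twisting sheaves has the number of summands as rank. -/
theorem rank_eq {r r' : ℕ} {d : Fin r' → ℤ}
    (_h : ∀ i, PicF.IsInvertible (Twist.twistProjSpace 1 K (d i)))
    {E : (CohB1.ProjSpace 1 K).Modules} (hE : FlatMod.IsFinLocFreeOfRank r E)
    (φ : E ≅ ∐ fun i : Fin r' => Twist.twistProjSpace 1 K (d i)) : r' = r := by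
  let L : Fin r' → (Proj 𝒜).Modules := fun i => Twist.twist 𝒜 (d i)
  let D : ASBunK.Dec (∐ L) L := ASBunK.Dec.coprod
  let V := U (K := K) (0 : Fin (1 + 1))
  let s : Fin r' → Γ(∐ L, V) := fun l => (D.ι l).app V (twFrame (d l) 0)
  have hs : H23.Frame.IsFrame (∐ L) s := fun W hW => by
    have key : ∀ (c : Fin r' → Γ(Proj 𝒜, W)) l,
        (D.π l).app W (H23.Frame.comb (∐ L) s W hW c) = c l • res (L l) hW (twFrame (d l) 0) := fun c l => by
      show (D.π l).app W (∑ j, c j • res (∐ L) hW ((D.ι j).app V (twFrame (d j) 0))) = _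
      rw [app_sum_smul, Finset.sum_eq_single l (fun j _ hj => ?_) (fun h => absurd (Finset.mem_univ l) h)]
      · rw [← app_res]
        show c l • (D.ι l ≫ D.π l).app W _ = _
        rw [D.ι_π]
        rfl
      · rw [← app_res]
        show c j • (D.ι j ≫ D.π l).app W _ = 0
        rw [D.ι_π_ne j l hj]
        exact smul_zero _
    refine ⟨fun c c' h => funext fun l => (isFrame_twFrame (K := K) (d l) 0).coord_unique hW ?_, fun x => ?_⟩
    · rw [← key c l, ← key c' l, h]
    · choose c hc using fun l => (isFrame_twFrame (K := K) (d l) 0).exists_coord hW ((D.π l).app W x)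
      refine ⟨c, ?_⟩
      have hx : (∑ l, D.π l ≫ D.ι l).app W x = x := by rw [D.total]; rfl
      rw [H23.Frame.app_sum] at hx
      refine Eq.trans (Finset.sum_congr rfl fun l _ => ?_) hx
      show c l • res (∐ L) hW ((D.ι l).app V (twFrame (d l) 0)) = (D.ι l).app W ((D.π l).app W x)
      rw [hc l, Scheme.Modules.Hom.app_smul, app_res]
  obtain ⟨e⟩ := H23.Frame.exists_iso_of_frame s hs
  have hV : IsAffineOpen V := PnCoh.isAffineOpen_mOpen fun h => by simpa using DFunLike.congr_fun h (0 : Fin (1 + 1))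
  haveI := isDomain_sections (K := K) (0 : Fin (1 + 1))
  haveI : Nonempty V := by
    by_contra hempty
    rw [not_nonempty_iff] at hempty
    have hb : V = ⊥ := Opens.ext (Set.eq_empty_iff_forall_notMem.2 fun x hx => hempty.false ⟨x, hx⟩)
    haveI : Subsingleton Γ(Proj 𝒜, V) := hb ▸ inferInstance
    exact not_subsingleton Γ(Proj 𝒜, V) inferInstance
  obtain ⟨⟨x, hx⟩⟩ := ‹Nonempty V›
  let E' : (Proj 𝒜).Modules := E
  obtain ⟨l⟩ := QCoh.free_sections (M := E') hV le_rfl ((Scheme.Modules.restrictFunctor V.ι).mapIso φ ≪≫ e)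
  exact (QCoh.finrank_stalk_of_freeChart hV (QCoh.isQCoh_of_isFinLocFree (KRRLib.flf_of_rank hE)) l hx).symm.trans
    (KRRLib.finrank_stk hE x)

/-- The splitting type is unique. -/
theorem perm_of_iso {r r' : ℕ} {d : Fin r → ℤ} {d' : Fin r' → ℤ}
    (φ : (∐ fun i : Fin r => Twist.twistProjSpace 1 K (d i)) ≅ ∐ fun i : Fin r' => Twist.twistProjSpace 1 K (d' i)) :
    ∃ σ : Fin r ≃ Fin r', ∀ i, d i = d' (σ i) := by
  haveI := H23.PnChart.isIntegral_projSpace 1 K
  haveI := PnCoh.Chow.isProper_toSpec 1 K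
  haveI := ASBunK.isLocallyNoetherian_of_proper K (CohB1.ProjSpace.toSpec 1 K)
  let F := fun i : Fin r => Twist.twistProjSpace 1 K (d i)
  let G := fun i : Fin r' => Twist.twistProjSpace 1 K (d' i)
  let dF : ASBunK.Dec (∐ F) F := ASBunK.Dec.coprod
  let dG : ASBunK.Dec (∐ F) G := ASBunK.decOfIso φ
  have hF : Coh.IsCoh (∐ F) := ASBunK.isCoh_of_dec dF fun i =>
    CurveDeg.isCoh_of_isFinLocFree fun x =>
      let ⟨V, hx, e⟩ := InvEnd.isFinLocFreeOfRank_one (isInvertible_twistProjSpace 1 K (d i)) x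
      ⟨V, 1, hx, e⟩
  obtain ⟨σ, hσ⟩ := ASBunK.exists_equiv_of_dec_isCoh K (CohB1.ProjSpace.toSpec 1 K) hF dF dG
    (fun i => indec_of_isInvertible (isInvertible_twistProjSpace 1 K (d i)))
    (fun i => indec_of_isInvertible (isInvertible_twistProjSpace 1 K (d' i)))
  exact ⟨σ, fun i => let ⟨e⟩ := hσ i; eq_of_twist_iso e⟩

end Groth.Agent.SBBundle.P1Split
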