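import Groth.Agent.SBBundle.ProjVec
import Groth.Agent.SBBundle.Taut

/-!
# Linear forms as maps `O(-1) ⟶ O`, and the coordinates at a point
-/

set_option autoImplicit false
set_option backward.isDefEq.respectTransparency false
set_option backward.isDefEq.respectTransparency.types false
set_option linter.style.haveILetI false
set_option linter.unusedSectionVars false

universe u

open CategoryTheory CategoryTheory.Limits AlgebraicGeometry TopologicalSpace Opposite
open HomogeneousLocalization (Away)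

noncomputable section

namespace Groth.Agent.SBBundle

open Groth.Agent.PnCoh Groth.Agent.PnCoh.Finite Groth.Agent.ZetaLib

section Proj

variable {R A : Type u} [CommRing R] [CommRing A] [Algebra R A] {𝒜 : ℕ → Submodule R A} [GradedAlgebra 𝒜]

/-- The product of sections of twisting sheaves, with a prescribed degree. -/
def mulSectTo (a b c : ℤ) (h : a + b = c) {U : (Opens (ProjectiveSpectrum.top 𝒜))ᵒᵖ}
    (s : Twist.sectN (𝒜 := 𝒜) a U) (t : Twist.sectN (𝒜 := 𝒜) b U) : Twist.sectN (𝒜 := 𝒜) c U :=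
  ⟨fun x => ⟨(s.1 x).1 * (t.1 x).1, h ▸ mul_mem_twistAt (s.1 x).2 (t.1 x).2⟩, by
    subst h; exact (mulSect a b s t).2⟩

/-- Multiplication by a form of degree one, as a linear map of sections. -/
def mulLin {f : A} (hf : f ∈ 𝒜 1) (U : (Opens (ProjectiveSpectrum.top 𝒜))ᵒᵖ) :
    Twist.sectN (𝒜 := 𝒜) (-1) U →ₗ[Twist.O U] Twist.sectN (𝒜 := 𝒜) 0 U where
  toFun s := mulSectTo (-1) 1 0 (by omega) s
    (Twist.resN 1 (homOfLE (le_top : U.unop ≤ ⊤)).op (Twist.globalOf 𝒜 (i := 1) ⟨f, hf⟩))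
  map_add' s s' := Subtype.ext (funext fun x => Subtype.ext (add_mul (s.1 x).1 (s'.1 x).1 _))
  map_smul' c s := by
    refine Subtype.ext (funext fun x => Subtype.ext ?_)
    show (((c.1 x) • (s.1 x) : Twist.twistAt 𝒜 (-1) x.1)).1 * _ =
      ((c.1 x) • _ : Twist.twistAt 𝒜 0 x.1).1
    rw [Submodule.coe_smul, Submodule.coe_smul, smul_mul_assoc]
    rfl

/-- Multiplication by a form of degree one, `O(-1) ⟶ O(0)`. -/
def mulTo0 {f : A} (hf : f ∈ 𝒜 1) : Twist.twist 𝒜 (-1) ⟶ Twist.twist 𝒜 0 :=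
  ⟨{ app := fun U => ModuleCat.ofHom (R := Twist.O U) (X := Twist.sectN (𝒜 := 𝒜) (-1) U)
      (Y := Twist.sectN (𝒜 := 𝒜) 0 U) (mulLin hf U)
     naturality := fun {U V} i => by
      ext s
      rfl }⟩

theorem mulTo0_app_twPow {f a : A} (hf : f ∈ 𝒜 1) (ha : a ∈ 𝒜 1) :
    (mulTo0 hf).app (D 𝒜 a) (twPow ha (-1) (nonVan_of_le le_rfl)) =
      (oneHom (𝒜 := 𝒜)).app (D 𝒜 a) (ratio ha hf) := by
  show mulSectTo (-1) 1 0 (by omega) (twPow ha (-1) (nonVan_of_le le_rfl))
      (Twist.resN 1 (homOfLE le_top).op (Twist.globalOf 𝒜 (i := 1) ⟨f, hf⟩)) =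
    (show Twist.O (op (D 𝒜 a)) from ratio ha hf) • oneSect (U := D 𝒜 a)
  refine Subtype.ext (funext fun x => Subtype.ext ?_)
  show ((twPow ha (-1) (nonVan_of_le le_rfl)).1 x).1 * Localization.mk f _ =
    ((((ratio ha hf).1 x) • ((oneSect (U := D 𝒜 a)).1 x) : Twist.twistAt 𝒜 0 x.1) : Twist.Loc 𝒜 x.1)
  rw [Twist.coe_smul_val, ratio_val, twPow_apply]
  show Localization.mk (a ^ (-1 : ℤ).toNat) _ * Localization.mk f _ =
    Localization.mk f _ * Localization.mk (1 : A) _
  rw [Localization.mk_mul, Localization.mk_mul, Localization.mk_eq_mk_iff, Localization.r_iff_exists]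
  refine ⟨1, ?_⟩
  simp

end Proj

variable {m : ℕ} {K : Type u} [Field K]

local notation "𝒜" => CohB1.polyGrading m K
local notation "T" => (MvPolynomial.X : Fin (m + 1) → MvPolynomial (Fin (m + 1)) K)

theorem isIso_oneHom' : IsIso (oneHom («𝒜» := 𝒜)) :=
  isIso_oneHom (fun (j : ULift.{u} (Fin (m + 1))) => T j.down)
    (fun j => MvPolynomial.isHomogeneous_X _ _) PnDual.iSup_D_X

/-- A linear form as a map `O(-1) ⟶ O`. -/
def mulForm {f : MvPolynomial (Fin (m + 1)) K} (hf : f ∈ 𝒜 1) :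
    Twist.twistProjSpace m K (-1) ⟶ Coh.structureModule (CohB1.ProjSpace m K) :=
  mulTo0 hf ≫ (@asIso _ _ _ _ _ (isIso_oneHom' (m := m) (K := K))).inv

theorem mulForm_app_gen {f : MvPolynomial (Fin (m + 1)) K} (hf : f ∈ 𝒜 1) (i : Fin (m + 1)) :
    (mulForm hf).app (D 𝒜 (T i)) (twPow (X_mem_one m K i) (-1) (nonVan_of_le le_rfl)) =
      ratio (X_mem_one m K i) hf := by
  haveI := isIso_oneHom' (m := m) (K := K)
  refine (congrArg ((@asIso _ _ _ _ _ (isIso_oneHom' (m := m) (K := K))).inv.app _)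
    (mulTo0_app_twPow hf (X_mem_one m K i))).trans ?_
  exact congrArg (fun t : Coh.structureModule (CohB1.ProjSpace m K) ⟶ Coh.structureModule (CohB1.ProjSpace m K) =>
    t.app (D 𝒜 (T i)) (ratio (X_mem_one m K i) hf))
    (@asIso _ _ _ _ _ (isIso_oneHom' (m := m) (K := K))).hom_inv_id

/-- The section of the chart as a fraction. -/
theorem awayToSection_mk {f : MvPolynomial (Fin (m + 1)) K} (hf : f ∈ 𝒜 1) (i : Fin (m + 1)) :
    Proj.awayToSection 𝒜 (T i) (Away.mk 𝒜 (X_mem_one m K i) 1 f (by rwa [one_smul])) =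
      ratio (X_mem_one m K i) hf := by
  refine Subtype.ext (funext fun x => HomogeneousLocalization.val_injective _ ?_)
  refine (ProjectiveSpectrum.Proj.awayToSection_apply 𝒜 (T i) _ x).trans ?_
  rw [HomogeneousLocalization.Away.val_mk, Localization.mk_eq_mk', IsLocalization.map_mk', ratio_val,
    Localization.mk_eq_mk']
  simp

theorem evalU_mk {R : Type u} [CommRing R] [Algebra K R] {f : MvPolynomial (Fin (m + 1)) K} (hf : f ∈ 𝒜 1)
    (i : Fin (m + 1)) (v : Fin (m + 1) → R) (h : IsUnit (v i)) :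
    PV.evalU K i v h (Away.mk 𝒜 (X_mem_one m K i) 1 f (by rwa [one_smul])) * v i = MvPolynomial.aeval v f := by
  have h' : IsUnit ((MvPolynomial.aeval v).toRingHom (T i)) := by
    show IsUnit (MvPolynomial.aeval v (T i))
    rwa [MvPolynomial.aeval_X]
  have hv : (Away.mk 𝒜 (X_mem_one m K i) 1 f (by rwa [one_smul])).val *
      algebraMap _ (Localization.Away (T i)) (T i) = algebraMap _ (Localization.Away (T i)) f := by
    rw [HomogeneousLocalization.Away.val_mk, ← Localization.mk_one_eq_algebraMap,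
      ← Localization.mk_one_eq_algebraMap, Localization.mk_mul, Localization.mk_eq_mk_iff,
      Localization.r_iff_exists]
    exact ⟨1, by simp [mul_comm]⟩
  have e := congrArg (IsLocalization.Away.lift (T i) (S := Localization.Away (T i))
      (g := (MvPolynomial.aeval v).toRingHom) h') hv
  simp only [map_mul, IsLocalization.Away.lift_eq] at e
  rw [show (MvPolynomial.aeval v).toRingHom (T i) = v i from MvPolynomial.aeval_X v i] at e
  exact e

/-- The algebra structure on the local rings of projective space. -/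
abbrev pnAlg (y : CohB1.ProjSpace m K) : Algebra K ((CohB1.ProjSpace m K).presheaf.stalk y) :=
  SBAut.algOf (CohB1.ProjSpace.toSpec m K) ((CohB1.ProjSpace m K).fromSpecStalk y)

/-- Coordinates at a point of projective space. -/
theorem exists_coord (y : CohB1.ProjSpace m K) :
    letI := pnAlg y
    ∃ (i : Fin (m + 1)) (v : Fin (m + 1) → (CohB1.ProjSpace m K).presheaf.stalk y) (h : IsUnit (v i))
      (gen : (Twist.twistProjSpace m K (-1)).presheaf.stalk y),
      PV.ptVec K i v h = (CohB1.ProjSpace m K).fromSpecStalk y ∧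
      Function.Bijective (LinearMap.toSpanSingleton ((CohB1.ProjSpace m K).presheaf.stalk y) _ gen) ∧
      ∀ (f : MvPolynomial (Fin (m + 1)) K) (hf : f ∈ 𝒜 1),
        stk (mulForm hf) y gen = MvPolynomial.aeval v f •
          (Coh.structureModule (CohB1.ProjSpace m K)).presheaf.germ ⊤ y trivial
            (1 : Γ(CohB1.ProjSpace m K, ⊤)) := by
  letI := pnAlg y
  haveI : IsLocalRing ((CohB1.ProjSpace m K).presheaf.stalk y) := inferInstance
  obtain ⟨i, hi⟩ := exists_mem_chart y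
  have hiD : y ∈ D 𝒜 (T i) := (mem_range_chart i y).1 hi
  obtain ⟨v, h, hvi, hv⟩ := PV.exists_ptVec (R := (CohB1.ProjSpace m K).presheaf.stalk y)
    ((CohB1.ProjSpace m K).fromSpecStalk y)
    (SBAut.algOf_spec _ _) (i := i) ((Scheme.fromSpecStalk_closedPoint (x := y)).symm ▸ hi)
  refine ⟨i, v, h, (Twist.twistProjSpace m K (-1)).presheaf.germ (D 𝒜 (T i)) y hiD
    (twPow (X_mem_one m K i) (-1) (nonVan_of_le le_rfl)), hv,
    stalkGen_bijective (X_mem_one m K i) hiD (-1), fun f hf => ?_⟩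
  rw [stk_germ, mulForm_app_gen]
  have hψ : PV.evalU K i v h = ((Proj.awayToSection 𝒜 (T i)) ≫
      (CohB1.ProjSpace m K).presheaf.germ (D 𝒜 (T i)) y hiD).hom := by
    have e : Spec.map (CommRingCat.ofHom (PV.evalU K i v h)) =
        Spec.map (Proj.awayToSection 𝒜 (T i) ≫ (CohB1.ProjSpace m K).presheaf.germ (D 𝒜 (T i)) y hiD) := by
      rw [← cancel_mono (chart m K i)]
      refine hv.trans ?_
      show _ = _ ≫ (Proj.basicOpenIsoSpec 𝒜 (T i) (X_mem_one m K i) Nat.one_pos).inv ≫ (D 𝒜 (T i)).ι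
      rw [Spec.map_comp, ← Scheme.Opens.fromSpecStalkOfMem_toSpecΓ, Category.assoc]
      show (CohB1.ProjSpace m K).fromSpecStalk y =
        (D 𝒜 (T i)).fromSpecStalkOfMem y hiD ≫ ((D 𝒜 (T i)).toSpecΓ ≫ Spec.map (Proj.awayToSection 𝒜 (T i))) ≫
          (Proj.basicOpenIsoSpec 𝒜 (T i) (X_mem_one m K i) Nat.one_pos).inv ≫ (D 𝒜 (T i)).ι
      rw [show (D 𝒜 (T i)).toSpecΓ ≫ Spec.map (Proj.awayToSection 𝒜 (T i)) =
          (Proj.basicOpenIsoSpec 𝒜 (T i) (X_mem_one m K i) Nat.one_pos).hom from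
        (Proj.basicOpenIsoSpec_hom 𝒜 (T i) (X_mem_one m K i) Nat.one_pos).symm,
        Iso.hom_inv_id_assoc, Scheme.Opens.fromSpecStalkOfMem_ι]
      rfl
    exact congrArg CommRingCat.Hom.hom (Spec.map_injective e)
  have hval := evalU_mk hf i v h
  rw [hvi, mul_one, hψ] at hval
  rw [← hval]
  show (Coh.structureModule (CohB1.ProjSpace m K)).presheaf.germ _ y hiD (ratio (X_mem_one m K i) hf) =
    (CohB1.ProjSpace m K).presheaf.germ _ y hiD (Proj.awayToSection 𝒜 (T i) _) • _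
  rw [awayToSection_mk hf i]
  have h1 := germ_smul (G := Coh.structureModule (CohB1.ProjSpace m K)) (D 𝒜 (T i)) y hiD
    (ratio (X_mem_one m K i) hf) (1 : Γ(CohB1.ProjSpace m K, D 𝒜 (T i)))
  refine Eq.trans ?_ (h1.trans (congrArg _ ?_))
  · exact congrArg _ (mul_one (ratio (X_mem_one m K i) hf)).symm
  · refine Eq.trans ?_ (TopCat.Presheaf.germ_res_apply (Coh.structureModule (CohB1.ProjSpace m K)).presheaf
      (homOfLE (le_top : D 𝒜 (T i) ≤ ⊤)) y hiD (1 : Γ(CohB1.ProjSpace m K, ⊤)))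
    exact congrArg _ (map_one ((CohB1.ProjSpace m K).presheaf.map (homOfLE (le_top : D 𝒜 (T i) ≤ ⊤)).op).hom).symm

end Groth.Agent.SBBundle
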