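import Groth.Agent.PicFRel.ProductPic
import Groth.Agent.FBaseLib.PerfectPoint
import Groth.Agent.ASBunK.SplitEt
import Groth.Agent.SerreVan45.PushFree
import Groth.Agent.KRRLib.Pn.Gen
import Groth.Agent.ASBunK.Isotypic

/-!
# Direct images along purely inseparable extensions of the base field

If `X_K` is proper, geometrically integral, with vanishing first cohomology of functions, an invertible module
on `X_L` (`L/k` finite purely inseparable) pushed to `X` becomes a multiple of its pullback over `K`.
-/

set_option autoImplicit false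
set_option backward.isDefEq.respectTransparency false
set_option backward.isDefEq.respectTransparency.types false
set_option linter.style.haveILetI false

universe u

open CategoryTheory CategoryTheory.Limits AlgebraicGeometry MonoidalCategory CartesianMonoidalCategory
open scoped TensorProduct
open W4c1astiltbs12

noncomputable section

namespace Groth.Agent.SBBundle.InsepPush

open Groth.Agent.H23 Groth.Agent.H23.InfArtin
open scoped Groth.Agent.H23.PicMul

variable {K : Type u} [Field K]

/-- The tensor functor of an invertible module is an equivalence. -/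
theorem isEquivalence_tensorBi {Y : Scheme.{u}} {L : Y.Modules} (hL : PicF.IsInvertible L) :
    ((DCoh.tensorBi (X := Y)).obj L).IsEquivalence := by
  obtain ⟨⟨_, M, rfl, hM⟩, hLM⟩ := PicMul.exists_inv ⟨PicF.cl L, L, rfl, hL⟩
  have h : PicF.cl L * PicF.cl M = 1 := (mul_comm _ _).trans hLM
  exact KRRLib.Pn.isEquivalence_tensor (PicMul.cl_eq_iff.1 h).some
    (PicMul.cl_eq_iff.1 ((mul_comm _ _).trans h)).some

/-- A finite locally free module on a scheme with one point is free. -/
theorem exists_iso_freeMod {S : Scheme.{u}} [Subsingleton S] [Nonempty S] {V : S.Modules}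
    (hV : FlatMod.IsFinLocFree V) : ∃ n : ℕ, Nonempty (V ≅ FlatMod.freeMod S n) := by
  obtain ⟨x⟩ : Nonempty S := inferInstance
  obtain ⟨U, n, hx, ⟨e⟩⟩ := hV x
  haveI : IsIso U.ι := by
    have htop : U = ⊤ := top_le_iff.1 fun y _ => (Subsingleton.elim x y) ▸ hx
    subst htop
    exact inferInstanceAs (IsIso S.topIso.hom)
  have h₁ : (Scheme.Modules.pullback (inv U.ι)).obj ((Scheme.Modules.pullback U.ι).obj V) ≅ V :=
    (Scheme.Modules.pullbackComp (inv U.ι) U.ι).app V ≪≫
      (Scheme.Modules.pullbackCongr (IsIso.inv_hom_id U.ι)).app V ≪≫ (Scheme.Modules.pullbackId S).app V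
  let F := Scheme.Modules.pullback (inv U.ι)
  let g : ∀ _ : Fin n, F.obj (Coh.structureModule U.toScheme) ≅ Coh.structureModule S := fun _ =>
    (PicClLib.nonempty_pullback_structureModule (inv U.ι)).some
  exact ⟨n, ⟨h₁.symm ≪≫ F.mapIso ((Scheme.Modules.restrictFunctorIsoPullback U.ι).app V).symm ≪≫ F.mapIso e ≪≫
    PreservesCoproduct.iso F _ ≪≫ Sigma.mapIso g⟩⟩

/-- The functions on the base change to a finite algebra are free. -/
theorem exists_push_structure_iso {Y : Scheme.{u}} (q : Y ⟶ Spec (CommRingCat.of K)) [IsProper q]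
    (C : Type u) [CommRing C] [Algebra K C] [Module.Finite K C] [Nontrivial C] :
    ∃ d : ℕ, 0 < d ∧ Nonempty ((Scheme.Modules.pushforward
        (pullback.fst q (Spec.map (CommRingCat.ofHom (algebraMap K C))))).obj
          (Coh.structureModule _) ≅ ∐ fun _ : Fin d => Coh.structureModule Y) := by
  let c := Spec.map (CommRingCat.ofHom (algebraMap K C))
  haveI : IsFinite c := (IsFinite.SpecMap_iff _).2 (RingHom.finite_algebraMap.2 inferInstance)
  haveI : IsNoetherianRing C := IsNoetherianRing.of_finite K C
  haveI : Flat c := by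
    rw [Flat.SpecMap_iff]
    exact RingHom.flat_algebraMap_iff.2 inferInstance
  haveI : Coh.IsQCoh (Coh.structureModule (Spec (CommRingCat.of C))) :=
    (QCoh.isCoh_structureModule' (X := Spec (CommRingCat.of C))).1
  have hlf : FlatMod.IsFinLocFree ((Scheme.Modules.pushforward c).obj
      (Coh.structureModule (Spec (CommRingCat.of C)))) :=
    SerreVan45.isFinLocFree_push c (PullPush.isFinLocFree_of_isInvertible InvStalk.isInvertible_structureModule)
  haveI : Subsingleton ↥(Spec (CommRingCat.of K)) := inferInstanceAs (Subsingleton (PrimeSpectrum K))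
  haveI : Nonempty ↥(Spec (CommRingCat.of K)) := inferInstanceAs (Nonempty (PrimeSpectrum K))
  obtain ⟨d, ⟨e⟩⟩ := exists_iso_freeMod hlf
  have hd : 0 < d := Nat.pos_of_ne_zero fun h => by
    subst h
    have hz : IsZero (FlatMod.freeMod (Spec (CommRingCat.of K)) 0) :=
      (IsZero.iff_id_eq_zero _).2 (Sigma.hom_ext _ _ fun i => i.elim0)
    have hz' := hz.of_iso e
    have h0 : (1 : Γ(Spec (CommRingCat.of C), ⊤)) = 0 :=
      congrArg (fun φ : (Scheme.Modules.pushforward c).obj (Coh.structureModule (Spec (CommRingCat.of C))) ⟶ _ =>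
        φ.app ⊤ (1 : Γ(Spec (CommRingCat.of C), ⊤))) ((IsZero.iff_id_eq_zero _).1 hz')
    haveI : Subsingleton Γ(Spec (CommRingCat.of C), ⊤) := subsingleton_of_zero_eq_one h0.symm
    haveI := (Scheme.ΓSpecIso (CommRingCat.of C)).commRingCatIsoToRingEquiv.symm.toEquiv.subsingleton
    exact not_subsingleton C ‹_›
  obtain ⟨b⟩ := Groth.Agent.S0017.result c q (pullback.snd q c) (pullback.fst q c)
    (IsPullback.of_hasPullback q c).flip (Coh.structureModule _)
  obtain ⟨u⟩ := PicClLib.nonempty_pullback_structureModule (pullback.snd q c)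
  let F := Scheme.Modules.pullback q
  let g : ∀ _ : Fin d, F.obj (Coh.structureModule (Spec (CommRingCat.of K))) ≅ Coh.structureModule Y := fun _ =>
    (PicClLib.nonempty_pullback_structureModule q).some
  exact ⟨d, hd, ⟨(Scheme.Modules.pushforward (pullback.fst q c)).mapIso u.symm ≪≫ b.symm ≪≫ F.mapIso e ≪≫
    PreservesCoproduct.iso F _ ≪≫ Sigma.mapIso g⟩⟩

/-- Pulling an invertible module back to a finite extension of the base and pushing it forward again. -/
theorem exists_push_pullback_iso {Y : Scheme.{u}} (q : Y ⟶ Spec (CommRingCat.of K)) [IsProper q]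
    (C : Type u) [CommRing C] [Algebra K C] [Module.Finite K C] [Nontrivial C] {L : Y.Modules} (hL : PicF.IsInvertible L) :
    ∃ d : ℕ, 0 < d ∧ Nonempty ((Scheme.Modules.pushforward
        (pullback.fst q (Spec.map (CommRingCat.ofHom (algebraMap K C))))).obj
          ((Scheme.Modules.pullback (pullback.fst q (Spec.map (CommRingCat.ofHom (algebraMap K C))))).obj L) ≅
      ∐ fun _ : Fin d => L) := by
  let f := pullback.fst q (Spec.map (CommRingCat.ofHom (algebraMap K C)))
  obtain ⟨d, hd, ⟨e⟩⟩ := exists_push_structure_iso q C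
  haveI := isEquivalence_tensorBi hL
  haveI := isEquivalence_tensorBi (PicLoc.isInvertible_pullback f hL)
  obtain ⟨pf⟩ := KRRLib.Pn.nonempty_push_tensor_iso (f := f) L (Coh.structureModule _)
  let T := (DCoh.tensorBi (X := Y)).obj L
  have unit : ∀ {Z : Scheme.{u}} (M : Z.Modules), Nonempty (((DCoh.tensorBi (X := Z)).obj M).obj
      (Coh.structureModule Z) ≅ M) := fun M => ⟨(KFlatLib.tensorStructureIso _).app M⟩
  exact ⟨d, hd, ⟨(Scheme.Modules.pushforward f).mapIso (unit _).some.symm ≪≫ pf ≪≫ T.mapIso e ≪≫
    PreservesCoproduct.iso T _ ≪≫ Sigma.mapIso fun _ => (unit L).some⟩⟩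

section Setting

variable {k : Type u} [Field k] [Algebra k K] {X : Scheme.{u}} (p : X ⟶ Spec (CommRingCat.of k))
  [IsProper p]

/-- Over a purely inseparable extension an invertible module pushed forward becomes, over a bigger field,
a multiple of its pullback. -/
theorem exists_bcMod_push_iso (L : IntermediateField k K) [FiniteDimensional k L] [IsPurelyInseparable k L]
    [GeometricallyIntegral (W4bk4gw11416.baseChangeTo p K)]
    (h1 : Subsingleton (Coh.HH (W4bk4gw11416.baseChange p K)
      (Coh.structureModule (W4bk4gw11416.baseChange p K)) 1))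
    (E : (pullback p (ASBunK.strField k L)).Modules) (hE : PicF.IsInvertible E) :
    ∃ d : ℕ, 0 < d ∧ Nonempty (bcMod p K ((Scheme.Modules.pushforward (pullback.fst p (ASBunK.strField k L))).obj E) ≅
      pow ((Scheme.Modules.pullback (ASBunK.projEmb p L.val)).obj E) d) := by
  let C := K ⊗[k] L
  haveI : IsLocalRing C := FBaseLib.isLocalRing_tensor_purelyInseparable
  haveI : Subsingleton (PrimeSpectrum C) :=
    (PrimeSpectrum.isHomeomorph_comap_of_isPurelyInseparable k L K).injective.subsingleton
  let g : C →ₐ[K] K := Algebra.TensorProduct.lift (AlgHom.id K K) L.val (fun a b => Commute.all _ _)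
  let c := Spec.map (CommRingCat.ofHom (algebraMap K C))
  let q := W4bk4gw11416.baseChangeTo p K
  haveI : IsProper q := ASBunK.isProper_baseChangeTo k p K
  let incl : L →+* C := (Algebra.TensorProduct.includeRight : L →ₐ[k] C).toRingHom
  have hC : IsPullback (Spec.map (CommRingCat.ofHom incl)) c (ASBunK.strField k L) (ASBunK.strField k K) :=
    (isPullback_SpecMap_of_isPushout _ _ _ _ (CommRingCat.isPushout_tensorProduct k K L)).flip
  let π := pullback.fst p (ASBunK.strField k L)
  let q₁ : pullback q c ⟶ pullback p (ASBunK.strField k L) :=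
    pullback.lift (pullback.fst q c ≫ proj p K) (pullback.snd q c ≫ Spec.map (CommRingCat.ofHom incl)) (by
      rw [Category.assoc, Category.assoc, hC.w, ← pullback.condition_assoc, pullback.condition])
  have h1' : IsPullback (q₁ ≫ pullback.snd p (ASBunK.strField k L)) (pullback.fst q c) (ASBunK.strField k L)
      (proj p K ≫ p) := by
    rw [pullback.lift_snd, pullback.condition]
    exact (IsPullback.of_hasPullback q c).flip.paste_horiz hC
  have hP : IsPullback q₁ (pullback.fst q c) π (proj p K) :=
    IsPullback.of_right h1' (pullback.lift_fst _ _ _) (IsPullback.of_hasPullback p (ASBunK.strField k L)).flip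
  let Xo : Over (Spec (CommRingCat.of K)) := Over.mk q
  haveI : IsProper Xo.hom := ‹IsProper q›
  haveI : GeometricallyIntegral Xo.hom := ‹GeometricallyIntegral (W4bk4gw11416.baseChangeTo p K)›
  let Z := spOver (k := K) C
  haveI : Subsingleton ↥Z.left := ‹Subsingleton (PrimeSpectrum C)›
  haveI : Nonempty ↥Z.left := inferInstanceAs (Nonempty (PrimeSpectrum C))
  haveI : PreconnectedSpace ↥Z.left := ⟨Set.subsingleton_univ.isPreconnected⟩
  haveI : ConnectedSpace ↥Z.left := ⟨inferInstance⟩
  let σ : Spec (CommRingCat.of K) ⟶ Z.left := Spec.map (CommRingCat.ofHom g.toRingHom)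
  have hσ : σ ≫ Z.hom = 𝟙 _ := by
    show Spec.map _ ≫ Spec.map _ = _
    rw [← Spec.map_comp, ← CommRingCat.ofHom_comp,
      show g.toRingHom.comp (algebraMap K C) = RingHom.id K from RingHom.ext g.commutes,
      CommRingCat.ofHom_id, Spec.map_id]
  let E' : (pullback q c).Modules := (Scheme.Modules.pullback q₁).obj E
  have hE' : PicF.IsInvertible E' := PicLoc.isInvertible_pullback q₁ hE
  obtain ⟨a, b, ⟨A, rfl, hA⟩, ⟨B, rfl, hB⟩, hab⟩ := PicFRel.ProductPic.exists_factors (X := Xo) h1 Z σ hσ
    (PicF.cl E') ⟨E', rfl, hE'⟩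
  have hA1 : PicF.cl A = 1 := PicMul.cl_eq_iff.2 (PicFRel.ProductPic.triv_of_subsingleton hA)
  rw [hA1, PicMul.pullCl_one, one_mul] at hab
  obtain ⟨eE⟩ := PicMul.cl_eq_iff.1 (hab : PicF.cl E' = PicF.cl ((Scheme.Modules.pullback (pullback.fst q c)).obj B))
  let s : W4bk4gw11416.baseChange p K ⟶ pullback q c := pullback.lift (𝟙 _) (q ≫ σ) (by
    rw [Category.id_comp, Category.assoc]
    exact ((congrArg (q ≫ ·) hσ).trans (Category.comp_id q)).symm)
  have hs : s ≫ q₁ = ASBunK.projEmb p L.val := by
    refine pullback.hom_ext ?_ ?_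
    · rw [Category.assoc, pullback.lift_fst, ← Category.assoc, pullback.lift_fst, Category.id_comp,
        ASBunK.projEmb_fst]
    · rw [Category.assoc, pullback.lift_snd, ← Category.assoc, pullback.lift_snd, Category.assoc,
        ASBunK.projEmb_snd, ← Spec.map_comp]
      congr 2
      ext x
      show g ((1 : K) ⊗ₜ[k] x) = L.val x
      rw [Algebra.TensorProduct.lift_tmul]
      simp
  let eB : (Scheme.Modules.pullback (ASBunK.projEmb p L.val)).obj E ≅ B :=
    (Scheme.Modules.pullbackCongr hs.symm).app E ≪≫ ((Scheme.Modules.pullbackComp s q₁).app E).symm ≪≫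
      (Scheme.Modules.pullback s).mapIso eE ≪≫ (Scheme.Modules.pullbackComp s (pullback.fst q c)).app B ≪≫
      (Scheme.Modules.pullbackCongr (pullback.lift_fst _ _ _)).app B ≪≫ (Scheme.Modules.pullbackId _).app B
  obtain ⟨d, hd, ⟨ed⟩⟩ := exists_push_pullback_iso q C hB
  haveI : IsAffineHom π := MorphismProperty.pullback_fst _ _ inferInstance
  haveI : Coh.IsQCoh E := QCoh.isQCoh_of_isFinLocFree (PullPush.isFinLocFree_of_isInvertible hE)
  obtain ⟨b0⟩ := Groth.Agent.S0017.result π (proj p K) q₁ (pullback.fst q c) hP E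
  exact ⟨d, hd, ⟨b0 ≪≫ (Scheme.Modules.pushforward (pullback.fst q c)).mapIso eE ≪≫ ed ≪≫
    Sigma.mapIso fun _ => eB.symm⟩⟩

end Setting

end Groth.Agent.SBBundle.InsepPush
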