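import Groth.Agent.DixBrauer.SBPeriod
import Groth.Agent.SBBundle.AbsSplit
import Groth.Agent.PnCoh.TwistH0

/-!
# Automorphisms of a projective space as a scheme fix the twisting sheaves
-/

set_option autoImplicit false
set_option backward.isDefEq.respectTransparency false
set_option backward.isDefEq.respectTransparency.types false
set_option linter.style.haveILetI false

universe u

open CategoryTheory CategoryTheory.Limits AlgebraicGeometry TopologicalSpace Opposite

noncomputable section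

namespace Groth.Agent.SBBundle.TwistFix

open Groth.Agent.H23
open scoped Groth.Agent.H23.PicMul

variable (K : Type u) [Field K] (m : ℕ)

set_option synthInstance.maxHeartbeats 200000 in
/-- The first twist has a nonzero section. -/
theorem exists_hom_one_ne_zero :
    ∃ φ : Coh.structureModule (CohB1.ProjSpace m K) ⟶ Twist.twistProjSpace m K 1, φ ≠ 0 := by
  letI := MvPolynomial.gradedAlgebra (σ := Fin (m + 1)) (R := K)
  let a : MvPolynomial.homogeneousSubmodule (Fin (m + 1)) K 1 :=
    ⟨MvPolynomial.X 0, MvPolynomial.isHomogeneous_X K 0⟩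
  have ha : a ≠ 0 := fun h => MvPolynomial.X_ne_zero (R := K) (0 : Fin (m + 1)) (congrArg Subtype.val h)
  let g : MvPolynomial.homogeneousSubmodule (Fin (m + 1)) K 1 ≃+ PnCoh.TwTop (Fin (m + 1)) K ((1 : ℕ) : ℤ) :=
    { PnCoh.globalOfEquiv with map_add' := PnCoh.globalOf_add }
  let t : Γ(Twist.twistProjSpace m K 1, ⊤) := g a
  have ht : t ≠ 0 := fun h => ha (g.map_eq_zero_iff.1 h)
  exact ⟨InvX.ofSect t, fun h => ht ((InvX.one_ofSect t).symm.trans ((congrArg InvX.one h).trans rfl))⟩

/-- The negative twists have no sections. -/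
theorem hom_eq_zero_of_neg (hm : 0 < m) {d : ℤ} (hd : d < 0)
    (φ : Coh.structureModule (CohB1.ProjSpace m K) ⟶ Twist.twistProjSpace m K d) : φ = 0 := by
  haveI : Subsingleton Γ(Twist.twistProjSpace m K d, ⊤) :=
    PnCoh.subsingleton_global (ι := Fin (m + 1)) (R := K) (by rw [Fintype.card_fin]; omega) hd
  refine Scheme.Modules.hom_ext _ _ fun W => ?_
  ext r
  refine (InvX.app_eq_smul φ r).trans ?_
  rw [show InvX.one φ = 0 from Subsingleton.elim (α := Γ(Twist.twistProjSpace m K d, ⊤)) _ _, map_zero, smul_zero]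
  rfl

variable {K m} {k : Type u} [Field k] [Algebra k K] {X : Scheme.{u}} {p : X ⟶ Spec (CommRingCat.of k)}
  (e : BrSev.Splitting p K m)

/-- The classes of the twisting sheaves. -/
def clHom : Multiplicative ℤ →* PicF.Cl (BrSev.bc p K) where
  toFun j := PicF.cl (e.twist j.toAdd)
  map_one' := PicMul.cl_eq_iff.2 (twist_zero e)
  map_mul' a b := (PicMul.cl_eq_iff.2 (twist_add e a.toAdd b.toAdd)).symm.trans (PicMul.cl_tensor _ _)

theorem pullCl_clHom (φ : BrSev.bc p K ⟶ BrSev.bc p K) {a : ℤ}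
    (i : (Scheme.Modules.pullback φ).obj (e.twist 1) ≅ e.twist a) (j : ℤ) :
    PicF.pullCl φ (PicF.cl (e.twist j)) = PicF.cl (e.twist (j * a)) := by
  let μ : Multiplicative ℤ →* Multiplicative ℤ := (AddMonoidHom.mulRight a).toMultiplicative
  have h : (PicMul.pullHom φ).comp (clHom e) = (clHom e).comp μ := MonoidHom.ext_mint (by
    show PicF.pullCl φ (PicF.cl (e.twist 1)) = PicF.cl (e.twist ((1 : ℤ) * a))
    rw [one_mul]
    exact PicMul.cl_eq_iff.2 ⟨i⟩)
  exact DFunLike.congr_fun h (Multiplicative.ofAdd j)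

/-- The exponent of the pullback of the first twist along an isomorphism is not negative. -/
theorem nonneg_of_iso (hm : 0 < m) (φ : BrSev.bc p K ≅ BrSev.bc p K) {a : ℤ}
    (i : (Scheme.Modules.pullback φ.hom).obj (e.twist 1) ≅ e.twist a) : 0 ≤ a := by
  by_contra ha
  obtain ⟨s, hs⟩ := exists_hom_one_ne_zero K m
  let ψ := e.iso.inv ≫ φ.hom ≫ e.iso.hom
  let ι : (Scheme.Modules.pullback ψ).obj (Twist.twistProjSpace m K 1) ≅ Twist.twistProjSpace m K a :=
    ((Scheme.Modules.pullbackComp e.iso.inv (φ.hom ≫ e.iso.hom)).app _).symm ≪≫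
      (Scheme.Modules.pullback e.iso.inv).mapIso
        (((Scheme.Modules.pullbackComp φ.hom e.iso.hom).app _).symm ≪≫ i) ≪≫
      (Scheme.Modules.pullbackComp e.iso.inv e.iso.hom).app _ ≪≫
      (Scheme.Modules.pullbackCongr e.iso.inv_hom_id).app _ ≪≫ (Scheme.Modules.pullbackId _).app _
  obtain ⟨u⟩ := PicClLib.nonempty_pullback_structureModule ψ
  have h0 : (Scheme.Modules.pullback ψ).map s = 0 := by
    have := hom_eq_zero_of_neg K m hm (not_le.1 ha) (u.inv ≫ (Scheme.Modules.pullback ψ).map s ≫ ι.hom)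
    simpa using congrArg (fun f => u.hom ≫ f ≫ ι.inv) this
  let χ := inv ψ
  have h1 : (Scheme.Modules.pullback χ).map ((Scheme.Modules.pullback ψ).map s) = 0 := by
    rw [h0, Functor.map_zero]
  let η : Scheme.Modules.pullback ψ ⋙ Scheme.Modules.pullback χ ≅ 𝟭 _ :=
    Scheme.Modules.pullbackComp χ ψ ≪≫ Scheme.Modules.pullbackCongr (IsIso.inv_hom_id ψ) ≪≫
      Scheme.Modules.pullbackId _
  refine hs ?_
  have h2 := η.hom.naturality s
  rw [Functor.comp_map, h1, zero_comp, Functor.id_map] at h2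
  exact (cancel_epi (η.hom.app _)).1 (h2.symm.trans comp_zero.symm)

/-- Automorphisms of the scheme fix every twisting sheaf. -/
theorem nonempty_pullback_twist (φ : BrSev.bc p K ≅ BrSev.bc p K) (j : ℤ) :
    Nonempty ((Scheme.Modules.pullback φ.hom).obj (e.twist j) ≅ e.twist j) := by
  rcases Nat.eq_zero_or_pos m with rfl | hm
  · obtain ⟨a, ⟨i⟩⟩ := exists_twist_iso e (PicLoc.isInvertible_pullback φ.hom (isInvertible_twist e j))
    obtain ⟨w⟩ := DixBrauer.nonempty_twist_zero_dim K a j
    exact ⟨i ≪≫ (Scheme.Modules.pullback e.iso.hom).mapIso w⟩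
  obtain ⟨a, ⟨i⟩⟩ := exists_twist_iso e (PicLoc.isInvertible_pullback φ.hom (isInvertible_twist e 1))
  obtain ⟨b, ⟨i'⟩⟩ := exists_twist_iso e (PicLoc.isInvertible_pullback φ.inv (isInvertible_twist e 1))
  have hab : b * a = 1 := by
    have h : PicF.cl (e.twist (b * a)) = PicF.cl (e.twist 1) := by
      rw [← pullCl_clHom e φ.hom i b]
      have : PicF.pullCl φ.inv (PicF.cl (e.twist 1)) = PicF.cl (e.twist b) := PicMul.cl_eq_iff.2 ⟨i'⟩
      rw [← this, PicClLib.pullCl_comp, φ.hom_inv_id, PicClLib.pullCl_id]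
    exact DixBrauer.twist_inj e hm (PicMul.cl_eq_iff.1 h).some
  obtain rfl : a = 1 := by
    have := nonneg_of_iso e hm φ i
    rcases Int.eq_one_or_neg_one_of_mul_eq_one' hab with ⟨-, h⟩ | ⟨-, h⟩
    · exact h
    · omega
  refine PicMul.cl_eq_iff.1 ?_
  show PicF.pullCl φ.hom (PicF.cl (e.twist j)) = _
  rw [pullCl_clHom e φ.hom i j, mul_one]

end Groth.Agent.SBBundle.TwistFix
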