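import Groth.Agent.SBBundle.InsepPush
import Groth.Agent.SBBundle.TwistFix
import Groth.Agent.ASBunK.GalDesc
import Groth.Agent.H23.EquidimFibres
import Groth.Agent.S0023

/-!
# Indecomposable modules of every twisting type, over any field
-/

set_option autoImplicit false
set_option backward.isDefEq.respectTransparency false
set_option backward.isDefEq.respectTransparency.types false
set_option linter.style.haveILetI false

universe u

open CategoryTheory CategoryTheory.Limits AlgebraicGeometry
open W4c1astiltbs12

noncomputable section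

namespace Groth.Agent.SBBundle.InsepType

open Groth.Agent.H23

variable {k : Type u} [Field k] {X : Scheme.{u}} (p : X ⟶ Spec (CommRingCat.of k)) [IsProper p]
  (K : Type u) [Field K] [Algebra k K]

/-- A finite locally free module over an algebraic extension is defined over a finite subextension. -/
theorem exists_model [Algebra.IsAlgebraic k K] (W : (W4bk4gw11416.baseChange p K).Modules)
    (hW : FlatMod.IsFinLocFree W) :
    ∃ (L : IntermediateField k K) (_ : FiniteDimensional k L)
      (E : (pullback p (ASBunK.strField k L)).Modules), FlatMod.IsFinLocFree E ∧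
      Surjective (ASBunK.projEmb p L.val) ∧
      Nonempty ((Scheme.Modules.pullback (ASBunK.projEmb p L.val)).obj E ≅ W) := by
  classical
  haveI : CompactSpace X := QuasiCompact.compactSpace_of_compactSpace p
  haveI : QuasiSeparatedSpace X := quasiSeparatedSpace_of_quasiSeparated p
  haveI hWq : Coh.IsQCoh W := QCoh.isQCoh_of_isFinLocFree hW
  obtain ⟨s, -, E, hEq, -, ⟨e⟩⟩ := Groth.Agent.S4788.result (Pi1Ext.SepLim.diag k K p)
    (Pi1Ext.SepLim.cone k K p) (Pi1Ext.SepLim.isLimitCone k K p) (Opposite.op ∅) W
    (QCoh.isFinLocFree_iff.1 hW).1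
  let L := Pi1Ext.SepLim.sub k K s.unop
  haveI : FiniteDimensional k L :=
    IntermediateField.finiteDimensional_adjoin fun x _ => (Algebra.IsAlgebraic.isAlgebraic x).isIntegral
  have hpb := Pi1Ext.SepLim.isPullback_proj k K p s
  have hproj : ASBunK.projEmb p L.val = Pi1Ext.SepLim.proj k K p s := by
    refine pullback.hom_ext ?_ ?_
    · exact (ASBunK.projEmb_fst p L.val).trans (pullback.lift_fst _ _ _).symm
    · exact (ASBunK.projEmb_snd p L.val).trans (pullback.lift_snd _ _ _).symm
  haveI : Surjective (Pi1Ext.SepLim.proj k K p s) :=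
    MorphismProperty.of_isPullback (P := @Surjective) hpb.flip (ASBunK.surjective_specMap L K L.val.toRingHom)
  haveI : Flat (Pi1Ext.SepLim.proj k K p s) :=
    MorphismProperty.of_isPullback (P := @Flat) hpb.flip (ASBunK.flat_specMap L K L.val.toRingHom)
  haveI : QuasiCompact (Pi1Ext.SepLim.proj k K p s) :=
    MorphismProperty.of_isPullback (P := @QuasiCompact) hpb.flip
      (inferInstanceAs (QuasiCompact (Spec.map (CommRingCat.ofHom L.val.toRingHom))))
  refine ⟨L, inferInstance, E, ?_, by rw [hproj]; infer_instance, ⟨?_⟩⟩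
  · refine FTDescent.isFinLocFree_of_pullback (Pi1Ext.SepLim.proj k K p s) hEq ?_
    exact PullPush.isFinLocFree_of_iso e.symm hW
  · exact (Scheme.Modules.pullbackCongr hproj).app E ≪≫ e

variable {p K} {n : ℕ} (e : BrSev.Splitting p K n)

omit [IsProper p] in
include e in
theorem geometricallyIntegral_bcTo [IsAlgClosed K] :
    GeometricallyIntegral (W4bk4gw11416.baseChangeTo p K) := by
  haveI := H23.PnChart.isIntegral_projSpace n K
  haveI : IsIntegral (Over.mk (W4bk4gw11416.baseChangeTo p K)).left :=
    H23.MaxAbelian.isIntegral_of_iso e.iso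
  exact H23.EquidimFibres.geometricallyIntegral_of_isAlgClosed (V := Over.mk (W4bk4gw11416.baseChangeTo p K))

include e in
theorem subsingleton_HH_one : Subsingleton (Coh.HH (W4bk4gw11416.baseChange p K)
    (Coh.structureModule (W4bk4gw11416.baseChange p K)) 1) := by
  haveI := ASBunK.isProper_baseChangeTo k p K
  haveI : IsLocallyNoetherian (W4bk4gw11416.baseChange p K) :=
    LocallyOfFiniteType.isLocallyNoetherian (W4bk4gw11416.baseChangeTo p K)
  let f := e.iso.hom
  have hO := (QCoh.isCoh_structureModule' (X := W4bk4gw11416.baseChange p K)).1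
  obtain ⟨h⟩ := QCoh.HH_push_of_isAffineHom f hO 1
  haveI := Groth.Agent.S0023.result n K 1 Nat.one_pos
  haveI : IsIso (ClSub.unitToPush f) := by
    rw [Scheme.Modules.Hom.isIso_iff_isIso_app]
    intro U
    rw [ConcreteCategory.isIso_iff_bijective]
    exact ConcreteCategory.bijective_of_isIso (f.app U)
  let v := asIso (ClSub.unitToPush f)
  haveI := QCoh.subsingleton_HH_of_iso v 1 inferInstance
  exact h.toEquiv.subsingleton

/-- Over a separably closed field some bundle has the given twisting type. -/
theorem exists_type_sepClosed [IsSepClosed k] [IsAlgClosure k K] (j : ℤ) :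
    ∃ (M : X.Modules) (d : ℕ), Coh.IsCoh M ∧ 0 < d ∧ BrSev.IsTwPow e j d M := by
  haveI : IsAlgClosed K := IsAlgClosure.isAlgClosed k
  haveI : Algebra.IsAlgebraic k K := IsAlgClosure.isAlgebraic
  haveI := ASBunK.isLocallyNoetherian_of_proper k p
  obtain ⟨L, _, E, hE, hs, ⟨i⟩⟩ := exists_model p K (e.twist j)
    (SBBundle.isFinLocFree_of_isInvertible (isInvertible_twist e j))
  haveI := hs
  have hEi : PicF.IsInvertible E :=
    isInvertible_of_pullback_iso (ASBunK.projEmb p L.val) hE (isInvertible_twist e j) i
  haveI := geometricallyIntegral_bcTo e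
  obtain ⟨d, hd, ⟨φ⟩⟩ := InsepPush.exists_bcMod_push_iso p L (subsingleton_HH_one e) E hEi
  refine ⟨_, d, ?_, hd, ⟨φ ≪≫ Sigma.mapIso fun _ => i⟩⟩
  haveI : IsFinite (pullback.fst p (ASBunK.strField k L)) :=
    MorphismProperty.pullback_fst _ _ ((IsFinite.SpecMap_iff _).2 (RingHom.finite_algebraMap.2 inferInstance))
  haveI : IsLocallyNoetherian (pullback p (ASBunK.strField k L)) :=
    LocallyOfFiniteType.isLocallyNoetherian (pullback.fst p (ASBunK.strField k L))
  exact QCoh.isCoh_pushforward_finite _ (CurveDeg.isCoh_of_isFinLocFree hE)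

end Groth.Agent.SBBundle.InsepType
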