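import Groth.Agent.SBBundle.PicPn
import Mathlib.Algebra.Polynomial.Laurent

/-!
# The two charts of the projective line over a field
-/

set_option autoImplicit false
set_option backward.isDefEq.respectTransparency false
set_option backward.isDefEq.respectTransparency.types false
set_option linter.style.haveILetI false
set_option linter.unusedSectionVars false

universe u

open CategoryTheory CategoryTheory.Limits AlgebraicGeometry TopologicalSpace Opposite
open LaurentPolynomial (T)
open Polynomial (toLaurent)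

noncomputable section

namespace Groth.Agent.SBBundle.P1Chart

open Groth.Agent.AModX Groth.Agent.SBBundle.PicPn

attribute [local instance] MvPolynomial.gradedAlgebra

variable {K : Type u} [Field K]

local notation "𝒜" => MvPolynomial.homogeneousSubmodule (Fin (1 + 1)) K

local notation "δ" => PicPn.ex (m := 1)

/-- The second coordinate of an exponent. -/
def expHom : PnCoh.Expo (Fin (1 + 1)) →+ ℤ where
  toFun e := e 1
  map_zero' := rfl
  map_add' _ _ := rfl

/-- Dehomogenisation of Laurent polynomials. -/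
def deh : PnCoh.Laur (Fin (1 + 1)) K →+* LaurentPolynomial K :=
  AddMonoidAlgebra.mapDomainRingHom K expHom

theorem deh_single (e : PnCoh.Expo (Fin (1 + 1))) (c : K) :
    deh (AddMonoidAlgebra.single e c) = AddMonoidAlgebra.single (e 1) c :=
  AddMonoidAlgebra.mapDomain_single ..

theorem supp_eq {s : Set (Fin (1 + 1))} {e e' : PnCoh.Expo (Fin (1 + 1))} (h : e ∈ PnCoh.supp s)
    (h' : e' ∈ PnCoh.supp s) (h1 : e 1 = e' 1) : e = e' := by
  have hd := h.1
  have hd' := h'.1
  rw [Finsupp.sum_fintype _ _ fun _ => rfl, Fin.sum_univ_two] at hd hd'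
  ext i
  fin_cases i
  · show e 0 = e' 0
    omega
  · exact h1

theorem coeff_deh {s : Set (Fin (1 + 1))} {p : PnCoh.Laur (Fin (1 + 1)) K}
    (hp : p ∈ AddMonoidAlgebra.supported K K (PnCoh.supp s)) {e : PnCoh.Expo (Fin (1 + 1))}
    (he : e ∈ PnCoh.supp s) : (deh p).coeff (e 1) = p.coeff e := by
  classical
  show Finsupp.mapDomain (fun e : PnCoh.Expo (Fin (1 + 1)) => e 1) p.coeff (e 1) = p.coeff e
  exact Finsupp.mapDomain_apply' (PnCoh.supp s) p.coeff
    (AddMonoidAlgebra.mem_supported.1 hp) (fun _ h _ h' h1 => supp_eq h h' h1) he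

/-- Functions on the intersection as Laurent polynomials in `x₁ / x₀`. -/
def ov : Γ(Proj 𝒜, U (K := K) 0 ⊓ U 1) →+* LaurentPolynomial K := deh.comp (toL 0 1)

theorem ov_injective : Function.Injective (ov (K := K)) := by
  intro a b h
  refine toL_injective 0 1 (AddMonoidAlgebra.coeff_injective (Finsupp.ext fun e => ?_))
  by_cases he : e ∈ PnCoh.supp ({0, 1} : Set (Fin (1 + 1)))
  · rw [← coeff_deh (toL_mem 0 1 a) he, ← coeff_deh (toL_mem 0 1 b) he]
    exact congrArg (fun q : LaurentPolynomial K => q.coeff (e 1)) h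
  · rw [AddMonoidAlgebra.mem_supported'.1 (toL_mem 0 1 a) e he,
      AddMonoidAlgebra.mem_supported'.1 (toL_mem 0 1 b) e he]

/-- The orientation of the charts. -/
def turn : Fin (1 + 1) → (LaurentPolynomial K →+* LaurentPolynomial K) :=
  ![RingHom.id _, (LaurentPolynomial.invert (R := K)).toAlgHom.toRingHom]

theorem turn_injective (i : Fin (1 + 1)) : Function.Injective (turn (K := K) i) := by
  fin_cases i
  · exact fun a b h => h
  · exact (LaurentPolynomial.invert (R := K)).injective

theorem inf_le (i : Fin (1 + 1)) : U (K := K) 0 ⊓ U 1 ≤ U i := by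
  fin_cases i
  · exact inf_le_left
  · exact inf_le_right

/-- Functions on a chart as Laurent polynomials. -/
def chi (i : Fin (1 + 1)) : Γ(Proj 𝒜, U (K := K) i) →+* LaurentPolynomial K :=
  (turn i).comp (ov.comp (resR (inf_le i)))

theorem toL_resR (i : Fin (1 + 1)) (a : Γ(Proj 𝒜, U (K := K) i)) :
    toL 0 1 (resR (inf_le i) a) = PnCoh.secL (δ i) (fun h => by simpa using DFunLike.congr_fun h i) a := by
  have hne : δ i ≠ 0 := fun h => by simpa using DFunLike.congr_fun h i
  have hgh : δ 0 + δ 1 = δ i + δ (1 - i) := by fin_cases i <;> simp [add_comm]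
  have hle : PnCoh.mOpen K (δ 0 + δ 1) ≤ U (K := K) i := (U_inf 0 1).ge.trans (inf_le i)
  have h := PnCoh.secL_res (R := K) (g := δ i) (g' := δ 0 + δ 1) (δ (1 - i)) hgh hne (sum_ne_zero 0 1) (homOfLE hle) a
  show PnCoh.secL (δ 0 + δ 1) (sum_ne_zero 0 1) (resR (U_inf 0 1).ge (resR (inf_le i) a)) = _
  rw [resR_resR]
  exact h

theorem chi_injective (i : Fin (1 + 1)) : Function.Injective (chi (K := K) i) := by
  intro a b h
  have h1 : toL 0 1 (resR (inf_le i) a) = toL 0 1 (resR (inf_le i) b) :=
    congrArg (toL 0 1) (ov_injective (turn_injective i h))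
  rw [toL_resR, toL_resR] at h1
  exact PnCoh.secL_injective _ _ h1

theorem chi_eq (i : Fin (1 + 1)) (a : Γ(Proj 𝒜, U (K := K) i)) :
    chi i a = turn i (deh (PnCoh.secL (δ i) (fun h => by simpa using DFunLike.congr_fun h i) a)) :=
  congrArg (fun p => turn i (deh p)) (toL_resR i a)

/-- The exponent of `Tⁿ` on a chart. -/
def expOf (i : Fin (1 + 1)) (n : ℕ) : PnCoh.Expo (Fin (1 + 1)) :=
  n • (PnCoh.castExpo _ (δ (1 - i)) - PnCoh.castExpo _ (δ i))

theorem turn_deh_expOf (i : Fin (1 + 1)) (n : ℕ) (c : K) :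
    turn i (deh (AddMonoidAlgebra.single (expOf i n) c)) = toLaurent (Polynomial.monomial n c) := by
  rw [deh_single, ← Polynomial.C_mul_X_pow_eq_monomial, Polynomial.toLaurent_C_mul_X_pow,
    ← LaurentPolynomial.single_eq_C_mul_T]
  fin_cases i
  · simp [turn, expOf, PnCoh.castExpo_apply]
  · simp [turn, expOf, PnCoh.castExpo_apply, LaurentPolynomial.single_eq_C_mul_T]

theorem expOf_mem (i : Fin (1 + 1)) (n : ℕ) :
    expOf i n ∈ PnCoh.supp (((δ i).support : Finset (Fin (1 + 1))) : Set (Fin (1 + 1))) := by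
  refine ⟨?_, fun l hl => ?_⟩
  · rw [Finsupp.sum_fintype _ _ fun _ => rfl, Fin.sum_univ_two]
    fin_cases i <;> simp [expOf, PnCoh.castExpo_apply]
  · fin_cases i <;> fin_cases l <;> simp [expOf, PnCoh.castExpo_apply] at hl ⊢ <;> omega

theorem range_chi (i : Fin (1 + 1)) :
    (chi (K := K) i).range = (toLaurent : Polynomial K →+* LaurentPolynomial K).range := by
  have hne : δ i ≠ 0 := fun h => by simpa using DFunLike.congr_fun h i
  refine le_antisymm ?_ ?_
  · rintro _ ⟨a, rfl⟩
    rw [chi_eq]
    let p := PnCoh.secL (δ i) hne a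
    show turn i (deh p) ∈ _
    have hp : p = ∑ e ∈ p.coeff.support, AddMonoidAlgebra.single e (p.coeff e) := by
      conv_lhs => rw [← AddMonoidAlgebra.sum_coeff_single p]
      rfl
    rw [hp, map_sum, map_sum]
    refine Subring.sum_mem _ fun e he => ?_
    have hes := AddMonoidAlgebra.mem_supported.1 (PnCoh.secL_mem (δ i) hne a) he
    obtain ⟨hd, hneg⟩ := hes
    rw [Finsupp.sum_fintype _ _ fun _ => rfl, Fin.sum_univ_two] at hd
    have h0 : 0 ≤ e (1 - i) := by
      by_contra hlt
      have := hneg (1 - i) (by omega)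
      fin_cases i <;> simp at this
    obtain ⟨n, hn⟩ := Int.eq_ofNat_of_zero_le h0
    have hen : e = expOf i n := by
      ext l
      fin_cases i <;> fin_cases l <;> simp [expOf, PnCoh.castExpo_apply] at hn ⊢ <;> omega
    exact ⟨Polynomial.monomial n (p.coeff e), by rw [← turn_deh_expOf i n (p.coeff e), ← hen]⟩
  · rintro _ ⟨q, rfl⟩
    induction q using Polynomial.induction_on' with
    | add p q hp hq => rw [map_add]; exact Subring.add_mem _ hp hq
    | monomial n c =>
      obtain ⟨a, ha⟩ := PnCoh.exists_secL_eq (R := K) (δ i) hne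
        (p := AddMonoidAlgebra.single (expOf i n) c) (by
          refine AddMonoidAlgebra.mem_supported'.2 fun e he => ?_
          rw [AddMonoidAlgebra.coeff_single, Finsupp.single_apply, if_neg]
          rintro rfl
          exact he (expOf_mem i n))
      exact ⟨a, by rw [chi_eq, ha]; exact turn_deh_expOf i n c⟩

/-- The functions on a chart are the polynomials in one variable. -/
def polyEquiv (i : Fin (1 + 1)) : Polynomial K ≃+* Γ(Proj 𝒜, U (K := K) i) :=
  ((RingEquiv.ofBijective (toLaurent : Polynomial K →+* LaurentPolynomial K).rangeRestrict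
      ⟨fun a b h => Polynomial.toLaurent_injective (congrArg Subtype.val h),
        RingHom.rangeRestrict_surjective _⟩).trans
    (RingEquiv.subringCongr (range_chi i).symm)).trans
    (RingEquiv.ofBijective (chi (K := K) i).rangeRestrict
      ⟨fun a b h => chi_injective i (congrArg Subtype.val h), RingHom.rangeRestrict_surjective _⟩).symm

theorem chi_polyEquiv (i : Fin (1 + 1)) (p : Polynomial K) : chi i (polyEquiv i p) = toLaurent p := by
  let Eχ := RingEquiv.ofBijective (chi (K := K) i).rangeRestrict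
      ⟨fun a b h => chi_injective i (congrArg Subtype.val h), RingHom.rangeRestrict_surjective _⟩
  show (Eχ (Eχ.symm _)).1 = _
  rw [Eχ.apply_symm_apply]
  rfl

theorem ov_polyEquiv_zero (p : Polynomial K) :
    ov (resR (inf_le 0) (polyEquiv 0 p)) = toLaurent p := chi_polyEquiv 0 p

theorem ov_polyEquiv_one (p : Polynomial K) :
    ov (resR (inf_le 1) (polyEquiv 1 p)) = LaurentPolynomial.invert (toLaurent p) := by
  have h := chi_polyEquiv (K := K) 1 p
  rw [← h]
  exact (LaurentPolynomial.invert_symm (R := K) ▸ LaurentPolynomial.invert.symm_apply_apply _).symm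

theorem isDomain_sections (i : Fin (1 + 1)) : IsDomain Γ(Proj 𝒜, U (K := K) i) :=
  (polyEquiv i).toMulEquiv.symm.isDomain _

theorem isPrincipalIdealRing_sections (i : Fin (1 + 1)) :
    IsPrincipalIdealRing Γ(Proj 𝒜, U (K := K) i) :=
  IsPrincipalIdealRing.of_surjective (polyEquiv i).toRingHom (polyEquiv i).surjective

/-- The transition function of a twisting sheaf. -/
theorem exists_twFrame_ov (d : ℤ) :
    ∃ g : Γ(Proj 𝒜, U (K := K) 0 ⊓ U 1), ov g = T (-d) ∧
      res (Twist.twist 𝒜 d) (inf_le_left : U (K := K) 0 ⊓ U 1 ≤ U 0) (twFrame d 0) =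
        g • res (Twist.twist 𝒜 d) inf_le_right (twFrame (K := K) d 1) := by
  obtain ⟨g, hg, h⟩ := exists_twFrame_change (K := K) (m := 1) d 0 1
  refine ⟨g, ?_, h⟩
  show deh (toL 0 1 g) = _
  rw [hg, deh_single, LaurentPolynomial.T]
  simp [PnCoh.castExpo_apply, -LaurentPolynomial.single_eq_C_mul_T]

end Groth.Agent.SBBundle.P1Chart
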