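import Groth.Agent.SBBundle.StalkSub
import Groth.Agent.CurveBC.Coh

/-!
# Stalks of pullbacks of submodules of free modules
-/

set_option autoImplicit false
set_option backward.isDefEq.respectTransparency false
set_option backward.isDefEq.respectTransparency.types false
set_option linter.unusedSectionVars false

universe u

open CategoryTheory CategoryTheory.Limits AlgebraicGeometry TopologicalSpace Opposite
open scoped TensorProduct

noncomputable section

namespace Groth.Agent.SBBundle

variable {X Y : Scheme.{u}} (g : Y ⟶ X) {M M' : X.Modules}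

/-- The pullback of a section. -/
def pbSec {U : X.Opens} (m : Γ(M, U)) : Γ((Scheme.Modules.pullback g).obj M, g ⁻¹ᵁ U) :=
  ((Scheme.Modules.pullbackPushforwardAdjunction g).unit.app M).app U m

theorem pbSec_naturality (φ : M ⟶ M') {U : X.Opens} (m : Γ(M, U)) :
    pbSec g (φ.app U m) = ((Scheme.Modules.pullback g).map φ).app (g ⁻¹ᵁ U) (pbSec g m) :=
  congrArg (fun t => Scheme.Modules.Hom.app t U m)
    ((Scheme.Modules.pullbackPushforwardAdjunction g).unit.naturality φ)

theorem pbSec_unitIso {U : X.Opens} (m : Γ(X, U)) :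
    (CurveBC.unitIso g).hom.app (g ⁻¹ᵁ U) (pbSec g (M := Coh.structureModule X) m) = g.app U m := by
  have h : (Scheme.Modules.pullbackPushforwardAdjunction g).unit.app (Coh.structureModule X) ≫
      (Scheme.Modules.pushforward g).map (CurveBC.unitIso g).hom =
        SheafOfModules.unitToPushforwardObjUnit g.toRingCatSheafHom :=
    (Adjunction.homEquiv_unit (Scheme.Modules.pullbackPushforwardAdjunction g) _ _ _).symm.trans
      (SheafOfModules.pullbackPushforwardAdjunction_homEquiv_pullbackObjUnitToUnit g.toRingCatSheafHom)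
  exact congrArg (fun t : Coh.structureModule X ⟶ (Scheme.Modules.pushforward g).obj (Coh.structureModule Y) =>
    t.app U m) h

variable (y : Y)

/-- The map of stalks to a pullback. -/
def pullStk (M : X.Modules) (v : M.presheaf.stalk (g.base y)) :
    ((Scheme.Modules.pullback g).obj M).presheaf.stalk y :=
  (KFlatLib.stalkPullbackIso g y).inv.app M
    ((ModuleCat.extendRestrictScalarsAdj (g.stalkMap y).hom).unit.app
      ((DerSch.stalkFunctor X (g.base y)).obj M) v)

theorem pullStk_germ (U : X.Opens) (hy : g.base y ∈ U) (m : Γ(M, U)) :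
    pullStk g y M (M.presheaf.germ U (g.base y) hy m) =
      ((Scheme.Modules.pullback g).obj M).presheaf.germ (g ⁻¹ᵁ U) y hy (pbSec g m) :=
  (congrArg _ (KFlatLib.stalkPullbackIso_gm g y M U hy m).symm).trans
    (Iso.hom_inv_id_apply ((KFlatLib.stalkPullbackIso g y).app M) _)

theorem pullStk_add (v w : M.presheaf.stalk (g.base y)) :
    pullStk g y M (v + w) = pullStk g y M v + pullStk g y M w :=
  (congrArg _ (map_add ((ModuleCat.extendRestrictScalarsAdj (g.stalkMap y).hom).unit.app
    ((DerSch.stalkFunctor X (g.base y)).obj M)).hom v w)).trans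
      (map_add ((KFlatLib.stalkPullbackIso g y).inv.app M).hom _ _)

theorem pullStk_zero : pullStk g y M 0 = 0 :=
  (congrArg _ (map_zero ((ModuleCat.extendRestrictScalarsAdj (g.stalkMap y).hom).unit.app
    ((DerSch.stalkFunctor X (g.base y)).obj M)).hom)).trans
      (map_zero ((KFlatLib.stalkPullbackIso g y).inv.app M).hom)

theorem pullStk_smul (a : X.presheaf.stalk (g.base y)) (v : M.presheaf.stalk (g.base y)) :
    pullStk g y M (a • v) = g.stalkMap y a • pullStk g y M v :=
  (congrArg _ (map_smul ((ModuleCat.extendRestrictScalarsAdj (g.stalkMap y).hom).unit.app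
    ((DerSch.stalkFunctor X (g.base y)).obj M)).hom a v)).trans
      (map_smul ((KFlatLib.stalkPullbackIso g y).inv.app M).hom (g.stalkMap y a) _)

theorem span_range_pullStk (M : X.Modules) :
    Submodule.span (Y.presheaf.stalk y) (Set.range (pullStk g y M)) = ⊤ := by
  let P := Submodule.span (Y.presheaf.stalk y) (Set.range (pullStk g y M))
  let q : (DerSch.stalkFunctor Y y).obj ((Scheme.Modules.pullback g).obj M) ⟶
      ModuleCat.of (Y.presheaf.stalk y) (((Scheme.Modules.pullback g).obj M).presheaf.stalk y ⧸ P) :=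
    ModuleCat.ofHom P.mkQ
  have h0 : (KFlatLib.stalkPullbackIso g y).inv.app M ≫ q = 0 := by
    refine ((ModuleCat.extendRestrictScalarsAdj (g.stalkMap y).hom).homEquiv _ _).injective ?_
    rw [Adjunction.homEquiv_unit, Adjunction.homEquiv_unit]
    refine ModuleCat.hom_ext (LinearMap.ext fun v => ?_)
    show P.mkQ (pullStk g y M v) = 0
    exact (Submodule.Quotient.mk_eq_zero P).2 (Submodule.subset_span ⟨v, rfl⟩)
  refine top_unique fun w _ => (Submodule.Quotient.mk_eq_zero P).1 ?_
  have := ConcreteCategory.congr_hom h0 ((KFlatLib.stalkPullbackIso g y).hom.app M w)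
  refine Eq.trans ?_ this
  exact congrArg q (Iso.hom_inv_id_apply ((KFlatLib.stalkPullbackIso g y).app M) w).symm

theorem stk_pullStk (φ : M ⟶ M') (v : M.presheaf.stalk (g.base y)) :
    stk ((Scheme.Modules.pullback g).map φ) y (pullStk g y M v) = pullStk g y M' (stk φ (g.base y) v) := by
  obtain ⟨U, hy, m, rfl⟩ := TopCat.Presheaf.exists_germ_eq M.presheaf v
  rw [pullStk_germ, stk_germ, stk_germ, pullStk_germ, pbSec_naturality]

/-- Pullback preserves split injectivity on stalks. -/
theorem stk_pullback_injective (φ : M ⟶ M')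
    (h : ∃ r : M'.presheaf.stalk (g.base y) →ₗ[X.presheaf.stalk (g.base y)] M.presheaf.stalk (g.base y),
      r.comp (stk φ (g.base y)) = LinearMap.id) :
    Function.Injective (stk ((Scheme.Modules.pullback g).map φ) y) := by
  obtain ⟨r, hr⟩ := h
  let r' : (DerSch.stalkFunctor X (g.base y)).obj M' ⟶ (DerSch.stalkFunctor X (g.base y)).obj M :=
    ModuleCat.ofHom r
  have hsplit : (DerSch.stalkFunctor X (g.base y)).map φ ≫ r' = 𝟙 _ :=
    ModuleCat.hom_ext hr
  let T := (KFlatLib.stalkPullbackIso g y).hom
  intro a c hac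
  have hn := fun z => ConcreteCategory.congr_hom (T.naturality φ) z
  have h1 : (ModuleCat.extendScalars (g.stalkMap y).hom).map ((DerSch.stalkFunctor X (g.base y)).map φ) (T.app M a) =
      (ModuleCat.extendScalars (g.stalkMap y).hom).map ((DerSch.stalkFunctor X (g.base y)).map φ) (T.app M c) :=
    ((hn a).symm.trans (congrArg (T.app M') hac)).trans (hn c)
  have h2 := congrArg ((ModuleCat.extendScalars (g.stalkMap y).hom).map r') h1
  have h3 : ∀ z, (ModuleCat.extendScalars (g.stalkMap y).hom).map r'
      ((ModuleCat.extendScalars (g.stalkMap y).hom).map ((DerSch.stalkFunctor X (g.base y)).map φ) z) = z :=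
    fun z => ConcreteCategory.congr_hom
      (((ModuleCat.extendScalars (g.stalkMap y).hom).map_comp _ _).symm.trans
        ((congrArg _ hsplit).trans ((ModuleCat.extendScalars (g.stalkMap y).hom).map_id _))) z
  rw [h3, h3] at h2
  exact ((KFlatLib.stalkPullbackIso g y).app M).toLinearEquiv.injective h2

/-- The image of the stalk of a pullback. -/
theorem range_stk_pullback (φ : M ⟶ M') :
    LinearMap.range (stk ((Scheme.Modules.pullback g).map φ) y) =
      Submodule.span (Y.presheaf.stalk y)
        (pullStk g y M' '' (LinearMap.range (stk φ (g.base y)) : Set _)) := by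
  rw [LinearMap.range_eq_map, ← span_range_pullStk g y M, Submodule.map_span, ← Set.range_comp,
    LinearMap.coe_range, ← Set.range_comp]
  exact congrArg _ (congrArg Set.range (funext fun v => stk_pullStk g y φ v))

variable {N : ℕ}

/-- The pullback of a free decomposition. -/
def pullFree {G : X.Modules} (d : ASBunK.Dec G (fun _ : Fin N => Coh.structureModule X)) :
    ASBunK.Dec ((Scheme.Modules.pullback g).obj G) (fun _ : Fin N => Coh.structureModule Y) :=
  (d.map (Scheme.Modules.pullback g)).mapIso fun _ => CurveBC.unitIso g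

theorem pullStk_stkVec {G : X.Modules} (d : ASBunK.Dec G (fun _ : Fin N => Coh.structureModule X))
    (c : Fin N → X.presheaf.stalk (g.base y)) :
    pullStk g y G (stkVec d (g.base y) c) = stkVec (pullFree g d) y (fun i => g.stalkMap y (c i)) := by
  obtain ⟨U, hy, a, rfl⟩ := exists_germ_vec (g.base y) c
  rw [stkVec_germ, pullStk_germ]
  have h : (fun i => g.stalkMap y (X.presheaf.germ U (g.base y) hy (a i))) =
      fun i => Y.presheaf.germ (g ⁻¹ᵁ U) y hy (g.app U (a i)) :=
    funext fun i => g.germ_stalkMap_apply U y hy (a i)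
  rw [h, stkVec_germ]
  refine congrArg _ ?_
  have h2 : ∀ i, g.app U (a i) = crdOf (pullFree g d) (g ⁻¹ᵁ U) (pbSec g (secOf d U a)) i := fun i => by
    refine Eq.trans ?_ (congrArg ((CurveBC.unitIso g).hom.app (g ⁻¹ᵁ U))
      (pbSec_naturality g (d.π i) (secOf d U a)))
    rw [show (d.π i).app U (secOf d U a) = a i from congrFun (crdOf_secOf d U a) i]
    exact (pbSec_unitIso g (a i)).symm
  rw [show (fun i => g.app U (a i)) = crdOf (pullFree g d) (g ⁻¹ᵁ U) (pbSec g (secOf d U a)) from funext h2,
    secOf_crdOf]

end Groth.Agent.SBBundle
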