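import Groth.Agent.SBBundle.Form
import Groth.Agent.SBBundle.Pull
import Groth.Agent.SBBundle.TwType

/-!
# The tautological bundle becomes a power of `O(-1)` over a splitting field
-/

set_option autoImplicit false
set_option backward.isDefEq.respectTransparency false
set_option backward.isDefEq.respectTransparency.types false
set_option linter.style.haveILetI false
set_option linter.unusedSectionVars false

universe u

open CategoryTheory CategoryTheory.Limits AlgebraicGeometry TopologicalSpace Opposite Matrix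
open scoped TensorProduct

noncomputable section

namespace Groth.Agent.SBBundle

variable {k : Type u} [Field k] {K : Type u} [Field K] [Algebra k K] {X : Scheme.{u}}
  [X.Over (Spec (CommRingCat.of k))] {m : ℕ} (e : BrSev.Splitting (X ↘ Spec (CommRingCat.of k)) K m)

/-- The projection from projective space. -/
def gP : CohB1.ProjSpace m K ⟶ X := e.iso.inv ≫ BrSev.proj (X ↘ Spec (CommRingCat.of k)) K

theorem iso_inv_bcTo : e.iso.inv ≫ BrSev.bcTo (X ↘ Spec (CommRingCat.of k)) K = CohB1.ProjSpace.toSpec m K := by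
  rw [← e.comm, Iso.inv_hom_id_assoc]

theorem gP_over : gP e ≫ (X ↘ Spec (CommRingCat.of k)) =
    CohB1.ProjSpace.toSpec m K ≫ Spec.map (CommRingCat.ofHom (algebraMap k K)) := by
  rw [gP, Category.assoc, pullback.condition, ← Category.assoc, iso_inv_bcTo]

section Points

variable {R : Type u} [CommRing R] [Algebra K R]

theorem spec_baseAlg :
    Spec.map (CommRingCat.ofHom (algebraMap K R)) ≫ Spec.map (CommRingCat.ofHom (algebraMap k K)) =
      Spec.map (CommRingCat.ofHom ((SBAut.baseAlg (k := k) (K := K) R).algebraMap)) := by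
  rw [← Spec.map_comp]
  rfl

/-- The point of `X` given by a vector. -/
def vecToPt (i : Fin (m + 1)) (v : Fin (m + 1) → R) (h : IsUnit (v i)) :
    letI := SBAut.baseAlg (k := k) (K := K) R
    BrSev.Pts (X ↘ Spec (CommRingCat.of k)) R :=
  letI := SBAut.baseAlg (k := k) (K := K) R
  ⟨PV.ptVec K i v h ≫ gP e, by
    rw [Category.assoc, gP_over, ← Category.assoc, PV.ptVec_toSpec, spec_baseAlg]⟩

theorem pts_condition (g : letI := SBAut.baseAlg (k := k) (K := K) R
    BrSev.Pts (X ↘ Spec (CommRingCat.of k)) R) :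
    g.1 ≫ (X ↘ Spec (CommRingCat.of k)) =
      Spec.map (CommRingCat.ofHom (algebraMap K R)) ≫ Spec.map (CommRingCat.ofHom (algebraMap k K)) := by
  letI := SBAut.baseAlg (k := k) (K := K) R
  rw [g.2, spec_baseAlg]

/-- The point of projective space given by a point of `X`. -/
def ptToProj (g : letI := SBAut.baseAlg (k := k) (K := K) R
    BrSev.Pts (X ↘ Spec (CommRingCat.of k)) R) : Spec (CommRingCat.of R) ⟶ CohB1.ProjSpace m K :=
  pullback.lift g.1 (Spec.map (CommRingCat.ofHom (algebraMap K R))) (pts_condition g) ≫ e.iso.hom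

theorem ptToProj_toSpec (g : letI := SBAut.baseAlg (k := k) (K := K) R
    BrSev.Pts (X ↘ Spec (CommRingCat.of k)) R) :
    ptToProj e g ≫ CohB1.ProjSpace.toSpec m K = Spec.map (CommRingCat.ofHom (algebraMap K R)) := by
  rw [ptToProj, Category.assoc, e.comm, pullback.lift_snd]

theorem ptToProj_vecToPt (i : Fin (m + 1)) (v : Fin (m + 1) → R) (h : IsUnit (v i)) :
    ptToProj e (vecToPt e i v h) = PV.ptVec K i v h := by
  rw [ptToProj, ← Iso.eq_comp_inv]
  refine pullback.hom_ext ?_ ?_
  · rw [pullback.lift_fst]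
    exact (Category.assoc _ _ _).symm
  · rw [pullback.lift_snd, Category.assoc]
    erw [iso_inv_bcTo, PV.ptVec_toSpec]

theorem ptToProj_map {S : Type u} [CommRing S] [Algebra K S] (φ : R →ₐ[K] S)
    (g : letI := SBAut.baseAlg (k := k) (K := K) R
      BrSev.Pts (X ↘ Spec (CommRingCat.of k)) R)
    (g' : letI := SBAut.baseAlg (k := k) (K := K) S
      BrSev.Pts (X ↘ Spec (CommRingCat.of k)) S)
    (hg : g'.1 = Spec.map (CommRingCat.ofHom (φ : R →+* S)) ≫ g.1) :
    ptToProj e g' = Spec.map (CommRingCat.ofHom (φ : R →+* S)) ≫ ptToProj e g := by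
  rw [ptToProj, ptToProj, ← Category.assoc]
  refine congrArg (· ≫ e.iso.hom) (pullback.hom_ext ?_ ?_)
  · rw [pullback.lift_fst, Category.assoc, pullback.lift_fst, hg]
  · rw [pullback.lift_snd, Category.assoc, pullback.lift_snd, ← Spec.map_comp, ← CommRingCat.ofHom_comp,
      φ.comp_algebraMap]

end Points

variable {A : Type u} [Ring A] [Algebra k A]
  (s : BrSev.SBStr k A ((m + 1) * (m + 1) - (m + 1)) (X ↘ Spec (CommRingCat.of k)))
  (Φ : K ⊗[k] A ≃ₐ[K] Matrix (Fin (m + 1)) (Fin (m + 1)) K) (hA : Module.finrank k A = (m + 1) * (m + 1))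

section NatMaps

variable (R : Type u) [CommRing R] [IsLocalRing R] [Algebra K R]

/-- Vectors to ideals. -/
def fwdVec (v : Fin (m + 1) → R) (hv : SBAut.IsUni v) : Fin (m + 1) → R :=
  letI := SBAut.baseAlg (k := k) (K := K) R
  haveI := SBAut.baseAlg_tower (k := k) (K := K) R
  (SBAut.exists_vecPt Φ hA (Nat.succ_pos m)
    (s.bij R (vecToPt e hv.exists_isUnit.choose v hv.exists_isUnit.choose_spec))).choose

theorem fwdVec_spec (v : Fin (m + 1) → R) (i : Fin (m + 1)) (h : IsUnit (v i)) :
    letI := SBAut.baseAlg (k := k) (K := K) R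
    haveI := SBAut.baseAlg_tower (k := k) (K := K) R
    ∃ hu : SBAut.IsUni (fwdVec e s Φ hA R v (SBAut.isUni_of_isUnit h)),
      SBAut.vecPt Φ hA (Nat.succ_pos m) _ hu = s.bij R (vecToPt e i v h) := by
  letI := SBAut.baseAlg (k := k) (K := K) R
  haveI := SBAut.baseAlg_tower (k := k) (K := K) R
  have he : vecToPt e i v h = vecToPt e (SBAut.isUni_of_isUnit h).exists_isUnit.choose v
      (SBAut.isUni_of_isUnit h).exists_isUnit.choose_spec :=
    Subtype.ext (congrArg (· ≫ gP e) (PV.ptVec_chart i _ v h _))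
  rw [he]
  exact (SBAut.exists_vecPt Φ hA (Nat.succ_pos m) _).choose_spec

/-- Ideals to vectors. -/
def bwdVec (w : Fin (m + 1) → R) (hw : SBAut.IsUni w) : Fin (m + 1) → R :=
  letI := SBAut.baseAlg (k := k) (K := K) R
  haveI := SBAut.baseAlg_tower (k := k) (K := K) R
  (PV.exists_ptVec' (ptToProj e ((s.bij R).symm (SBAut.vecPt Φ hA (Nat.succ_pos m) w hw)))
    (ptToProj_toSpec e _)).choose

theorem bwdVec_spec (w : Fin (m + 1) → R) (hw : SBAut.IsUni w) :
    letI := SBAut.baseAlg (k := k) (K := K) R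
    haveI := SBAut.baseAlg_tower (k := k) (K := K) R
    ∃ (i : Fin (m + 1)) (h : IsUnit (bwdVec e s Φ hA R w hw i)),
      PV.ptVec K i (bwdVec e s Φ hA R w hw) h =
        ptToProj e ((s.bij R).symm (SBAut.vecPt Φ hA (Nat.succ_pos m) w hw)) := by
  letI := SBAut.baseAlg (k := k) (K := K) R
  haveI := SBAut.baseAlg_tower (k := k) (K := K) R
  exact (PV.exists_ptVec' (ptToProj e ((s.bij R).symm (SBAut.vecPt Φ hA (Nat.succ_pos m) w hw)))
    (ptToProj_toSpec e _)).choose_spec

end NatMaps

theorem ptVec_eq_of_rel {R : Type u} [CommRing R] [Algebra K R] {i l : Fin (m + 1)} {v w : Fin (m + 1) → R}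
    (h : IsUnit (v i)) (h' : IsUnit (w l)) (hr : SBAut.Rel v w) : PV.ptVec K i v h = PV.ptVec K l w h' := by
  have hu : IsUnit (v i * w l) := h.mul h'
  rw [hr i l] at hu
  have hwi : IsUnit (w i) := (IsUnit.mul_iff.1 hu).2
  rw [PV.ptVec_chart l i w h' hwi]
  exact PV.ptVec_congr i h hwi hr

open Classical in
/-- The natural map from coordinates to ideals. -/
def fwd : SBAut.NatMap K (m + 1) where
  app R _ _ _ v := if hv : SBAut.IsUni v then fwdVec e s Φ hA R v hv else v
  uni R _ _ _ v hv := by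
    rw [dif_pos hv]
    obtain ⟨i, h⟩ := hv.exists_isUnit
    exact (fwdVec_spec e s Φ hA R v i h).1
  rel R _ _ _ v v' hv hv' hr := by
    rw [dif_pos hv, dif_pos hv']
    obtain ⟨i, h⟩ := hv.exists_isUnit
    obtain ⟨i', h'⟩ := hv'.exists_isUnit
    letI := SBAut.baseAlg (k := k) (K := K) R
    haveI := SBAut.baseAlg_tower (k := k) (K := K) R
    obtain ⟨h1, e1⟩ := fwdVec_spec e s Φ hA R v i h
    obtain ⟨h2, e2⟩ := fwdVec_spec e s Φ hA R v' i' h'
    refine (SBAut.vecPt_eq_iff Φ hA (Nat.succ_pos m) h1 h2).1 ?_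
    rw [e1, e2]
    exact congrArg _ (Subtype.ext (congrArg (· ≫ gP e) (ptVec_eq_of_rel h h' hr)))
  nat R S _ _ _ _ _ _ φ v hv := by
    rw [dif_pos (hv.map φ), dif_pos hv]
    obtain ⟨i, h⟩ := hv.exists_isUnit
    letI := SBAut.baseAlg (k := k) (K := K) R
    haveI := SBAut.baseAlg_tower (k := k) (K := K) R
    letI := SBAut.baseAlg (k := k) (K := K) S
    haveI := SBAut.baseAlg_tower (k := k) (K := K) S
    obtain ⟨h1, e1⟩ := fwdVec_spec e s Φ hA R v i h
    obtain ⟨h2, e2⟩ := fwdVec_spec e s Φ hA S (φ ∘ v) i (h.map φ)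
    refine (SBAut.vecPt_eq_iff Φ hA (Nat.succ_pos m) h2 (h1.map φ)).1 ?_
    rw [e2, ← SBAut.sbMap_vecPt Φ hA (Nat.succ_pos m) φ h1, e1, ← SBAut.bij_map]
    refine congrArg _ (Subtype.ext ?_)
    show PV.ptVec K i (φ ∘ v) _ ≫ gP e = Spec.map (CommRingCat.ofHom (φ : R →+* S)) ≫ PV.ptVec K i v h ≫ gP e
    rw [← Category.assoc, PV.ptVec_map φ i v h]

open Classical in
/-- The natural map from ideals to coordinates. -/
def bwd : SBAut.NatMap K (m + 1) where
  app R _ _ _ v := if hv : SBAut.IsUni v then bwdVec e s Φ hA R v hv else v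
  uni R _ _ _ v hv := by
    rw [dif_pos hv]
    obtain ⟨i, h, -⟩ := bwdVec_spec e s Φ hA R v hv
    exact SBAut.isUni_of_isUnit h
  rel R _ _ _ v v' hv hv' hr := by
    rw [dif_pos hv, dif_pos hv']
    letI := SBAut.baseAlg (k := k) (K := K) R
    haveI := SBAut.baseAlg_tower (k := k) (K := K) R
    obtain ⟨i, h, e1⟩ := bwdVec_spec e s Φ hA R v hv
    obtain ⟨i', h', e2⟩ := bwdVec_spec e s Φ hA R v' hv'
    rw [(SBAut.vecPt_eq_iff Φ hA (Nat.succ_pos m) hv hv').2 hr, ← e2] at e1
    exact PV.rel_of_ptVec_eq e1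
  nat R S _ _ _ _ _ _ φ v hv := by
    rw [dif_pos (hv.map φ), dif_pos hv]
    letI := SBAut.baseAlg (k := k) (K := K) R
    haveI := SBAut.baseAlg_tower (k := k) (K := K) R
    letI := SBAut.baseAlg (k := k) (K := K) S
    haveI := SBAut.baseAlg_tower (k := k) (K := K) S
    obtain ⟨i, h, e1⟩ := bwdVec_spec e s Φ hA R v hv
    obtain ⟨i', h', e2⟩ := bwdVec_spec e s Φ hA S (φ ∘ v) (hv.map φ)
    rw [← SBAut.sbMap_vecPt Φ hA (Nat.succ_pos m) φ hv, SBAut.bij_symm_map] at e2
    refine PV.rel_of_ptVec_eq (h' := h.map φ) (e2.trans ?_)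
    rw [ptToProj_map e φ ((s.bij R).symm (SBAut.vecPt Φ hA (Nat.succ_pos m) v hv)) _ rfl, ← e1, PV.ptVec_map]

/-- Points of projective space in coordinates are ideals in coordinates, linearly. -/
theorem exists_linear [IsAlgClosed K] :
    ∃ M : Matrix (Fin (m + 1)) (Fin (m + 1)) K,
      ∀ (R : Type u) [CommRing R] [IsLocalRing R] [Algebra K R] (v : Fin (m + 1) → R) (i : Fin (m + 1))
        (h : IsUnit (v i)),
        letI := SBAut.baseAlg (k := k) (K := K) R
        haveI := SBAut.baseAlg_tower (k := k) (K := K) R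
        ∃ hu : SBAut.IsUni (v ᵥ* M.map (algebraMap K R)),
          SBAut.vecPt Φ hA (Nat.succ_pos m) _ hu = s.bij R (vecToPt e i v h) := by
  classical
  obtain ⟨M, hM, hG⟩ := SBAut.exists_matrix (fwd e s Φ hA) (bwd e s Φ hA) (fun R _ _ _ v hv => by
    obtain ⟨i, h⟩ := hv.exists_isUnit
    letI := SBAut.baseAlg (k := k) (K := K) R
    haveI := SBAut.baseAlg_tower (k := k) (K := K) R
    obtain ⟨h1, e1⟩ := fwdVec_spec e s Φ hA R v i h
    show SBAut.Rel ((bwd e s Φ hA).app R ((fwd e s Φ hA).app R v)) v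
    simp only [fwd, bwd, dif_pos hv, dif_pos h1]
    obtain ⟨i', h', e2⟩ := bwdVec_spec e s Φ hA R _ h1
    rw [e1, Equiv.symm_apply_apply, ptToProj_vecToPt] at e2
    exact PV.rel_of_ptVec_eq e2)
  refine ⟨M, fun R _ _ _ v i h => ?_⟩
  letI := SBAut.baseAlg (k := k) (K := K) R
  haveI := SBAut.baseAlg_tower (k := k) (K := K) R
  obtain ⟨h1, e1⟩ := fwdVec_spec e s Φ hA R v i h
  have hu : SBAut.IsUni (v ᵥ* M.map (algebraMap K R)) :=
    (SBAut.isUni_of_isUnit h).vecMul _ ((M⁻¹).map (algebraMap K R)) (by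
      rw [← Matrix.map_mul, Matrix.mul_nonsing_inv M hM,
        Matrix.map_one _ (map_zero (algebraMap K R)) (map_one (algebraMap K R))])
  refine ⟨hu, ?_⟩
  rw [← e1, SBAut.vecPt_eq_iff]
  have := hG R v (SBAut.isUni_of_isUnit h)
  simp only [fwd, dif_pos (SBAut.isUni_of_isUnit h)] at this
  exact this.symm

section Coords

variable {N : ℕ} (b : Module.Basis (Fin N) k A) (M : Matrix (Fin (m + 1)) (Fin (m + 1)) K)

/-- The linear forms describing the tautological ideal in coordinates. -/
def formOf (i : Fin (m + 1)) (l : Fin N) : MvPolynomial (Fin (m + 1)) K :=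
  ∑ a, MvPolynomial.C (∑ j, M a j * (Algebra.TensorProduct.basis K b).repr (Φ.symm (Matrix.single i j 1)) l) *
    MvPolynomial.X a

theorem formOf_mem (i : Fin (m + 1)) (l : Fin N) : formOf Φ b M i l ∈ CohB1.polyGrading m K 1 :=
  Submodule.sum_mem _ fun a _ => (MvPolynomial.isHomogeneous_X K a).C_mul _

/-- The coordinates of an element of the ideal. -/
def formVec (R : Type u) [CommRing R] [Algebra K R] (v : Fin (m + 1) → R) :
    (Fin (m + 1) → R) →ₗ[R] (Fin N → R) where
  toFun a l := ∑ i, a i * MvPolynomial.aeval v (formOf Φ b M i l)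
  map_add' a a' := funext fun l => by simp [add_mul, Finset.sum_add_distrib]
  map_smul' r a := funext fun l => by simp [Finset.mul_sum, mul_assoc]

theorem splitHom_formVec (R : Type u) [CommRing R] [Algebra K R] (v a : Fin (m + 1) → R) :
    letI := SBAut.baseAlg (k := k) (K := K) R
    haveI := SBAut.baseAlg_tower (k := k) (K := K) R
    SBAut.splitHom Φ R (vecOf b R (formVec Φ b M R v a)) = Matrix.vecMulVec a (v ᵥ* M.map (algebraMap K R)) := by
  classical
  letI := SBAut.baseAlg (k := k) (K := K) R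
  haveI := SBAut.baseAlg_tower (k := k) (K := K) R
  let φ : K →ₐ[k] R := IsScalarTower.toAlgHom k K R
  have h1 : ∀ x : K ⊗[k] A,
      vecOf b R (fun l => algebraMap K R ((Algebra.TensorProduct.basis K b).repr x l)) = SBAut.bc φ x := by
    intro x
    have hx : vecOf b K (fun l => (Algebra.TensorProduct.basis K b).repr x l) = x :=
      (Algebra.TensorProduct.basis K b).equivFun.symm_apply_apply x
    conv_rhs => rw [← hx, bc_vecOf]
    rfl
  have h2 : formVec Φ b M R v a = ∑ i, ∑ j, (a i * (v ᵥ* M.map (algebraMap K R)) j) •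
      fun l => algebraMap K R ((Algebra.TensorProduct.basis K b).repr (Φ.symm (Matrix.single i j 1)) l) := by
    funext l
    simp only [formVec, LinearMap.coe_mk, AddHom.coe_mk, Finset.sum_apply, Pi.smul_apply, smul_eq_mul,
      formOf, map_sum, map_mul, MvPolynomial.aeval_C, MvPolynomial.aeval_X, Matrix.vecMul, dotProduct,
      Matrix.map_apply, Finset.mul_sum, Finset.sum_mul]
    refine Finset.sum_congr rfl fun i _ => ?_
    rw [Finset.sum_comm]
    exact Finset.sum_congr rfl fun j _ => Finset.sum_congr rfl fun c _ => by ring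
  rw [h2]
  simp only [map_sum, map_smul, h1, φ, SBAut.splitHom_bc, AlgEquiv.apply_symm_apply, Matrix.map_single, map_one]
  conv_rhs => rw [Matrix.matrix_eq_sum_single (Matrix.vecMulVec a (v ᵥ* M.map (algebraMap K R)))]
  simp [Matrix.vecMulVec_apply]

variable (R : Type u) [CommRing R] [IsLocalRing R] [Algebra K R] (v : Fin (m + 1) → R)

theorem mem_vecPt_iff (hu : SBAut.IsUni (v ᵥ* M.map (algebraMap K R))) (c : Fin N → R) :
    letI := SBAut.baseAlg (k := k) (K := K) R
    haveI := SBAut.baseAlg_tower (k := k) (K := K) R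
    vecOf b R c ∈ (SBAut.vecPt Φ hA (Nat.succ_pos m) _ hu).1.toSubmodule ↔
      c ∈ LinearMap.range (formVec Φ b M R v) := by
  letI := SBAut.baseAlg (k := k) (K := K) R
  haveI := SBAut.baseAlg_tower (k := k) (K := K) R
  rw [SBAut.mem_vecPt]
  constructor
  · intro hc
    obtain ⟨u, hu'⟩ := hu
    refine ⟨fun i => ∑ j, u j * SBAut.splitHom Φ R (vecOf b R c) i j, ?_⟩
    refine (vecOf b R).injective ((SBAut.splitHom_bijective Φ R hA (Nat.succ_pos m)).1 ?_)
    rw [splitHom_formVec]
    exact Matrix.ext fun i j => (congrFun ((hc i).eq_smul hu') j).symm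
  · rintro ⟨a, rfl⟩ i
    rw [splitHom_formVec]
    exact SBAut.rel_of_smul_eq (c := a i) rfl

theorem formVec_injective (hu : SBAut.IsUni (v ᵥ* M.map (algebraMap K R))) :
    Function.Injective (formVec Φ b M R v) := by
  intro a a' h
  letI := SBAut.baseAlg (k := k) (K := K) R
  haveI := SBAut.baseAlg_tower (k := k) (K := K) R
  have h' := congrArg (fun c => SBAut.splitHom Φ R (vecOf b R c)) h
  simp only [splitHom_formVec] at h'
  obtain ⟨u, hu'⟩ := hu
  funext i
  calc a i = a i * ∑ j, u j * (v ᵥ* M.map (algebraMap K R)) j := by rw [hu', mul_one]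
    _ = ∑ j, u j * Matrix.vecMulVec a (v ᵥ* M.map (algebraMap K R)) i j := by
        rw [Finset.mul_sum]; exact Finset.sum_congr rfl fun j _ => by rw [Matrix.vecMulVec_apply]; ring
    _ = ∑ j, u j * Matrix.vecMulVec a' (v ᵥ* M.map (algebraMap K R)) i j := by rw [h']
    _ = a' i * ∑ j, u j * (v ᵥ* M.map (algebraMap K R)) j := by
        rw [Finset.mul_sum]; exact Finset.sum_congr rfl fun j _ => by rw [Matrix.vecMulVec_apply]; ring
    _ = a' i := by rw [hu', mul_one]

end Coords

include Φ hA in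
/-- At a point of projective space the tautological ideal is cut out by the linear forms. -/
theorem exists_ideal_forms [IsAlgClosed K] {N : ℕ} (b : Module.Basis (Fin N) k A) :
    ∃ f : Fin (m + 1) → Fin N → MvPolynomial (Fin (m + 1)) K, ∃ hf : ∀ i l, f i l ∈ CohB1.polyGrading m K 1,
      ∀ y : CohB1.ProjSpace m K, ∃ (gen : (Twist.twistProjSpace m K (-1)).presheaf.stalk y)
        (L : (Fin (m + 1) → (CohB1.ProjSpace m K).presheaf.stalk y) →ₗ[(CohB1.ProjSpace m K).presheaf.stalk y]
          (Fin N → (CohB1.ProjSpace m K).presheaf.stalk y)),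
        Function.Bijective (LinearMap.toSpanSingleton ((CohB1.ProjSpace m K).presheaf.stalk y) _ gen) ∧
        Function.Injective L ∧
        LinearMap.range L = Submodule.span ((CohB1.ProjSpace m K).presheaf.stalk y)
          ((fun (c : Fin N → X.presheaf.stalk ((gP e).base y)) l => (gP e).stalkMap y (c l)) '' (idealVec b s ((gP e).base y) : Set (Fin N → X.presheaf.stalk ((gP e).base y)))) ∧
        ∀ a : Fin (m + 1) → (CohB1.ProjSpace m K).presheaf.stalk y, ∀ l,
          (L a l) • (Coh.structureModule (CohB1.ProjSpace m K)).presheaf.germ ⊤ y trivial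
              (1 : Γ(CohB1.ProjSpace m K, ⊤)) = ∑ i, stk (mulForm (hf i l)) y (a i • gen) := by
  classical
  obtain ⟨M, hM⟩ := exists_linear e s Φ hA
  refine ⟨formOf Φ b M, formOf_mem Φ b M, fun y => ?_⟩
  let R : Type u := (CohB1.ProjSpace m K).presheaf.stalk y
  letI : IsLocalRing R := inferInstanceAs (IsLocalRing ((CohB1.ProjSpace m K).presheaf.stalk y))
  letI : Algebra K R := pnAlg y
  letI := SBAut.baseAlg (k := k) (K := K) R
  haveI := SBAut.baseAlg_tower (k := k) (K := K) R
  letI := stAlg (k := k) ((gP e).base y)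
  obtain ⟨i, v, h, gen, hv, hgen, hform⟩ := exists_coord y
  obtain ⟨hu, hpt⟩ := hM R v i h
  refine ⟨gen, formVec Φ b M R v, hgen, formVec_injective Φ b M R v hu, ?_, fun a l => ?_⟩
  swap
  · simp only [map_smul, hform, smul_smul]
    rw [← Finset.sum_smul]
    rfl
  obtain ⟨φ, hφ, hφ'⟩ := SBAut.factor_through (R := (X.presheaf.stalk ((gP e).base y) : Type u)) (S := R)
    (X ↘ Spec (CommRingCat.of k)) (X.fromSpecStalk ((gP e).base y))
    (vecToPt e i v h) (Spec.map ((gP e).stalkMap y)) (by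
      show _ = PV.ptVec K i v h ≫ gP e
      rw [hv]
      exact Scheme.SpecMap_stalkMap_fromSpecStalk (gP e))
  have hst : (φ : X.presheaf.stalk ((gP e).base y) →+* R) = ((gP e).stalkMap y).hom :=
    congrArg CommRingCat.Hom.hom (Spec.map_injective hφ')
  have hN : (SBAut.vecPt Φ hA (Nat.succ_pos m) _ hu).1.toSubmodule =
      Submodule.span R (SBAut.bc φ '' ((s.bij _ (stPt (k := k) ((gP e).base y))).1.toSubmodule : Set _)) := by
    rw [hpt, ← hφ, ← SBAut.map_toSubmodule_span]
    exact s.natural _ _ φ (stPt (k := k) ((gP e).base y))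
  have hI : LinearMap.range (formVec Φ b M R v) =
      ((SBAut.vecPt Φ hA (Nat.succ_pos m) _ hu).1.toSubmodule).comap (vecOf b R).toLinearMap :=
    Submodule.ext fun c => (mem_vecPt_iff Φ hA b M R v hu c).symm
  have himg : ((s.bij _ (stPt (k := k) ((gP e).base y))).1.toSubmodule :
        Set (X.presheaf.stalk ((gP e).base y) ⊗[k] A)) =
      vecOf b (X.presheaf.stalk ((gP e).base y)) ''
        (idealVec b s ((gP e).base y) : Set (Fin N → X.presheaf.stalk ((gP e).base y))) :=
    (Set.image_preimage_eq _ (vecOf b (X.presheaf.stalk ((gP e).base y))).surjective).symm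
  rw [hI, hN, himg, Set.image_image]
  have hS : (fun c => SBAut.bc φ (vecOf b (X.presheaf.stalk ((gP e).base y)) c)) =
      fun c => vecOf b R (fun l => (gP e).stalkMap y (c l)) := by
    funext c
    rw [bc_vecOf]
    exact congrArg _ (funext fun l => RingHom.congr_fun hst (c l))
  rw [hS, ← Set.image_image (vecOf b R)
    (fun (c : Fin N → X.presheaf.stalk ((gP e).base y)) l => (gP e).stalkMap y (c l))]
  erw [← Submodule.map_span]
  exact Submodule.comap_map_eq_of_injective (vecOf b R).injective _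

/-- Elements of the stalk of a free decomposition by one module. -/
theorem stk_dec_sum {Y : Scheme.{u}} {G W : Y.Modules} {r : ℕ} (d : ASBunK.Dec G (fun _ : Fin r => W)) (y : Y)
    (z : G.presheaf.stalk y) : z = ∑ i, stk (d.ι i) y (stk (d.π i) y z) := by
  have h := congrArg (fun φ : G ⟶ G => ((DerSch.stalkFunctor Y y).map φ).hom z) d.total
  simp only [Functor.map_sum, Functor.map_comp, ModuleCat.hom_sum, LinearMap.sum_apply] at h
  have h0 : ((DerSch.stalkFunctor Y y).map (𝟙 G)).hom z = z := by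
    rw [(DerSch.stalkFunctor Y y).map_id]
    rfl
  exact (h.trans h0).symm

/-- The map from a power of `O(-1)` given by a matrix of linear forms. -/
def formsMap {N : ℕ} {G : (CohB1.ProjSpace m K).Modules}
    (d : ASBunK.Dec G (fun _ : Fin N => Coh.structureModule (CohB1.ProjSpace m K))) {r : ℕ}
    {f : Fin r → Fin N → MvPolynomial (Fin (m + 1)) K} (hf : ∀ i l, f i l ∈ CohB1.polyGrading m K 1) :
    BrSev.pow (Twist.twistProjSpace m K (-1)) r ⟶ G :=
  Limits.Sigma.desc fun i => ∑ l, mulForm (hf i l) ≫ d.ι l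

theorem stk_formsMap {N : ℕ} {G : (CohB1.ProjSpace m K).Modules}
    (d : ASBunK.Dec G (fun _ : Fin N => Coh.structureModule (CohB1.ProjSpace m K))) {r : ℕ}
    {f : Fin r → Fin N → MvPolynomial (Fin (m + 1)) K} (hf : ∀ i l, f i l ∈ CohB1.polyGrading m K 1)
    (y : CohB1.ProjSpace m K) (i : Fin r) (z : (Twist.twistProjSpace m K (-1)).presheaf.stalk y) :
    stk (formsMap d hf) y (stk ((ASBunK.Dec.coprod (Fs := fun _ : Fin r => Twist.twistProjSpace m K (-1))).ι i) y z) =
      ∑ l, stk (d.ι l) y (stk (mulForm (hf i l)) y z) := by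
  have h : (ASBunK.Dec.coprod (Fs := fun _ : Fin r => Twist.twistProjSpace m K (-1))).ι i ≫ formsMap d hf =
      ∑ l, mulForm (hf i l) ≫ d.ι l := Limits.Sigma.ι_desc _ _
  have h' := congrArg (fun φ => ((DerSch.stalkFunctor _ y).map φ).hom z) h
  simp only [Functor.map_sum, Functor.map_comp, ModuleCat.hom_sum, LinearMap.sum_apply] at h'
  exact h'

include Φ hA in
/-- The tautological bundle becomes a power of `O(-1)`. -/
theorem isTwPow_taut [IsAlgClosed K] [IsProper (X ↘ Spec (CommRingCat.of k))] {N : ℕ}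
    (b : Module.Basis (Fin N) k A) : BrSev.IsTwPow e (-1) (m + 1) (taut b s) := by
  classical
  obtain ⟨f, hf, hy⟩ := exists_ideal_forms e s Φ hA b
  let P := CohB1.ProjSpace m K
  let d := pullFree (gP e) (freeDec X N)
  let Ψ := formsMap d hf
  let dd := ASBunK.Dec.coprod (Fs := fun _ : Fin (m + 1) => Twist.twistProjSpace m K (-1))
  have hval : ∀ (y : P) gen (L : (Fin (m + 1) → P.presheaf.stalk y) →ₗ[P.presheaf.stalk y] (Fin N → P.presheaf.stalk y)),
      (∀ a : Fin (m + 1) → P.presheaf.stalk y, ∀ l, (L a l) • (Coh.structureModule P).presheaf.germ ⊤ y trivial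
        (1 : Γ(P, ⊤)) = ∑ i, stk (mulForm (hf i l)) y (a i • gen)) →
      ∀ a, stk Ψ y (∑ i, stk (dd.ι i) y (a i • gen)) = stkVec d y (L a) := by
    intro y gen L hL a
    rw [map_sum, stkVec, Fintype.linearCombination_apply]
    simp only [Ψ, dd, stk_formsMap]
    rw [Finset.sum_comm]
    refine Finset.sum_congr rfl fun l _ => ?_
    rw [← map_sum, ← hL a l, map_smul, stk_germ]
    rfl
  have hsum : ∀ (y : P) gen, Function.Bijective (LinearMap.toSpanSingleton (P.presheaf.stalk y)
      ((Twist.twistProjSpace m K (-1)).presheaf.stalk y) gen) →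
      ∀ z, ∃ a : Fin (m + 1) → P.presheaf.stalk y, z = ∑ i, stk (dd.ι i) y (a i • gen) := by
    intro y gen hgen z
    choose a ha using fun i => hgen.2 (stk (dd.π i) y z)
    refine ⟨a, (stk_dec_sum dd y z).trans (Finset.sum_congr rfl fun i _ => congrArg (stk (dd.ι i) y) (ha i).symm)⟩
  haveI : Mono Ψ := by
    refine mono_of_stk_injective _ fun y => ?_
    obtain ⟨gen, L, hgen, hinj, -, hL⟩ := hy y
    refine (injective_iff_map_eq_zero _).2 fun z hz => ?_
    obtain ⟨a, rfl⟩ := hsum y gen hgen z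
    rw [hval y gen L hL a] at hz
    have ha : a = 0 := hinj (((stkVec_bijective d y).1 (hz.trans (map_zero _).symm)).trans (map_zero L).symm)
    simp [ha]
  haveI : Mono ((Scheme.Modules.pullback (gP e)).map (tautι b s)) :=
    mono_of_stk_injective _ fun y => stk_pullback_injective _ y _ (exists_retraction b s _)
  obtain ⟨i, -⟩ := nonempty_iso_of_range_eq ((Scheme.Modules.pullback (gP e)).map (tautι b s)) Ψ fun y => by
    obtain ⟨gen, L, hgen, hinj, hrange, hL⟩ := hy y
    have h1 : LinearMap.range (stk Ψ y) = (LinearMap.range L).map (stkVec d y) := by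
      refine le_antisymm ?_ ?_
      · rintro _ ⟨z, rfl⟩
        obtain ⟨a, rfl⟩ := hsum y gen hgen z
        exact ⟨L a, ⟨a, rfl⟩, (hval y gen L hL a).symm⟩
      · rintro _ ⟨_, ⟨a, rfl⟩, rfl⟩
        exact ⟨_, hval y gen L hL a⟩
    rw [range_stk_pullback, h1, hrange, Submodule.map_span, Set.image_image, range_tautι, Submodule.map_coe,
      Set.image_image]
    exact congrArg _ (Set.image_congr fun c _ => pullStk_stkVec (gP e) y (freeDec X N) c)
  let j : BrSev.bcMod (X ↘ Spec (CommRingCat.of k)) K (taut b s) ≅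
      (Scheme.Modules.pullback e.iso.hom).obj ((Scheme.Modules.pullback (gP e)).obj (taut b s)) :=
    (Scheme.Modules.pullbackCongr (show BrSev.proj (X ↘ Spec (CommRingCat.of k)) K = e.iso.hom ≫ gP e by
      rw [gP, Iso.hom_inv_id_assoc])).app (taut b s) ≪≫
      ((Scheme.Modules.pullbackComp e.iso.hom (gP e)).app (taut b s)).symm
  have h := isTwPow_of_dec e (M := taut b s) (j := -1)
    ((dd.map (Scheme.Modules.pullback e.iso.hom)).ofIso ((j ≪≫ (Scheme.Modules.pullback e.iso.hom).mapIso i).symm))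
  rwa [Fintype.card_fin] at h

end Groth.Agent.SBBundle
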