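import Groth.Agent.QCoh.ExtendFT
import Groth.Agent.QCoh.LocFree
import Groth.Agent.RefX.QCoh
import Groth.Agent.KFlatLib.Scheme.PullTensor
import Groth.Agent.ASBunK.Isotypic
import Groth.Prelude.Def_DerSch

/-!
# Submodules given by submodules of the stalks; stalks of free modules
-/

set_option autoImplicit false
set_option backward.isDefEq.respectTransparency false
set_option backward.isDefEq.respectTransparency.types false
set_option linter.unusedSectionVars false

universe u

open CategoryTheory CategoryTheory.Limits AlgebraicGeometry TopologicalSpace Opposite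

noncomputable section

namespace Groth.Agent.SBBundle

variable {X : Scheme.{u}} {G H : X.Modules}

/-- The stalk map of a morphism of modules. -/
abbrev stk (φ : G ⟶ H) (x : X) : G.presheaf.stalk x →ₗ[X.presheaf.stalk x] H.presheaf.stalk x :=
  ((DerSch.stalkFunctor X x).map φ).hom

theorem stk_germ (φ : G ⟶ H) (U : X.Opens) (x : X) (hx : x ∈ U) (m : Γ(G, U)) :
    stk φ x (G.presheaf.germ U x hx m) = H.presheaf.germ U x hx (φ.app U m) :=
  DerSch.stalkFunctor_map_germ x φ U hx m

theorem germ_smul (U : X.Opens) (x : X) (hx : x ∈ U) (a : Γ(X, U)) (m : Γ(G, U)) :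
    G.presheaf.germ U x hx (a • m) = X.presheaf.germ U x hx a • G.presheaf.germ U x hx m :=
  QCoh.germ_smul' G hx a m

/-- Sections whose germs lie in given submodules of the stalks. -/
def stalkSub (S : ∀ x : X, Submodule (X.presheaf.stalk x) (G.presheaf.stalk x)) : QCoh.SubMod G where
  mem U :=
    { carrier := {m | ∀ x, ∀ hx : x ∈ U, G.presheaf.germ U x hx m ∈ S x}
      zero_mem' := fun x hx => by rw [map_zero]; exact zero_mem _
      add_mem' := fun ha hb x hx => by rw [map_add]; exact add_mem (ha x hx) (hb x hx)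
      smul_mem' := fun a m hm x hx => by rw [germ_smul]; exact Submodule.smul_mem _ _ (hm x hx) }
  map_mem := fun {U V} i {s} hs x hx => by
    rw [TopCat.Presheaf.germ_res_apply]
    exact hs x (i hx)
  of_locally U s h x hx := by
    obtain ⟨V, i, hxV, hV⟩ := h x hx
    have := hV x hxV
    rwa [TopCat.Presheaf.germ_res_apply] at this

theorem mem_stalkSub {S : ∀ x : X, Submodule (X.presheaf.stalk x) (G.presheaf.stalk x)} {U : X.Opens}
    {m : Γ(G, U)} : m ∈ (stalkSub S).mem U ↔ ∀ x, ∀ hx : x ∈ U, G.presheaf.germ U x hx m ∈ S x := Iff.rfl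

/-- A germ in the span of germs of sections is locally in the span of the sections. -/
theorem exists_mem_span_of_germ {U : X.Opens} {T : Set Γ(G, U)} (hT : T.Finite) {O : X.Opens} (h : O ≤ U)
    (s : Γ(G, O)) (x : X) (hx : x ∈ O)
    (hs : G.presheaf.germ O x hx s ∈ Submodule.span (X.presheaf.stalk x) (G.presheaf.germ U x (h hx) '' T)) :
    ∃ (P : X.Opens) (hP : P ≤ O), x ∈ P ∧
      QCoh.rs G hP s ∈ Submodule.span Γ(X, P) (QCoh.rs G (hP.trans h) '' T) := by
  classical
  suffices ∀ v ∈ Submodule.span (X.presheaf.stalk x) (G.presheaf.germ U x (h hx) '' T),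
      ∃ (P : X.Opens) (hP : P ≤ O) (hxP : x ∈ P), ∃ w ∈ Submodule.span Γ(X, P) (QCoh.rs G (hP.trans h) '' T),
        G.presheaf.germ P x hxP w = v by
    obtain ⟨P, hP, hxP, w, hw, he⟩ := this _ hs
    obtain ⟨Q, hxQ, i, j, hij⟩ := TopCat.Presheaf.germ_eq G.presheaf x hxP hx w s he
    refine ⟨Q, j.le, hxQ, ?_⟩
    have := QCoh.span_image_rs_le (hP.trans h) i.le hw
    rw [show QCoh.rs G i.le w = QCoh.rs G j.le s from hij] at this
    exact this
  intro v hv
  induction hv using Submodule.span_induction with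
  | mem v hv =>
    obtain ⟨t, ht, rfl⟩ := hv
    exact ⟨O, le_rfl, hx, QCoh.rs G h t, Submodule.subset_span ⟨t, ht, rfl⟩,
      TopCat.Presheaf.germ_res_apply _ _ _ _ _⟩
  | zero => exact ⟨O, le_rfl, hx, 0, zero_mem _, map_zero _⟩
  | add a b _ _ ha hb =>
    obtain ⟨P, hP, hxP, w, hw, rfl⟩ := ha
    obtain ⟨Q, hQ, hxQ, z, hz, rfl⟩ := hb
    refine ⟨P ⊓ Q, inf_le_left.trans hP, ⟨hxP, hxQ⟩, QCoh.rs G inf_le_left w + QCoh.rs G inf_le_right z,
      add_mem (QCoh.span_image_rs_le (hP.trans h) inf_le_left hw)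
        (QCoh.span_image_rs_le (hQ.trans h) inf_le_right hz), ?_⟩
    rw [map_add, TopCat.Presheaf.germ_res_apply, TopCat.Presheaf.germ_res_apply]
  | smul c a _ ha =>
    obtain ⟨P, hP, hxP, w, hw, rfl⟩ := ha
    obtain ⟨Q, hxQ, c', rfl⟩ := X.presheaf.exists_germ_eq c
    refine ⟨P ⊓ Q, inf_le_left.trans hP, ⟨hxP, hxQ⟩, QCoh.rf X inf_le_right c' • QCoh.rs G inf_le_left w,
      Submodule.smul_mem _ _ (QCoh.span_image_rs_le (hP.trans h) inf_le_left hw), ?_⟩
    rw [germ_smul, TopCat.Presheaf.germ_res_apply, TopCat.Presheaf.germ_res_apply]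

/-- The stalk map of the inclusion of a submodule given by stalks is injective. -/
theorem stk_injective {M N : X.Modules} (f : M ⟶ N) [Mono f] (x : X) : Function.Injective (stk f x) :=
  (ModuleCat.mono_iff_injective _).1 inferInstance

/-- Two monomorphisms with the same images on stalks have isomorphic sources. -/
theorem nonempty_iso_of_range_eq {A B M : X.Modules} (f : A ⟶ M) (g : B ⟶ M) [Mono f] [Mono g]
    (h : ∀ x, LinearMap.range (stk f x) = LinearMap.range (stk g x)) :
    ∃ i : A ≅ B, i.hom ≫ g = f := by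
  suffices ∀ {A B : X.Modules} (f : A ⟶ M) (g : B ⟶ M) [Mono g],
      (∀ x, LinearMap.range (stk f x) ≤ LinearMap.range (stk g x)) → ∃ l : A ⟶ B, l ≫ g = f by
    obtain ⟨l, hl⟩ := this f g fun x => (h x).le
    obtain ⟨l', hl'⟩ := this g f fun x => (h x).ge
    exact ⟨⟨l, l', (cancel_mono f).1 (by rw [Category.assoc, hl', hl, Category.id_comp]),
      (cancel_mono g).1 (by rw [Category.assoc, hl, hl', Category.id_comp])⟩, hl⟩
  intro A B f g _ hle
  have h0 : f ≫ cokernel.π g = 0 := by
    refine Scheme.Modules.hom_ext _ _ fun U => ?_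
    ext m
    refine ZClosLib.section_ext (cokernel g) _ _ fun x hx => ?_
    obtain ⟨b, hb⟩ := hle x ⟨A.presheaf.germ U x hx m, rfl⟩
    show (cokernel g).presheaf.germ U x hx ((f ≫ cokernel.π g).app U m) =
      (cokernel g).presheaf.germ U x hx ((0 : A ⟶ cokernel g).app U m)
    rw [← stk_germ, ← stk_germ]
    show ((DerSch.stalkFunctor X x).map (f ≫ cokernel.π g)).hom _ =
      ((DerSch.stalkFunctor X x).map (0 : A ⟶ cokernel g)).hom _
    rw [Functor.map_comp, Functor.map_zero]
    show stk (cokernel.π g) x (stk f x _) = 0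
    rw [← hb]
    show ((DerSch.stalkFunctor X x).map g ≫ (DerSch.stalkFunctor X x).map (cokernel.π g)).hom b = 0
    rw [← Functor.map_comp, cokernel.condition, Functor.map_zero]
    rfl
  exact ⟨Abelian.monoLift g f h0, Abelian.monoLift_comp _ _ _⟩

/-- A morphism whose stalk maps are injective is a monomorphism. -/
theorem mono_of_stk_injective {M N : X.Modules} (f : M ⟶ N) (h : ∀ x, Function.Injective (stk f x)) :
    Mono f := by
  refine QCoh.mono_of_app_injective _ fun U a b hab => ZClosLib.section_ext M _ _ fun x hx => h x ?_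
  rw [stk_germ, stk_germ, hab]

section Free

variable {N : ℕ} (d : ASBunK.Dec G (fun _ : Fin N => Coh.structureModule X))

/-- The sections given by coordinates. -/
def secOf (U : X.Opens) (a : Fin N → Γ(X, U)) : Γ(G, U) := ∑ i, (d.ι i).app U (a i)

/-- The coordinates of a section. -/
def crdOf (U : X.Opens) (m : Γ(G, U)) : Fin N → Γ(X, U) := fun i => (d.π i).app U m

theorem secOf_crdOf (U : X.Opens) (m : Γ(G, U)) : secOf d U (crdOf d U m) = m := by
  conv_rhs => rw [show m = (𝟙 G : G ⟶ G).app U m from rfl, ← d.total]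
  rw [QCoh.app_sum]
  rfl

theorem crdOf_secOf (U : X.Opens) (a : Fin N → Γ(X, U)) : crdOf d U (secOf d U a) = a := by
  funext j
  simp only [crdOf, secOf, map_sum]
  rw [Finset.sum_eq_single j]
  · exact congrArg (fun φ : Coh.structureModule X ⟶ Coh.structureModule X => φ.app U (a j)) (d.ι_π j)
  · exact fun i _ hi => (congrArg (fun φ : Coh.structureModule X ⟶ Coh.structureModule X => φ.app U (a i))
      (d.ι_π_ne i j hi)).trans rfl
  · simp

/-- The basic global sections. -/
def unitVec (i : Fin N) : Γ(G, ⊤) := (d.ι i).app ⊤ (1 : Γ(X, ⊤))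

theorem secOf_eq (U : X.Opens) (a : Fin N → Γ(X, U)) :
    secOf d U a = ∑ i, a i • G.presheaf.map (homOfLE (le_top : U ≤ ⊤)).op (unitVec d i) := by
  refine Finset.sum_congr rfl fun i _ => ?_
  let a' : Γ(Coh.structureModule X, U) := a i
  let one' : Γ(Coh.structureModule X, ⊤) := (1 : Γ(X, ⊤))
  have h := QCoh.map_app_comm (d.ι i) (homOfLE (le_top : U ≤ ⊤)) one'
  show (d.ι i).app U a' = a i • G.presheaf.map (homOfLE (le_top : U ≤ ⊤)).op ((d.ι i).app ⊤ one')
  rw [← h, ← Scheme.Modules.Hom.app_smul]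
  refine congrArg _ ?_
  show a i = a i * X.presheaf.map (homOfLE (le_top : U ≤ ⊤)).op 1
  rw [map_one, mul_one]

variable (x : X)

/-- The stalk of a free module in coordinates. -/
def stkVec : (Fin N → X.presheaf.stalk x) →ₗ[X.presheaf.stalk x] G.presheaf.stalk x :=
  Fintype.linearCombination (X.presheaf.stalk x) fun i => G.presheaf.germ ⊤ x trivial (unitVec d i)

theorem stkVec_germ (U : X.Opens) (hx : x ∈ U) (a : Fin N → Γ(X, U)) :
    stkVec d x (fun i => X.presheaf.germ U x hx (a i)) = G.presheaf.germ U x hx (secOf d U a) := by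
  rw [stkVec, Fintype.linearCombination_apply, secOf_eq, map_sum]
  exact Finset.sum_congr rfl fun i _ => by rw [germ_smul, TopCat.Presheaf.germ_res_apply]

theorem exists_germ_vec (c : Fin N → X.presheaf.stalk x) :
    ∃ (U : X.Opens) (hx : x ∈ U) (a : Fin N → Γ(X, U)), (fun i => X.presheaf.germ U x hx (a i)) = c := by
  classical
  choose U hU a ha using fun i => X.presheaf.exists_germ_eq (c i)
  refine ⟨Finset.univ.inf U, ?_, fun i =>
    X.presheaf.map (homOfLE (Finset.inf_le (Finset.mem_univ i))).op (a i), funext fun i => ?_⟩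
  · rw [← SetLike.mem_coe, Opens.coe_finset_inf, Finset.inf_eq_iInf]
    simpa using hU
  rw [TopCat.Presheaf.germ_res_apply]
  exact ha i

theorem stkVec_bijective : Function.Bijective (stkVec d x) := by
  refine ⟨(injective_iff_map_eq_zero _).2 fun c hc => ?_, fun v => ?_⟩
  · obtain ⟨U, hx, a, rfl⟩ := exists_germ_vec x c
    rw [stkVec_germ d x U hx] at hc
    obtain ⟨W, hxW, i, i', hW⟩ := TopCat.Presheaf.germ_eq G.presheaf x hx hx (secOf d U a) 0
      (hc.trans (map_zero _).symm)
    funext j
    have h1 := congrArg (fun m => crdOf d W m j) hW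
    rw [map_zero] at h1
    have h2 : crdOf d W (G.presheaf.map i.op (secOf d U a)) j = X.presheaf.map i.op (a j) :=
      (QCoh.map_app_comm (d.π j) i (secOf d U a)).trans
        (congrArg (fun z => (Coh.structureModule X).presheaf.map i.op z) (congrFun (crdOf_secOf d U a) j))
    have h3 : crdOf d W (0 : Γ(G, W)) j = 0 := map_zero _
    rw [h2, h3] at h1
    show X.presheaf.germ U x hx (a j) = 0
    rw [← X.presheaf.germ_res_apply i x hxW, h1, map_zero]
  · obtain ⟨U, hx, m, rfl⟩ := TopCat.Presheaf.exists_germ_eq G.presheaf v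
    exact ⟨fun i => X.presheaf.germ U x hx (crdOf d U m i), by rw [stkVec_germ, secOf_crdOf]⟩

theorem stkVec_crd (U : X.Opens) (hx : x ∈ U) (m : Γ(G, U)) :
    stkVec d x (fun i => X.presheaf.germ U x hx (crdOf d U m i)) = G.presheaf.germ U x hx m := by
  rw [stkVec_germ, secOf_crdOf]

end Free

end Groth.Agent.SBBundle
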